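/-
One symplectic factor: dyads, adjoints, isometries moving vectors and pairs, and generation of all matrices.
-/
import Cfsg.Agent.Geo.TensorPow.Sp.Group
import Cfsg.Agent.Classical.SymplecticBasic

set_option autoImplicit false
set_option linter.unusedSectionVars false

namespace CfsgLib.Geo.TensorPow.OS

open Matrix CfsgLib.Aschbacher
open scoped MatrixGroups

variable {F : Type*} [Field F] {r : ℕ}

local notation "E" => (Fin (r + r) → F)
local notation "M₁" => Matrix (Fin (r + r)) (Fin (r + r)) F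

/-- The symplectic form of a factor. -/
def om (x y : E) : F := x ᵥ* jm r F ⬝ᵥ y

/-- The dyad of two vectors. -/
def dy (x y : E) : M₁ := vecMulVec x (y ᵥ* jm r F)

/-- The element of the root group at a vector. -/
def dd (u : E) : M₁ := dy u u

/-- The twisted sum of the two dyads of a pair. -/
def kk (s : F) (p q : E) : M₁ := dy p q - s • dy q p

/-- The symmetric sum of the two dyads of a pair. -/
def nn (u a : E) : M₁ := dy a u + dy u a

lemma jm_eq : jm r F = (Matrix.J (Fin r) F).submatrix (hv r).symm (hv r).symm := rfl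

lemma om_eq_form (x y : E) : om x y = CfsgLib.Symp.form (x ∘ hv r) (y ∘ hv r) := by
  rw [om, ← Matrix.dotProduct_mulVec, CfsgLib.Symp.form, jm_eq, Matrix.submatrix_mulVec_equiv, Equiv.symm_symm]
  simp only [dotProduct]
  exact Fintype.sum_equiv (hv r).symm _ _ fun i => by simp

lemma om_self (x : E) : om x x = 0 := by rw [om_eq_form, CfsgLib.Symp.form_self]

lemma om_add_left (x x' y : E) : om (x + x') y = om x y + om x' y := by
  simp [om, Matrix.add_vecMul]

lemma om_add_right (x y y' : E) : om x (y + y') = om x y + om x y' := by simp [om]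

lemma om_smul_left (c : F) (x y : E) : om (c • x) y = c * om x y := by simp [om, Matrix.smul_vecMul]

lemma om_smul_right (c : F) (x y : E) : om x (c • y) = c * om x y := by simp [om]

lemma om_swap (x y : E) : om y x = -om x y := by
  have := om_self (x + y)
  rw [om_add_left, om_add_right, om_add_right, om_self, om_self] at this
  linear_combination this

lemma om_zero_left (y : E) : om (0 : E) y = 0 := by simp [om]

lemma om_zero_right (y : E) : om y (0 : E) = 0 := by simp [om]

lemma om_neg_left (x y : E) : om (-x) y = -om x y := by simp [om, Matrix.neg_vecMul]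

lemma om_neg_right (x y : E) : om x (-y) = -om x y := by simp [om]

lemma om_sub_left (x x' y : E) : om (x - x') y = om x y - om x' y := by simp [om, Matrix.sub_vecMul]

lemma om_sub_right (x y y' : E) : om x (y - y') = om x y - om x y' := by simp [om]

lemma om_swap0 {x y : E} (h : om x y = 0) : om y x = 0 := by rw [om_swap, h, neg_zero]

lemma eq_zero_of_om {x : E} (h : ∀ y, om x y = 0) : x = 0 := by
  have hx : x ∘ hv r = 0 := CfsgLib.Symp.eq_zero_of_form_eq_zero fun u => by
    have := h (u ∘ (hv r).symm)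
    rw [om_eq_form, Function.comp_assoc, Equiv.symm_comp_self, Function.comp_id, CfsgLib.Symp.form_swap,
      neg_eq_zero] at this
    exact this
  funext i
  simpa using congrFun hx ((hv r).symm i)

lemma dy_mulVec (x y z : E) : dy x y *ᵥ z = om y z • x := by
  rw [dy, Matrix.vecMulVec_mulVec, op_smul_eq_smul, om]

lemma dy_mul_dy (a b c d : E) : dy a b * dy c d = om b c • dy a d := by
  simp only [dy, Matrix.vecMulVec_mul_vecMulVec, Matrix.vecMulVec_smul, om]

lemma mul_dy (X : M₁) (x y : E) : X * dy x y = dy (X *ᵥ x) y := Matrix.mul_vecMulVec ..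

lemma dy_mul (x y : E) (X : M₁) : dy x y * X = dy x (spInv X *ᵥ y) := by
  rw [dy, dy, Matrix.vecMulVec_mul]
  congr 1
  have hjj : jm r F * (jm r F)ᵀ = 1 := by rw [jm_transpose, mul_neg, jm_sq, neg_neg]
  rw [← Matrix.vecMul_transpose (spInv X), Matrix.vecMul_vecMul, Matrix.vecMul_vecMul, spInv, Matrix.transpose_neg,
    Matrix.transpose_mul, Matrix.transpose_mul, Matrix.transpose_transpose, jm_transpose, Matrix.mul_neg,
    Matrix.neg_mul, Matrix.mul_neg]
  simp only [neg_neg, neg_mul, mul_assoc, jm_sq, mul_neg, mul_one]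

lemma dy_add_left (x x' y : E) : dy (x + x') y = dy x y + dy x' y := Matrix.add_vecMulVec ..

lemma dy_add_right (x y y' : E) : dy x (y + y') = dy x y + dy x y' := by
  simp [dy, Matrix.add_vecMul, Matrix.vecMulVec_add]

lemma dy_smul_left (c : F) (x y : E) : dy (c • x) y = c • dy x y := Matrix.smul_vecMulVec ..

lemma dy_smul_right (c : F) (x y : E) : dy x (c • y) = c • dy x y := by
  simp [dy, Matrix.smul_vecMul, Matrix.vecMulVec_smul]

lemma dy_zero_left (y : E) : dy (0 : E) y = 0 := Matrix.zero_vecMulVec ..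

lemma dy_zero_right (y : E) : dy y (0 : E) = 0 := by simp [dy]

lemma dy_neg_left (x y : E) : dy (-x) y = -dy x y := by
  rw [← neg_one_smul F x, dy_smul_left, neg_one_smul]

lemma dy_neg_right (x y : E) : dy x (-y) = -dy x y := by
  rw [← neg_one_smul F y, dy_smul_right, neg_one_smul]

lemma dy_sub_left (x x' y : E) : dy (x - x') y = dy x y - dy x' y := by
  rw [sub_eq_add_neg, dy_add_left, dy_neg_left, sub_eq_add_neg]

lemma dy_sub_right (x y y' : E) : dy x (y - y') = dy x y - dy x y' := by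
  rw [sub_eq_add_neg, dy_add_right, dy_neg_right, sub_eq_add_neg]

/-! ### Adjoints -/

lemma spInv_add (X Y : M₁) : spInv (X + Y) = spInv X + spInv Y := by
  simp [spInv, Matrix.transpose_add, mul_add, add_mul]; abel

lemma spInv_smul (c : F) (X : M₁) : spInv (c • X) = c • spInv X := by
  simp [spInv, Matrix.transpose_smul]

lemma spInv_one : spInv (1 : M₁) = 1 := by simp [spInv, jm_sq]

lemma spInv_neg (X : M₁) : spInv (-X) = -spInv X := by simp [spInv]

lemma spInv_sub (X Y : M₁) : spInv (X - Y) = spInv X - spInv Y := by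
  rw [sub_eq_add_neg, spInv_add, spInv_neg, sub_eq_add_neg]

lemma spInv_mul_rev (X Y : M₁) : spInv (X * Y) = spInv Y * spInv X := by
  simp only [spInv, Matrix.transpose_mul, neg_mul_neg]
  symm
  calc jm r F * Yᵀ * jm r F * (jm r F * Xᵀ * jm r F) = jm r F * Yᵀ * (jm r F * jm r F) * Xᵀ * jm r F := by
        simp only [mul_assoc]
    _ = _ := by rw [jm_sq]; simp [mul_assoc]

lemma spInv_dy (x y : E) : spInv (dy x y) = -dy y x := by
  rw [spInv, dy, dy, Matrix.transpose_vecMulVec, Matrix.mul_vecMulVec, Matrix.vecMulVec_mul, neg_inj]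
  congr 1
  rw [← Matrix.mulVec_transpose, Matrix.mulVec_mulVec, jm_transpose, mul_neg, jm_sq, neg_neg, Matrix.one_mulVec]

lemma spInv_dd (u : E) : spInv (dd u) = -dd u := spInv_dy u u

lemma spInv_nn (u a : E) : spInv (nn u a) = -nn u a := by
  rw [nn, spInv_add, spInv_dy, spInv_dy, neg_add]; abel

lemma isSp_iff {h : M₁} : IsSp h ↔ spInv h * h = 1 := by
  refine ⟨IsSp.spInv_mul, fun e => ?_⟩
  have h1 := congrArg (jm r F * ·) e
  simp only [mul_one, spInv, neg_mul, mul_neg, ← mul_assoc, jm_sq] at h1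
  simpa [IsSp, mul_assoc] using h1

lemma isSp_one_add {N : M₁} (hs : spInv N = -N) (hN : N * N = 0) : IsSp (1 + N) := by
  rw [isSp_iff, spInv_add, spInv_one, hs, add_mul, one_mul, neg_mul, mul_add, mul_one, hN]
  abel

lemma isSp_one : IsSp (1 : M₁) := by simp [IsSp]

lemma isSp_spInv {h : M₁} (hh : IsSp h) : IsSp (spInv h) := hh.inv hh.mul_spInv

lemma IsSp.spInv_spInv {h : M₁} (hh : IsSp h) : spInv (spInv h) = h := by
  have := congrArg (· * h) (isSp_spInv hh).spInv_mul
  simpa [mul_assoc, hh.spInv_mul] using this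

lemma sp_om {h : M₁} (hh : IsSp h) (x y : E) : om (h *ᵥ x) (h *ᵥ y) = om x y := by
  rw [om, om, ← Matrix.vecMul_transpose h x, Matrix.vecMul_vecMul, Matrix.dotProduct_mulVec, Matrix.vecMul_vecMul,
    show hᵀ * jm r F * h = jm r F from hh]

lemma sp_conj_dy {h : M₁} (hh : IsSp h) (x y : E) : h * dy x y * spInv h = dy (h *ᵥ x) (h *ᵥ y) := by
  rw [mul_dy, dy_mul, IsSp.spInv_spInv hh]

lemma sp_inj {h : M₁} (hh : IsSp h) {x : E} (hx : x ≠ 0) : h *ᵥ x ≠ 0 := fun e => hx (by
  have := congrArg (spInv h *ᵥ ·) e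
  simpa [Matrix.mulVec_mulVec, hh.spInv_mul] using this)

lemma isSp_root (c : F) (u : E) : IsSp (1 + c • dd u) :=
  isSp_one_add (by rw [spInv_smul, spInv_dd, smul_neg])
    (by rw [smul_mul_smul_comm, dd, dy_mul_dy, om_self, zero_smul, smul_zero])

lemma dd_sq (u : E) : dd u * dd u = 0 := by rw [dd, dy_mul_dy, om_self, zero_smul]

lemma nn_sq {u a : E} (ha : om a u = 0) : nn u a * nn u a = 0 := by
  simp [nn, add_mul, mul_add, dy_mul_dy, om_self, ha, om_swap0 ha]

lemma isSp_nn {u a : E} (ha : om a u = 0) : IsSp (1 + nn u a) := isSp_one_add (spInv_nn u a) (nn_sq ha)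

lemma dy_ne_zero {x y : E} (hx : x ≠ 0) (hy : y ≠ 0) : dy x y ≠ 0 := fun h => by
  obtain ⟨z, hz⟩ : ∃ z, om y z ≠ 0 := by
    by_contra hc; push Not at hc; exact hy (eq_zero_of_om hc)
  have := congrArg (· *ᵥ z) h
  simp [dy_mulVec, hz, hx] at this

lemma dd_ne_zero {u : E} (hu : u ≠ 0) : dd u ≠ 0 := dy_ne_zero hu hu

/-! ### Duals and transitivity -/

/-- Vectors with prescribed products with an independent family. -/
lemma exists_dual {k : ℕ} (us : Fin k → E) (hu : LinearIndependent F us) (c : Fin k → F) :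
    ∃ a : E, ∀ i, om a (us i) = c i := by
  let φ : E →ₗ[F] (Fin k → F) :=
    { toFun := fun a i => om a (us i)
      map_add' := fun a b => funext fun i => om_add_left a b (us i)
      map_smul' := fun c a => funext fun i => om_smul_left c a (us i) }
  suffices Function.Surjective φ by
    obtain ⟨a, ha⟩ := this c
    exact ⟨a, congrFun ha⟩
  rw [← LinearMap.range_eq_top]
  by_contra hne
  obtain ⟨f, hf0, hf⟩ := Submodule.exists_le_ker_of_lt_top _ (lt_top_iff_ne_top.2 hne)
  refine hf0 ?_
  have hsum : ∑ i, f (Pi.single i 1) • us i = 0 := eq_zero_of_om fun y => by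
    have h0 : f (φ y) = 0 := hf ⟨y, rfl⟩
    rw [pi_eq_sum_univ' (φ y), map_sum] at h0
    simp only [map_smul, smul_eq_mul] at h0
    rw [om, Matrix.sum_vecMul, sum_dotProduct]
    rw [← neg_eq_zero, ← Finset.sum_neg_distrib]
    rw [← h0]
    refine Finset.sum_congr rfl fun i _ => ?_
    show -(om (f (Pi.single i 1) • us i) y) = om y (us i) * _
    rw [om_smul_left, ← mul_neg, ← om_swap, mul_comm]
  have hz := Fintype.linearIndependent_iff.1 hu _ hsum
  refine LinearMap.pi_ext' fun i => LinearMap.ext_ring ?_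
  simpa using hz i

/-- The matrix of a symplectic transformation. -/
def spMat (g : Matrix.symplecticGroup (Fin r) F) : M₁ :=
  (g : Matrix (Fin r ⊕ Fin r) (Fin r ⊕ Fin r) F).submatrix (hv r).symm (hv r).symm

lemma isSp_spMat (g : Matrix.symplecticGroup (Fin r) F) : IsSp (spMat g) := by
  rw [IsSp, spMat, jm_eq, Matrix.transpose_submatrix, Matrix.submatrix_mul_equiv, Matrix.submatrix_mul_equiv,
    SymplecticGroup.mem_iff'.1 g.2]

lemma spMat_mulVec (g : Matrix.symplecticGroup (Fin r) F) (x : E) :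
    (spMat g *ᵥ x) ∘ hv r = g • (x ∘ hv r) := by
  rw [spMat, Matrix.submatrix_mulVec_equiv, Equiv.symm_symm, Function.comp_assoc, Equiv.symm_comp_self,
    Function.comp_id]
  rfl

lemma comp_hv_ne {x : E} (hx : x ≠ 0) : x ∘ hv r ≠ 0 := fun h => hx (funext fun i => by
  simpa using congrFun h ((hv r).symm i))

lemma spMat_eq {g : Matrix.symplecticGroup (Fin r) F} {x y : E} (h : g • (x ∘ hv r) = y ∘ hv r) :
    spMat g *ᵥ x = y := funext fun i => by
  simpa using congrFun ((spMat_mulVec g x).trans h) ((hv r).symm i)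

/-- Transitivity on non-zero vectors. -/
lemma exists_sp_vec {u u' : E} (hu : u ≠ 0) (hu' : u' ≠ 0) : ∃ h : M₁, IsSp h ∧ h *ᵥ u = u' := by
  obtain ⟨g, hg⟩ := CfsgLib.Symp.exists_smul_eq_of_ne_zero (comp_hv_ne hu) (comp_hv_ne hu')
  exact ⟨_, isSp_spMat g, spMat_eq hg⟩

/-- Transitivity on pairs with a given non-zero product. -/
lemma exists_sp_pair {u v u' v' : E} (h : om u v ≠ 0) (h' : om u' v' = om u v) :
    ∃ g : M₁, IsSp g ∧ g *ᵥ u = u' ∧ g *ᵥ v = v' := by
  set c := (om u v)⁻¹
  obtain ⟨g, -, g1, g2⟩ := CfsgLib.Symp.exists_tvGroup_smul_pair (W := (⊤ : Submodule F (Fin r ⊕ Fin r → F)))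
    (u := (c • u) ∘ hv r) (v := v ∘ hv r) (u' := (c • u') ∘ hv r) (v' := v' ∘ hv r) trivial trivial trivial trivial
    (by rw [← om_eq_form, om_smul_left, inv_mul_cancel₀ h])
    (by rw [← om_eq_form, om_smul_left, h', inv_mul_cancel₀ h])
  refine ⟨_, isSp_spMat g, ?_, spMat_eq g2⟩
  have := spMat_eq g1
  rw [Matrix.mulVec_smul] at this
  exact smul_right_injective E (inv_ne_zero h) this

/-- Transitivity on independent orthogonal pairs. -/
lemma exists_sp_orth {p q p' q' : E} (h : LinearIndependent F ![p, q]) (ho : om p q = 0)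
    (h' : LinearIndependent F ![p', q']) (ho' : om p' q' = 0) :
    ∃ g : M₁, IsSp g ∧ g *ᵥ p = p' ∧ g *ᵥ q = q' := by
  obtain ⟨g₁, hg₁, h₁⟩ := exists_sp_vec (h.ne_zero 0) (h'.ne_zero 0)
  simp only [Matrix.cons_val_zero] at h₁
  set q₁ := g₁ *ᵥ q with hq₁
  have hli : LinearIndependent F ![p', q₁] := by
    have hinj : Function.Injective g₁.mulVecLin := fun x y hxy => by
      have := congrArg (spInv g₁ *ᵥ ·) (show g₁ *ᵥ x = g₁ *ᵥ y from hxy)
      simpa [Matrix.mulVec_mulVec, hg₁.spInv_mul] using this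
    have := h.map' g₁.mulVecLin (LinearMap.ker_eq_bot.2 hinj)
    rwa [show (⇑g₁.mulVecLin ∘ ![p, q]) = ![p', q₁] by funext i; fin_cases i <;> simp [h₁, hq₁]] at this
  let W : Submodule F (Fin r ⊕ Fin r → F) :=
    { carrier := {z | CfsgLib.Symp.form (p' ∘ hv r) z = 0}
      add_mem' := fun {a b} ha hb => by
        simp only [Set.mem_ofPred_eq] at *
        rw [CfsgLib.Symp.form_add_right, ha, hb, add_zero]
      zero_mem' := CfsgLib.Symp.form_zero_right _
      smul_mem' := fun c a ha => by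
        simp only [Set.mem_ofPred_eq] at *
        rw [CfsgLib.Symp.form_smul_right, ha, mul_zero] }
  have hW : ∀ z : E, om p' z = 0 → z ∘ hv r ∈ W := fun z hz => by
    show CfsgLib.Symp.form (p' ∘ hv r) (z ∘ hv r) = 0
    rw [← om_eq_form, hz]
  have hw : ∀ q₂ : E, LinearIndependent F ![p', q₂] →
      ∃ w ∈ W, CfsgLib.Symp.form (q₂ ∘ hv r) w ≠ 0 := fun q₂ hl => by
    obtain ⟨a, ha⟩ := exists_dual ![p', q₂] hl ![0, 1]
    refine ⟨a ∘ hv r, hW a ?_, ?_⟩
    · rw [om_swap, show om a p' = 0 from ha 0, neg_zero]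
    · rw [← om_eq_form, om_swap, show om a q₂ = 1 from ha 1]
      exact neg_ne_zero.2 one_ne_zero
  have hq₁W : q₁ ∘ hv r ∈ W := hW _ (by rw [hq₁, ← h₁, sp_om hg₁, ho])
  obtain ⟨g, hg, hgq⟩ := CfsgLib.Symp.exists_tvGroup_smul hq₁W (hW _ ho') (hw _ hli) (hw _ h')
  refine ⟨spMat g * g₁, (isSp_spMat g).mul hg₁, ?_, ?_⟩
  · rw [← Matrix.mulVec_mulVec, h₁]
    exact spMat_eq (CfsgLib.Symp.tvGroup_fix hg fun w hw => hw)
  · rw [← Matrix.mulVec_mulVec, ← hq₁]
    exact spMat_eq hgq

/-- The partner of a pair. -/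
lemma exists_partner {u : E} (hu : u ≠ 0) : ∃ v : E, om u v = 1 := by
  obtain ⟨a, ha⟩ := exists_dual ![u] (LinearIndependent.of_subsingleton 0 hu) ![1]
  exact ⟨-a, by rw [om_neg_right, om_swap, show om a u = 1 from ha 0, neg_neg]⟩

lemma indep_of_om {u v : E} (h : om u v ≠ 0) : LinearIndependent F ![u, v] := by
  refine LinearIndependent.pair_iff.2 fun a b hab => ?_
  have h1 := congrArg (fun z => om z v) hab
  have h2 := congrArg (fun z => om u z) hab
  simp only [om_add_left, om_add_right, om_smul_left, om_smul_right, om_self, om_zero_left, om_zero_right, mul_zero,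
    add_zero, zero_add, mul_eq_zero, h, or_false] at h1 h2
  exact ⟨h1, h2⟩

/-- An element fixing `z` and adding it to `p`. -/
lemma exists_shear {p z : E} (h : LinearIndependent F ![p, z]) (ho : om p z = 0) :
    ∃ g : M₁, IsSp g ∧ g *ᵥ p = p + z ∧ g *ᵥ z = z := by
  obtain ⟨a, ha⟩ := exists_dual ![p, z] h ![1, 0]
  have ha1 : om a p = 1 := ha 0
  have ha2 : om a z = 0 := ha 1
  refine ⟨1 + nn z a, isSp_nn ha2, ?_, ?_⟩
  · simp [nn, Matrix.add_mulVec, dy_mulVec, ha1, om_swap0 ho]
  · simp [nn, Matrix.add_mulVec, dy_mulVec, ha2, om_self]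

/-- Matrices containing the root elements and closed under sums, multiples and products are all matrices. -/
lemma mat_induction (p : M₁ → Prop) (hadd : ∀ A B, p A → p B → p (A + B))
    (hsmul : ∀ (c : F) A, p A → p (c • A)) (hmul : ∀ A B, p A → p B → p (A * B))
    (hroot : ∀ u : E, p (dd u)) (Z : M₁) : p Z := by
  classical
  have h0 : p 0 := by simpa using hsmul 0 _ (hroot 0)
  have one : ∀ u w : E, om u w ≠ 0 → p (dy u w) := fun u w h => by
    have := hsmul (om u w)⁻¹ _ (hmul _ _ (hroot u) (hroot w))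
    rwa [dd, dd, dy_mul_dy, smul_smul, inv_mul_cancel₀ h, one_smul] at this
  have hall : ∀ u w : E, p (dy u w) := by
    intro u w
    rcases eq_or_ne u 0 with rfl | hu
    · simpa [dy_zero_left] using h0
    rcases eq_or_ne w 0 with rfl | hw
    · simpa [dy_zero_right] using h0
    by_cases h : om u w ≠ 0
    · exact one u w h
    push Not at h
    obtain ⟨z, hz1, hz2⟩ : ∃ z, om u z ≠ 0 ∧ om z w ≠ 0 := by
      obtain ⟨a, ha⟩ := exists_partner hu
      obtain ⟨b, hb⟩ := exists_partner hw
      by_cases h1 : om a w ≠ 0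
      · exact ⟨a, by rw [ha]; exact one_ne_zero, h1⟩
      by_cases h2 : om u b ≠ 0
      · exact ⟨b, h2, by rw [om_swap, hb]; simp⟩
      push Not at h1 h2
      exact ⟨a + b, by rw [om_add_right, ha, h2, add_zero]; exact one_ne_zero,
        by rw [om_add_left, h1, zero_add, om_swap, hb]; simp⟩
    have := hsmul (om z z + om u z)⁻¹ _ (hmul _ _ (hroot u) (one z w hz2))
    rwa [om_self, zero_add, dd, dy_mul_dy, smul_smul, inv_mul_cancel₀ hz1, one_smul] at this
  rw [Matrix.matrix_eq_sum_single Z]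
  refine Finset.sum_induction _ p hadd h0 fun a _ => Finset.sum_induction _ p hadd h0 fun b _ => ?_
  rw [show Matrix.single a b (Z a b) = Z a b • dy (Pi.single a 1) (-((Pi.single b 1 : E) ᵥ* jm r F)) from ?_]
  · exact hsmul _ _ (hall _ _)
  · rw [dy, Matrix.neg_vecMul, Matrix.vecMul_vecMul, jm_sq, Matrix.vecMul_neg, neg_neg, Matrix.vecMul_one]
    refine Matrix.ext fun x y => ?_
    simp only [Matrix.single_apply, Matrix.smul_apply, Matrix.vecMulVec_apply, Pi.single_apply, smul_eq_mul, ite_and,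
      mul_ite, mul_one, mul_zero, eq_comm (a := a), eq_comm (a := b)]
    split_ifs <;> rfl

/-- A matrix vanishing on the orthogonal pairs is a multiple of the form. -/
lemma exists_om_of_orth {B : M₁} (h : ∀ p z : E, om p z = 0 → p ⬝ᵥ (B *ᵥ z) = 0) :
    ∃ l : F, ∀ p z : E, p ⬝ᵥ (B *ᵥ z) = l * om p z := by
  rcases r.eq_zero_or_pos with hr | hr
  · subst hr; exact ⟨0, fun p z => by simp [dotProduct]⟩
  obtain ⟨u, hu⟩ : ∃ u : E, u ≠ 0 := ⟨Pi.single ⟨0, by omega⟩ 1, by simp⟩
  obtain ⟨v, hv'⟩ := exists_partner hu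
  refine ⟨u ⬝ᵥ (B *ᵥ v), fun p z => ?_⟩
  have key : ∀ p a b : E, p ⬝ᵥ (B *ᵥ a) * om p b = p ⬝ᵥ (B *ᵥ b) * om p a := fun p a b => by
    have h0 := h p (om p b • a - om p a • b) (by rw [om_sub_right, om_smul_right, om_smul_right]; ring)
    rw [Matrix.mulVec_sub, Matrix.mulVec_smul, Matrix.mulVec_smul, dotProduct_sub, dotProduct_smul, dotProduct_smul,
      smul_eq_mul, smul_eq_mul] at h0
    linear_combination h0
  have hlam : ∀ p : E, ∃ l, ∀ z, p ⬝ᵥ (B *ᵥ z) = l * om p z := fun p => by
    rcases eq_or_ne p 0 with rfl | hp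
    · exact ⟨0, fun z => by simp⟩
    obtain ⟨v', hv''⟩ := exists_partner hp
    exact ⟨p ⬝ᵥ (B *ᵥ v'), fun z => by have := key p z v'; rw [hv'', mul_one] at this; exact this⟩
  choose l hl using hlam
  have hlu : u ⬝ᵥ (B *ᵥ v) = l u := by rw [hl u v, hv', mul_one]
  rw [hl p z, hlu]
  rcases eq_or_ne p 0 with rfl | hp
  · simp [om_zero_left]
  congr 1
  by_cases hdep : LinearIndependent F ![u, p]
  · obtain ⟨a, ha⟩ := exists_dual ![u, p] hdep ![-1, 0]
    have h1 : om a u = -1 := ha 0
    have h2 : om a p = 0 := ha 1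
    obtain ⟨b, hb⟩ := exists_dual ![u, p] hdep ![0, -1]
    have h3 : om b u = 0 := hb 0
    have h4 : om b p = -1 := hb 1
    have e1 : om u a = 1 := by rw [om_swap, h1, neg_neg]
    have e2 : om p b = 1 := by rw [om_swap, h4, neg_neg]
    have e3 : om p a = 0 := om_swap0 h2
    have e4 : om u b = 0 := om_swap0 h3
    have := hl (u + p) (a - b)
    rw [add_dotProduct, hl, hl, om_add_left, om_sub_right, om_sub_right, e1, e2, e3, e4] at this
    linear_combination -this
  · rw [LinearIndependent.pair_iff] at hdep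
    push Not at hdep
    obtain ⟨a, b, hab, hne⟩ := hdep
    have hb : b ≠ 0 := fun hb => by
      rw [hb, zero_smul, add_zero, smul_eq_zero, or_iff_left hu] at hab
      exact hne hab hb
    have hp' : p = (-(a / b)) • u := by
      have : b • p = -(a • u) := eq_neg_of_add_eq_zero_right hab
      rw [neg_smul, div_eq_inv_mul, ← smul_smul, ← smul_neg, ← this, smul_smul, inv_mul_cancel₀ hb, one_smul]
    have hc : -(a / b) ≠ 0 := fun h0 => hp (by rw [hp', h0, zero_smul])
    have := hl p v
    rw [hp', smul_dotProduct, hl u v, om_smul_left, hv', smul_eq_mul, mul_one, mul_one] at this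
    rw [hp']
    exact mul_right_cancel₀ hc (by linear_combination -this)

/-! ### Pairs -/

lemma kk_mul (s : F) (p q p' q' : E) : kk s p q * kk s p' q' =
    om q p' • dy p q' - (s * om q q') • dy p p' - (s * om p p') • dy q q' + (s * s * om p q') • dy q p' := by
  simp only [kk, sub_mul, mul_sub, smul_mul_assoc, mul_smul_comm, dy_mul_dy, smul_smul]
  module

lemma kk_sq (s : F) {p q : E} (h : om p q = 0) : kk s p q * kk s p q = 0 := by
  simp [kk_mul, om_self, h, om_swap0 h]

lemma spInv_kk {s : F} (hs : s * s = 1) (p q : E) : spInv (kk s p q) = s • kk s p q := by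
  rw [kk, spInv_sub, spInv_smul, spInv_dy, spInv_dy, smul_sub, smul_smul, hs]
  module

lemma sp_conj_kk {h : M₁} (hh : IsSp h) (s : F) (p q : E) :
    h * kk s p q * spInv h = kk s (h *ᵥ p) (h *ᵥ q) := by
  rw [kk, kk, mul_sub, sub_mul, mul_smul_comm, smul_mul_assoc, sp_conj_dy hh, sp_conj_dy hh]

lemma sp_conj_dd {h : M₁} (hh : IsSp h) (u : E) : h * dd u * spInv h = dd (h *ᵥ u) := sp_conj_dy hh u u

lemma sp_conj_nn {h : M₁} (hh : IsSp h) (u a : E) : h * nn u a * spInv h = nn (h *ᵥ u) (h *ᵥ a) := by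
  rw [nn, nn, mul_add, add_mul, sp_conj_dy hh, sp_conj_dy hh]

lemma kk_ne_zero (s : F) {p q : E} (h : LinearIndependent F ![p, q]) : kk s p q ≠ 0 := fun e => by
  obtain ⟨a, ha⟩ := exists_dual ![p, q] h ![0, 1]
  have h1 : om a p = 0 := ha 0
  have h2 : om a q = 1 := ha 1
  have h0 := congrArg (· *ᵥ a) e
  simp [kk, Matrix.sub_mulVec, Matrix.smul_mulVec, dy_mulVec, om_swap0 h1, om_swap a q, h2] at h0
  exact h.ne_zero 0 (by simpa using h0)

/-- A vector orthogonal to a few and outside the span of a few. -/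
lemma exists_perp_notMem {k j : ℕ} (us : Fin k → E) (ws : Fin j → E) (h : k + j < r + r) :
    ∃ z : E, (∀ i, om z (us i) = 0) ∧ z ∉ Submodule.span F (Set.range ws) := by
  let φ : E →ₗ[F] (Fin k → F) :=
    { toFun := fun a i => om a (us i)
      map_add' := fun a b => funext fun i => om_add_left a b (us i)
      map_smul' := fun c a => funext fun i => om_smul_left c a (us i) }
  have h1 := φ.finrank_range_add_finrank_ker
  have h2 : Module.finrank F (LinearMap.range φ) ≤ k :=
    (Submodule.finrank_le _).trans (by rw [Module.finrank_fin_fun])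
  have h3 : Module.finrank F (Submodule.span F (Set.range ws)) ≤ j := (finrank_range_le_card ws).trans (by simp)
  rw [Module.finrank_fin_fun] at h1
  by_contra hc
  push Not at hc
  have := Submodule.finrank_mono (show LinearMap.ker φ ≤ Submodule.span F (Set.range ws) from
    fun z hz => hc z fun i => congrFun (LinearMap.mem_ker.1 hz) i)
  omega

/-- An independent orthogonal partner. -/
lemma exists_orth_partner (hr : 2 ≤ r) {p : E} (hp : p ≠ 0) :
    ∃ z : E, LinearIndependent F ![p, z] ∧ om p z = 0 := by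
  obtain ⟨z, hz, hzp⟩ := exists_perp_notMem ![p] ![p] (by omega)
  refine ⟨z, LinearIndependent.pair_iff.2 fun a b hab => ?_, om_swap0 (hz 0)⟩
  have hb : b = 0 := by
    by_contra hb
    refine hzp (Submodule.mem_span_range_iff_exists_fun F |>.2 ⟨fun _ => -(a / b), ?_⟩)
    have e : b • z = -(a • p) := eq_neg_of_add_eq_zero_right hab
    simp only [Fin.sum_univ_one, Matrix.cons_val_fin_one]
    rw [neg_smul, div_eq_inv_mul, ← smul_smul, ← smul_neg, ← e, smul_smul, inv_mul_cancel₀ hb, one_smul]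
  rw [hb, zero_smul, add_zero, smul_eq_zero, or_iff_left hp] at hab
  exact ⟨hab, hb⟩

/-- In one dimension orthogonal vectors are dependent. -/
lemma not_orth_indep_one (hr : r = 1) {p z : E} (h : LinearIndependent F ![p, z]) : om p z ≠ 0 := fun h0 => by
  obtain ⟨a, ha⟩ := exists_dual ![p, z] h ![1, 0]
  have hsp : Submodule.span F (Set.range ![p, z]) = ⊤ :=
    Submodule.eq_top_of_finrank_eq (by rw [finrank_span_eq_card h, Module.finrank_fin_fun, hr]; simp)
  obtain ⟨c, hc⟩ := (Submodule.mem_span_range_iff_exists_fun F).1 (hsp ▸ Submodule.mem_top : a ∈ _)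
  have h1 : om a p = 1 := ha 0
  rw [← hc] at h1
  simp [Fin.sum_univ_two, om_add_left, om_smul_left, om_self, om_swap0 h0] at h1

end CfsgLib.Geo.TensorPow.OS
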