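/-
Adjoints on a tensor power of symplectic spaces, sandwiches between dyads of one factor, and overgroups of
the isometries of the factors.
-/
import Cfsg.Agent.Geo.TensorPow.OS.Basic
import Cfsg.Agent.Geo.TensorPow.Classify

set_option autoImplicit false
set_option linter.unusedSectionVars false

namespace CfsgLib.Geo.TensorPow.OS

open Matrix CfsgLib.Aschbacher
open scoped MatrixGroups

variable {F : Type*} [Field F] {t r : ℕ}

local notation "E" => (Fin (r + r) → F)
local notation "M₁" => Matrix (Fin (r + r)) (Fin (r + r)) F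
local notation "MT" => Mt t (r + r) F

/-- The adjoint for the form of the tensor power. -/
def adj (X : MT) : MT := (-1 : F) ^ t • (jt t r F * Xᵀ * jt t r F)

lemma pow_eps_sq : (-1 : F) ^ t * (-1 : F) ^ t = 1 := by rw [← mul_pow]; simp

lemma spInv_invol (A : M₁) : spInv (spInv A) = A := by
  rw [spInv, spInv, Matrix.transpose_neg, Matrix.transpose_mul, Matrix.transpose_mul, Matrix.transpose_transpose,
    jm_transpose]
  simp only [mul_neg, neg_mul, neg_neg, ← mul_assoc, jm_sq, one_mul]
  rw [mul_assoc, jm_sq, mul_neg, mul_one, neg_neg]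

lemma adj_tens (a : Fin t → M₁) : adj (tens a : MT) = tens fun l => spInv (a l) := by
  rw [adj, jt, tens_transpose, tens_mul, tens_mul,
    show (fun l => spInv (a l)) = fun l => (-1 : F) • (jm r F * (a l)ᵀ * jm r F) from
      funext fun l => by rw [neg_one_smul, spInv], tens_smul, Finset.prod_const, Finset.card_univ, Fintype.card_fin]

lemma adj_slot (i : Fin t) (A : M₁) : adj (slot i A : MT) = slot i (spInv A) := by
  rw [slot, adj_tens, slot]
  congr 1
  funext l
  rcases eq_or_ne l i with rfl | hl
  · simp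
  · simp [Function.update_of_ne hl, spInv_one]

lemma adj_one : adj (1 : MT) = 1 := by
  rw [← tens_one, adj_tens]
  simp [spInv_one]

lemma jt_sq : jt t r F * jt t r F = (-1 : F) ^ t • (1 : MT) := by
  rw [jt, tens_mul, show (fun _ : Fin t => jm r F * jm r F) = fun _ => (-1 : F) • (1 : M₁) from
    funext fun _ => by rw [jm_sq, neg_one_smul], tens_smul, Finset.prod_const, Finset.card_univ, Fintype.card_fin,
    tens_one]

lemma jt_transpose' : (jt t r F)ᵀ = (-1 : F) ^ t • jt t r F := by
  rw [jt, tens_transpose, show (fun _ : Fin t => (jm r F)ᵀ) = fun _ => (-1 : F) • jm r F from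
    funext fun _ => by rw [jm_transpose, neg_one_smul], tens_smul, Finset.prod_const, Finset.card_univ,
    Fintype.card_fin]

lemma adj_add (X Y : MT) : adj (X + Y) = adj X + adj Y := by
  simp [adj, Matrix.transpose_add, mul_add, add_mul]

lemma adj_smul (c : F) (X : MT) : adj (c • X) = c • adj X := by
  simp [adj, Matrix.transpose_smul, smul_comm c]

lemma adj_neg (X : MT) : adj (-X) = -adj X := by simp [adj]

lemma adj_sub (X Y : MT) : adj (X - Y) = adj X - adj Y := by
  rw [sub_eq_add_neg, adj_add, adj_neg, sub_eq_add_neg]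

lemma adj_mul (X Y : MT) : adj (X * Y) = adj Y * adj X := by
  simp only [adj, Matrix.transpose_mul, smul_mul_smul_comm, pow_eps_sq, one_smul]
  calc (-1 : F) ^ t • (jt t r F * (Yᵀ * Xᵀ) * jt t r F)
      = jt t r F * Yᵀ * ((-1 : F) ^ t • (1 : MT)) * Xᵀ * jt t r F := by simp [mul_assoc]
    _ = jt t r F * Yᵀ * (jt t r F * jt t r F) * Xᵀ * jt t r F := by rw [jt_sq]
    _ = _ := by simp only [mul_assoc]

lemma adj_adj (X : MT) : adj (adj X) = X := by
  have h1 : jt t r F * (jt t r F * X * jt t r F) * jt t r F = X := by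
    calc _ = jt t r F * jt t r F * X * (jt t r F * jt t r F) := by simp only [mul_assoc]
      _ = X := by rw [jt_sq]; simp [smul_smul, pow_eps_sq]
  simp only [adj, Matrix.transpose_smul, Matrix.transpose_mul, Matrix.transpose_transpose, jt_transpose',
    mul_smul_comm, smul_mul_assoc, smul_smul, pow_eps_sq, one_mul, one_smul, ← mul_assoc] at h1 ⊢
  simpa using h1

lemma iso_iff (g : MT) : adj g * g = 1 ↔ gᵀ * jt t r F * g = jt t r F := by
  constructor
  · intro h
    calc gᵀ * jt t r F * g = ((-1 : F) ^ t • (1 : MT)) * (gᵀ * jt t r F * g) * ((-1 : F) ^ t • (1 : MT)) := by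
          simp [smul_smul, pow_eps_sq]
      _ = ((-1 : F) ^ t • (1 : MT)) * gᵀ * jt t r F * g * ((-1 : F) ^ t • (1 : MT)) := by simp only [mul_assoc]
      _ = jt t r F * (adj g * g) := by
          rw [adj]
          conv_rhs => rw [smul_mul_assoc, mul_smul_comm, ← mul_assoc, ← mul_assoc, ← mul_assoc, jt_sq]
          simp [smul_smul, pow_eps_sq]
      _ = _ := by rw [h, mul_one]
  · intro h
    rw [adj, smul_mul_assoc, mul_assoc, mul_assoc, ← mul_assoc gᵀ, h, jt_sq, smul_smul, pow_eps_sq, one_smul]

lemma com_adj {i : Fin t} {X : MT} (h : Com i X) : Com i (adj X) := fun p q => by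
  have := congrArg adj (h.slot_comm (spInv (Matrix.single p q 1)))
  rw [adj_mul, adj_mul, adj_slot, spInv_invol] at this
  exact this.symm

lemma adj_cj {g : GL (Fin t → Fin (r + r)) F} (hg : adj (g : MT) * (g : MT) = 1) (X : MT) :
    adj (cj g X) = cj g (adj X) := by
  have hgi : ((g⁻¹ : GL (Fin t → Fin (r + r)) F) : MT) = adj (g : MT) := Units.inv_eq_of_mul_eq_one_left hg
  rw [cj, cj, adj_mul, adj_mul, hgi, adj_adj, mul_assoc]

/-- A pure tensor of matrices with a zero factor. -/
lemma tens_eq_zero {m : ℕ} {a : Fin t → Matrix (Fin m) (Fin m) F} (k : Fin t) (h : a k = 0) :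
    (tens a : Mt t m F) = 0 := Matrix.ext fun x y => by
  simp only [tens, Matrix.of_apply, Matrix.zero_apply]
  exact Finset.prod_eq_zero (Finset.mem_univ k) (by rw [h]; rfl)

lemma slot_com_mid {i : Fin t} {C : MT} (hC : Com i C) (A B : M₁) :
    slot i A * C * slot i B = slot i (A * B) * C := by
  rw [mul_assoc, ← hC.slot_comm, ← mul_assoc, slot_mul]

/-- Conjugation by an isometry of the factor. -/
lemma conj_slot_com {i : Fin t} {C : MT} (hC : Com i C) {h : M₁} (A : M₁) :
    slot i h * (slot i A * C) * slot i (spInv h) = slot i (h * A * spInv h) * C := by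
  rw [← mul_assoc, slot_mul, slot_com_mid hC]

/-! ### Sandwiches between dyads of one factor -/

/-- The part of a matrix between two vectors of a factor. -/
def ev (i : Fin t) (y z : E) (X : MT) : MT := ∑ a, ∑ b, ((y ᵥ* jm r F) a * z b) • cmp i a b X

lemma com_ev (i : Fin t) (y z : E) (X : MT) : Com i (ev i y z X) :=
  com_sum _ fun _ _ => com_sum _ fun _ _ => (com_cmp i _ _ _).smul _

lemma com_ev_of {i k : Fin t} (h : k ≠ i) {X : MT} (hX : Com k X) (y z : E) : Com k (ev i y z X) :=
  com_sum _ fun _ _ => com_sum _ fun _ _ => (hX.cmp h _ _).smul _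

lemma ev_add (i : Fin t) (y z : E) (X Y : MT) : ev i y z (X + Y) = ev i y z X + ev i y z Y := by
  simp only [ev, cmp_add, smul_add, Finset.sum_add_distrib]

lemma ev_smul (i : Fin t) (y z : E) (c : F) (X : MT) : ev i y z (c • X) = c • ev i y z X := by
  simp only [ev, cmp_smul, Finset.smul_sum, smul_comm c]

lemma ev_zero (i : Fin t) (y z : E) : ev i y z (0 : MT) = 0 := by
  simpa using ev_smul i y z (0 : F) (0 : MT)

lemma ev_add_left (i : Fin t) (y y' z : E) (X : MT) : ev i (y + y') z X = ev i y z X + ev i y' z X := by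
  simp only [ev, Matrix.add_vecMul, Pi.add_apply, add_mul, add_smul, Finset.sum_add_distrib]

lemma ev_add_right (i : Fin t) (y z z' : E) (X : MT) : ev i y (z + z') X = ev i y z X + ev i y z' X := by
  simp only [ev, Pi.add_apply, mul_add, add_smul, Finset.sum_add_distrib]

lemma sandwich (i : Fin t) (x y z w : E) (X : MT) :
    slot i (dy x y) * X * slot i (dy z w) = slot i (dy x w) * ev i y z X := by
  have h : ∀ p a b s, (eu i p a : MT) * X * eu i b s = eu i p s * cmp i a b X := fun p a b s => by
    rw [cmp, Finset.mul_sum, Finset.sum_eq_single s]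
    · rw [← mul_assoc, eu_mul']
    · intro r _ hr
      rw [← mul_assoc, eu_mul_ne' i hr.symm, zero_mul]
    · simp
  simp only [ev, slot_eq_sum, dy, Matrix.vecMulVec_apply, Finset.sum_mul, Finset.mul_sum, smul_mul_assoc,
    mul_smul_comm, Finset.smul_sum, smul_smul, h]
  rw [Finset.sum_congr rfl fun b _ => Finset.sum_congr rfl fun s _ => Finset.sum_comm,
    Finset.sum_congr rfl fun b _ => Finset.sum_comm, Finset.sum_comm]
  refine Finset.sum_congr rfl fun a _ => Finset.sum_congr rfl fun b _ => ?_
  rw [Finset.sum_comm]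
  exact Finset.sum_congr rfl fun p _ => Finset.sum_congr rfl fun s _ => congrArg (· • _) (by ring)

lemma slot_mul_com_eq_zero [NeZero r] {i : Fin t} {A : M₁} (hA : A ≠ 0) {C : MT} (hC : Com i C)
    (h : slot i A * C = 0) : C = 0 := by
  obtain ⟨a, b, hab⟩ : ∃ a b, A a b ≠ 0 := by
    by_contra hc; push Not at hc; exact hA (Matrix.ext hc)
  have h1 := congrArg (cmp i a b) h
  rw [slot_eq_sum, Finset.sum_mul, cmp_sum, Finset.sum_eq_single a, Finset.sum_mul, cmp_sum,
    Finset.sum_eq_single b, smul_mul_assoc, cmp_smul, cmp_eu_mul hC, if_pos ⟨rfl, rfl⟩,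
    show cmp i a b (0 : MT) = 0 by simp [cmp]] at h1
  · exact (smul_eq_zero.1 h1).resolve_left hab
  · intro b' _ hb'
    rw [smul_mul_assoc, cmp_smul, cmp_eu_mul hC, if_neg (fun h => hb' h.2.symm), smul_zero]
  · simp
  · intro a' _ ha'
    rw [Finset.sum_mul, cmp_sum]
    exact Finset.sum_eq_zero fun b' _ => by
      rw [smul_mul_assoc, cmp_smul, cmp_eu_mul hC, if_neg (fun h => ha' h.1.symm), smul_zero]
  · simp

/-- A matrix with no part between orthogonal vectors commutes with the factor. -/
lemma com_of_ev [NeZero r] {i : Fin t} {X : MT} (h : ∀ p z : E, om p z = 0 → ev i p z X = 0) : Com i X := by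
  have key : ∀ x y, ∃ l : F, ∀ a b, cmp i a b X x y = if a = b then l else 0 := fun x y => by
    obtain ⟨l, hl⟩ := exists_om_of_orth (B := jm r F * Matrix.of fun a b => cmp i a b X x y) fun p z hpz => by
      have h1 := congrFun (congrFun (h p z hpz) x) y
      simp only [ev, Matrix.sum_apply, Matrix.smul_apply, smul_eq_mul, Matrix.zero_apply] at h1
      rw [← h1, ← Matrix.mulVec_mulVec, Matrix.dotProduct_mulVec]
      simp only [dotProduct, Matrix.mulVec, Matrix.of_apply, Finset.mul_sum]
      exact Finset.sum_congr rfl fun a _ => Finset.sum_congr rfl fun b _ => by ring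
    refine ⟨l, fun a b => ?_⟩
    have e : jm r F * (Matrix.of fun a b => cmp i a b X x y) = l • jm r F := Matrix.ext fun p q => by
      have := hl (Pi.single p 1) (Pi.single q 1)
      rw [Matrix.mulVec_single_one, single_dotProduct, one_mul] at this
      rw [Matrix.smul_apply, smul_eq_mul]
      exact this.trans (by rw [om, single_one_vecMul, dotProduct_single, mul_one]; rfl)
    have e' := congrArg (fun Z => -(jm r F * Z)) e
    simp only [← mul_assoc, jm_sq, mul_smul_comm, neg_mul, one_mul, neg_neg, smul_neg] at e'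
    have := congrFun (congrFun e' a) b
    simpa [Matrix.one_apply] using this
  choose l hl using key
  have hcm : ∀ a b, cmp i a b X = if a = b then Matrix.of l else 0 := fun a b => Matrix.ext fun x y => by
    rw [hl x y a b]; split_ifs <;> rfl
  have e : X = Matrix.of l := by
    conv_lhs => rw [← sum_eu_cmp i X]
    rw [Finset.sum_congr rfl fun p _ => Finset.sum_congr rfl fun q _ => by rw [hcm p q]]
    simp only [mul_ite, mul_zero, Finset.sum_ite_eq, Finset.mem_univ, if_true]
    rw [← Finset.sum_mul, sum_eu, one_mul]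
  have h0 := com_cmp i (0 : Fin (r + r)) 0 X
  rw [hcm 0 0, if_pos rfl, ← e] at h0
  exact h0

lemma ev_orth_all (hr : 2 ≤ r) {i : Fin t} {X : MT}
    (h : ∀ p z : E, LinearIndependent F ![p, z] → om p z = 0 → ev i p z X = 0) :
    ∀ p z : E, om p z = 0 → ev i p z X = 0 := by
  have hz0 : ∀ p : E, ev i p 0 X = 0 := fun p => by simp [ev]
  have hsmul : ∀ (p z : E) (c : F), ev i p (c • z) X = c • ev i p z X := fun p z c => by
    simp [ev, Finset.smul_sum, smul_smul, mul_left_comm]
  intro p z hpz
  by_cases hli : LinearIndependent F ![p, z]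
  · exact h p z hli hpz
  rcases eq_or_ne p 0 with rfl | hp
  · simp [ev]
  obtain ⟨w, hw, hpw⟩ := exists_orth_partner hr hp
  obtain ⟨c, rfl⟩ : ∃ c : F, z = c • p := by
    rw [LinearIndependent.pair_iff] at hli
    push Not at hli
    obtain ⟨a, b, hab, hne⟩ := hli
    have hb : b ≠ 0 := fun hb => by
      rw [hb, zero_smul, add_zero, smul_eq_zero, or_iff_left hp] at hab
      exact hne hab hb
    refine ⟨-(a / b), ?_⟩
    have : b • z = -(a • p) := eq_neg_of_add_eq_zero_right hab
    rw [neg_smul, div_eq_inv_mul, ← smul_smul, ← smul_neg, ← this, smul_smul, inv_mul_cancel₀ hb, one_smul]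
  have h1 : LinearIndependent F ![p, p + w] := LinearIndependent.pair_iff.2 fun a b hab => by
    rw [smul_add, ← add_assoc, ← add_smul] at hab
    obtain ⟨e1, e2⟩ := LinearIndependent.pair_iff.1 hw _ _ hab
    exact ⟨by rwa [e2, add_zero] at e1, e2⟩
  have := h p (p + w) h1 (by rw [om_add_right, om_self, hpw, add_zero])
  rw [ev_add_right, h p w hw hpw, add_zero] at this
  rw [hsmul, this, smul_zero]

/-! ### Overgroups -/

/-- The skew sum of the dyads of two pure tensors. -/
def rho (X Y : Fin t → E) : MT := tens (fun l => dy (X l) (Y l)) - (-1 : F) ^ t • tens fun l => dy (Y l) (X l)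

lemma rho_eq_single {X Y : Fin t → E} {j : Fin t} (h : ∀ l, l ≠ j → X l = Y l) :
    (rho X Y : MT) = tens (Function.update (fun l => dd (X l)) j (kk ((-1) ^ t) (X j) (Y j))) := by
  rw [kk, sub_eq_add_neg, ← neg_one_smul F ((-1 : F) ^ t • _), tens_update_add, tens_update_smul, tens_update_smul,
    neg_one_smul, ← sub_eq_add_neg, rho]
  rw [show (fun l => dy (X l) (Y l)) = Function.update (fun l => dd (X l)) j (dy (X j) (Y j)) from ?_,
    show (fun l => dy (Y l) (X l)) = Function.update (fun l => dd (X l)) j (dy (Y j) (X j)) from ?_]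
  all_goals
    funext l
    rcases eq_or_ne l j with rfl | hl
    · simp
    · simp [Function.update_of_ne hl, dd, h l hl]

/-- An overgroup of the isometries of the factors among the isometries. -/
structure OBase (M : Subgroup (GL (Fin t → Fin (r + r)) F)) : Prop where
  iso : ∀ g ∈ M, adj (g : MT) * (g : MT) = 1
  slot_mem : ∀ i, ∀ h : M₁, IsSp h → Mem M (slot i h)

/-- The root elements at pairs of pure tensors differing in one factor all lie in the group. -/
def RFull (M : Subgroup (GL (Fin t → Fin (r + r)) F)) : Prop :=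
  ∀ (X Y : Fin t → E) (j : Fin t), (∀ l, l ≠ j → X l = Y l) → ∀ c : F, Mem M (1 + c • rho X Y)

/-- An overgroup no member of which outside the wreath product commutes with a factor, without all root
elements unless these lie in the wreath product. -/
structure OBad (M : Subgroup (GL (Fin t → Fin (r + r)) F)) : Prop extends OBase M where
  nfull : RFull M → r = 1 ∧ Even t ∧ (2 : F) ≠ 0
  rec_mem : ∀ g ∈ M, ∀ b, Com b (g : MT) → g ∈ Cfsg.Geo.tensorWreathStandard (r + r) t F

variable {M : Subgroup (GL (Fin t → Fin (r + r)) F)}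

lemma OBase.skew (hM : OBase M) {X : MT} (hX : Mem M (1 + X)) (hXX : X * X = 0) : adj X = -X := by
  obtain ⟨g, hg, hgv⟩ := hX
  have h := hM.iso g hg
  rw [hgv, adj_add, adj_one] at h
  calc adj X = (1 + adj X) * (1 + X) * (1 - X) - 1 := by
        rw [mul_assoc, one_add_mul_one_sub hXX, mul_one, add_sub_cancel_left]
    _ = -X := by rw [h, one_mul]; abel

lemma OBase.root_mem (hM : OBase M) (i : Fin t) (c : F) (u : E) : Mem M (1 + c • slot i (dd u)) := by
  have := hM.slot_mem i _ (isSp_root c u)
  rwa [slot_add, slot_one, slot_smul] at this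

lemma OBase.nn_mem (hM : OBase M) (i : Fin t) {u a : E} (ha : om a u = 0) : Mem M (1 + slot i (nn u a)) := by
  have := hM.slot_mem i _ (isSp_nn ha)
  rwa [slot_add, slot_one] at this

lemma OBase.conj_mem (hM : OBase M) {X : MT} (hX : Mem M (1 + X)) (i : Fin t) {h : M₁} (hh : IsSp h) :
    Mem M (1 + slot i h * X * slot i (spInv h)) :=
  (hM.slot_mem i h hh).conj (by rw [slot_mul, hh.mul_spInv, slot_one]) hX

end CfsgLib.Geo.TensorPow.OS
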