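/-
Root elements at pairs of pure tensors: commutators, reduction to one differing factor, and propagation.
-/
import Cfsg.Agent.Geo.TensorPow.OS.Slot

set_option autoImplicit false
set_option linter.unusedSectionVars false

namespace CfsgLib.Geo.TensorPow.OS

open Matrix CfsgLib.Aschbacher
open scoped MatrixGroups

variable {F : Type*} [Field F] {t r : ℕ}

local notation "E" => (Fin (r + r) → F)
local notation "M₁" => Matrix (Fin (r + r)) (Fin (r + r)) F
local notation "MT" => Mt t (r + r) F

variable {M : Subgroup (GL (Fin t → Fin (r + r)) F)}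

lemma update_fun {α β : Type*} (f : α → β) (X : Fin t → α) (i : Fin t) (x : α) (l : Fin t) :
    f (Function.update X i x l) = Function.update (fun k => f (X k)) i (f x) l :=
  Function.apply_update (fun _ => f) X i x l

/-- Two pure products of factor matrices with all mixed products rank one give a root element. -/
lemma comm_of_slots {W W' : Fin t → M₁} {x y : Fin t → E} (s : Fin t → F) {c c' : F}
    (hA : Mem M (1 + c • tens W)) (hB : Mem M (1 + c' • tens W'))
    (h1 : ∀ l, W l * W' l = dy (x l) (y l)) (h2 : ∀ l, W' l * W l = s l • dy (y l) (x l))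
    (hs : ∏ l, s l = (-1) ^ t) (hW : ∃ l, W l * W l = 0) (hW' : ∃ l, W' l * W' l = 0)
    (ha : ∃ l, W l * W' l * W l = 0) (hb : ∃ l, W' l * W l * W' l = 0) :
    Mem M (1 + (c * c') • rho x y) := by
  obtain ⟨l₁, hl₁⟩ := hW
  obtain ⟨l₂, hl₂⟩ := hW'
  obtain ⟨l₃, hl₃⟩ := ha
  obtain ⟨l₄, hl₄⟩ := hb
  set A : MT := c • tens W with hAd
  set B : MT := c' • tens W' with hBd
  have hAA : A * A = 0 := by rw [hAd, smul_mul_smul_comm, tens_mul, tens_eq_zero l₁ hl₁, smul_zero]
  have hBB : B * B = 0 := by rw [hBd, smul_mul_smul_comm, tens_mul, tens_eq_zero l₂ hl₂, smul_zero]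
  have hABA : A * B * A = 0 := by
    rw [hAd, hBd, smul_mul_smul_comm, smul_mul_smul_comm, tens_mul, tens_mul, tens_eq_zero l₃ hl₃, smul_zero]
  have hBAB : B * A * B = 0 := by
    rw [hAd, hBd, smul_mul_smul_comm, smul_mul_smul_comm, tens_mul, tens_mul, tens_eq_zero l₄ hl₄, smul_zero]
  have hD : A * B - B * A = (c * c') • rho x y := by
    rw [hAd, hBd, smul_mul_smul_comm, smul_mul_smul_comm, tens_mul, tens_mul, funext h1, funext h2, tens_smul, hs,
      mul_comm c' c, rho, smul_sub]
  rw [← hD]
  have := ((hA.mul hB).mul (hA.one_sub hAA)).mul (hB.one_sub hBB)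
  convert this using 1
  symm
  calc (1 + A) * (1 + B) * (1 - A) * (1 - B)
      = 1 + (A * B - B * A) - A * A + (A * A) * B - B * B + B * A * B - A * B * A - A * (B * B) +
          (A * B * A) * B := by noncomm_ring
    _ = _ := by rw [hAA, hBB, hABA, hBAB]; simp

lemma rho_conj {i : Fin t} {h : M₁} (hh : IsSp h) (X Y : Fin t → E) :
    slot i h * rho X Y * slot i (spInv h) =
      (rho (Function.update X i (h *ᵥ X i)) (Function.update Y i (h *ᵥ Y i)) : MT) := by
  rw [rho, rho, mul_sub, sub_mul, mul_smul_comm, smul_mul_assoc, slot_mul_tens, tens_mul_slot_eq,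
    slot_mul_tens, tens_mul_slot_eq, Function.update_idem, Function.update_idem]
  simp only [Function.update_self, sp_conj_dy hh]
  congr 2 <;> [skip; congr 1] <;>
  · funext l
    rcases eq_or_ne l i with rfl | hl
    · simp
    · simp [Function.update_of_ne hl]

lemma rho_add_left (X Y : Fin t → E) (j : Fin t) (x x' : E) :
    (rho (Function.update X j (x + x')) Y : MT) =
      rho (Function.update X j x) Y + rho (Function.update X j x') Y := by
  have e1 : ∀ z : E, (fun l => dy (Function.update X j z l) (Y l)) =
      Function.update (fun l => dy (X l) (Y l)) j (dy z (Y j)) := fun z => funext fun l => by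
    rcases eq_or_ne l j with rfl | hl <;> simp [*]
  have e2 : ∀ z : E, (fun l => dy (Y l) (Function.update X j z l)) =
      Function.update (fun l => dy (Y l) (X l)) j (dy (Y j) z) := fun z => funext fun l => by
    rcases eq_or_ne l j with rfl | hl <;> simp [*]
  simp only [rho, e1, e2, dy_add_left, dy_add_right, tens_update_add]
  module

lemma rho_smul_left (X Y : Fin t → E) (j : Fin t) (c : F) (x : E) :
    (rho (Function.update X j (c • x)) Y : MT) = c • rho (Function.update X j x) Y := by
  have e1 : ∀ z : E, (fun l => dy (Function.update X j z l) (Y l)) =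
      Function.update (fun l => dy (X l) (Y l)) j (dy z (Y j)) := fun z => funext fun l => by
    rcases eq_or_ne l j with rfl | hl <;> simp [*]
  have e2 : ∀ z : E, (fun l => dy (Y l) (Function.update X j z l)) =
      Function.update (fun l => dy (Y l) (X l)) j (dy (Y j) z) := fun z => funext fun l => by
    rcases eq_or_ne l j with rfl | hl <;> simp [*]
  simp only [rho, e1, e2, dy_smul_left, dy_smul_right, tens_update_smul]
  module

lemma rho_smul_right (X Y : Fin t → E) (j : Fin t) (c : F) (y : E) :
    (rho X (Function.update Y j (c • y)) : MT) = c • rho X (Function.update Y j y) := by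
  have e1 : ∀ z : E, (fun l => dy (X l) (Function.update Y j z l)) =
      Function.update (fun l => dy (X l) (Y l)) j (dy (X j) z) := fun z => funext fun l => by
    rcases eq_or_ne l j with rfl | hl <;> simp [*]
  have e2 : ∀ z : E, (fun l => dy (Function.update Y j z l) (X l)) =
      Function.update (fun l => dy (Y l) (X l)) j (dy z (X j)) := fun z => funext fun l => by
    rcases eq_or_ne l j with rfl | hl <;> simp [*]
  simp only [rho, e1, e2, dy_smul_left, dy_smul_right, tens_update_smul]
  module

lemma rho_eq_zero {X Y : Fin t → E} (l : Fin t) (h : X l = 0 ∨ Y l = 0) : (rho X Y : MT) = 0 := by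
  rw [rho, tens_eq_zero l, tens_eq_zero l, smul_zero, sub_zero] <;>
  · rcases h with h | h <;> simp [h, dy_zero_left, dy_zero_right]

/-- Root elements at a pair of pure tensors with all coefficients. -/
def RAt (M : Subgroup (GL (Fin t → Fin (r + r)) F)) (X Y : Fin t → E) : Prop :=
  ∀ c : F, Mem M (1 + c • rho X Y)

lemma rho_mul_zero {X Y X' Y' : Fin t → E} (m : Fin t) (h : X m = Y m) (h1 : X' m = X m) (h2 : Y' m = X m) :
    (rho X Y : MT) * rho X' Y' = 0 := by
  have hz : ∀ (A B : Fin t → M₁), A m = dd (X m) → B m = dd (X m) → (tens A : MT) * tens B = 0 := fun A B hA hB => by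
    rw [tens_mul, tens_eq_zero m]
    rw [hA, hB, dd_sq]
  simp only [rho, sub_mul, mul_sub, smul_mul_assoc, mul_smul_comm]
  rw [hz, hz, hz, hz] <;> simp [dd, h, h1, h2]

lemma RAt.of_zero {X Y : Fin t → E} (l : Fin t) (h : X l = 0 ∨ Y l = 0) : RAt M X Y := fun c => by
  rw [rho_eq_zero l h, smul_zero, add_zero]; exact Mem.one

lemma RAt.conj (hM : OBase M) {X Y : Fin t → E} (h : RAt M X Y) (i : Fin t) {g : M₁} (hg : IsSp g) :
    RAt M (Function.update X i (g *ᵥ X i)) (Function.update Y i (g *ᵥ Y i)) := fun c => by
  have := hM.conj_mem (h c) i hg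
  rwa [mul_smul_comm, smul_mul_assoc, rho_conj hg] at this

lemma RAt.conj_all (hM : OBase M) {X Y : Fin t → E} (h : RAt M X Y) (g : Fin t → M₁) (hg : ∀ l, IsSp (g l)) :
    RAt M (fun l => g l *ᵥ X l) (fun l => g l *ᵥ Y l) := by
  classical
  suffices hs : ∀ S : Finset (Fin t), RAt M (S.piecewise (fun l => g l *ᵥ X l) X) (S.piecewise (fun l => g l *ᵥ Y l) Y) by
    simpa using hs Finset.univ
  intro S
  induction S using Finset.induction_on with
  | empty => simpa using h
  | insert l S hl ih =>
    have := ih.conj hM l (hg l)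
    rwa [Finset.piecewise_eq_of_notMem _ _ _ hl, Finset.piecewise_eq_of_notMem _ _ _ hl, ← Finset.piecewise_insert,
      ← Finset.piecewise_insert] at this

/-- An additive set of scalars with all squares is everything. -/
lemma all_of_sq [Finite F] {p : F → Prop} (hadd : ∀ a b, p a → p b → p (a + b)) (hneg : ∀ a, p a → p (-a))
    (hsq : ∀ a, p (a * a)) (x : F) : p x := by
  by_cases h2 : (2 : F) = 0
  · obtain ⟨s, hs⟩ := exists_sq_root h2 x
    rw [← hs]; exact hsq s
  · have e : x = (x + 1) / 2 * ((x + 1) / 2) + -((x - 1) / 2 * ((x - 1) / 2)) := by field_simp; ring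
    rw [e]; exact hadd _ _ (hsq _) (hneg _ (hsq _))

/-- One root element at a pair with an equal factor gives all coefficients. -/
lemma RAt.of_one [Finite F] (hM : OBase M) {X Y : Fin t → E} (m : Fin t) (hm : X m = Y m) {c : F} (hc : c ≠ 0)
    (h : Mem M (1 + c • rho X Y)) : RAt M X Y := by
  have hR : (rho X Y : MT) * rho X Y = 0 := rho_mul_zero m hm rfl hm.symm
  intro c'
  suffices Mem M (1 + ((c' / c) * c) • rho X Y) by rwa [div_mul_cancel₀ _ hc] at this
  generalize c' / c = x
  refine all_of_sq (p := fun x => Mem M (1 + (x * c) • rho X Y)) (fun a b ha hb => ?_) (fun a ha => ?_)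
    (fun a => ?_) x
  · rw [add_mul, add_smul]
    exact ha.add' hb (by rw [smul_mul_smul_comm, hR, smul_zero])
  · have := ha.one_sub (by rw [smul_mul_smul_comm, hR, smul_zero])
    rwa [neg_mul, neg_smul, ← sub_eq_add_neg]
  · rcases eq_or_ne a 0 with rfl | ha
    · simpa using (Mem.one : Mem M (1 : MT))
    rcases eq_or_ne (X m) 0 with hX | hX
    · rw [rho_eq_zero m (Or.inl hX), smul_zero, add_zero]; exact Mem.one
    obtain ⟨g, hg, hgx⟩ := exists_sp_vec hX (smul_ne_zero ha hX)
    have := hM.conj_mem h m hg
    rw [mul_smul_comm, smul_mul_assoc, rho_conj hg, ← hm, hgx, rho_smul_left, rho_smul_right,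
      Function.update_eq_self, hm, Function.update_eq_self, smul_smul, smul_smul] at this
    rwa [show a * a * c = c * a * a by ring]

lemma RAt.add_left {X Y : Fin t → E} {j m : Fin t} (hjm : m ≠ j) (hm : X m = Y m) {x x' : E}
    (h : RAt M (Function.update X j x) Y) (h' : RAt M (Function.update X j x') Y) :
    RAt M (Function.update X j (x + x')) Y := fun c => by
  rw [rho_add_left, smul_add]
  exact (h c).add' (h' c) (by
    rw [smul_mul_smul_comm, rho_mul_zero m (by simp [Function.update_of_ne hjm, hm])
      (by simp [Function.update_of_ne hjm]) (by simp [Function.update_of_ne hjm, hm]), smul_zero])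

lemma RAt.smul_left {X Y : Fin t → E} {j : Fin t} {x : E} (h : RAt M (Function.update X j x) Y) (a : F) :
    RAt M (Function.update X j (a • x)) Y := fun c => by
  rw [rho_smul_left, smul_smul]; exact h _

/-- Equalising one factor. -/
lemma RAt.equalise (hM : OBase M) {X Y : Fin t → E} {j m : Fin t} (hjm : m ≠ j) (hm : X m = Y m)
    (hj : X j = Y j ∨ LinearIndependent F ![X j, Y j]) (h : RAt M X Y) : RAt M (Function.update X j (Y j)) Y := by
  rcases hj with hj | hj
  · rwa [← hj, Function.update_eq_self]
  set y := Y j with hy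
  have hX : RAt M (Function.update X j (X j)) Y := by rwa [Function.update_eq_self]
  have hsub : ∀ {x x' : E}, RAt M (Function.update X j x) Y → RAt M (Function.update X j x') Y →
      RAt M (Function.update X j (x - x')) Y := fun {x x'} h h' => by
    rw [sub_eq_add_neg, ← neg_one_smul F x']
    exact h.add_left hjm hm (h'.smul_left _)
  have hmove : ∀ a : E, om a y = 0 → om a (X j) ≠ 0 → RAt M (Function.update X j a) Y := fun a ha hax => by
    have h1 := hX.conj hM j (isSp_root 1 a)
    rw [Function.update_idem, Function.update_self, one_smul] at h1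
    simp only [dd, Matrix.add_mulVec, Matrix.one_mulVec, dy_mulVec] at h1
    rw [← hy, ha, zero_smul, add_zero, hy, Function.update_eq_self] at h1
    have h2 := (hsub h1 hX).smul_left (om a (X j))⁻¹
    rwa [add_sub_cancel_left, smul_smul, inv_mul_cancel₀ hax, one_smul] at h2
  by_cases ho : om y (X j) ≠ 0
  · exact hmove y (om_self y) ho
  push Not at ho
  obtain ⟨a, ha⟩ := exists_dual ![X j, y] hj ![1, 0]
  have h1 : om a (X j) = 1 := ha 0
  have h2 : om a y = 0 := ha 1
  have := hsub (hmove (a + y) (by rw [om_add_left, h2, om_self, add_zero])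
    (by rw [om_add_left, h1, ho, add_zero]; exact one_ne_zero)) (hmove a h2 (by rw [h1]; exact one_ne_zero))
  rwa [add_sub_cancel_left] at this

/-- Reduction to one differing factor. -/
lemma RAt.reduce (hM : OBase M) {X Y : Fin t → E} {i m : Fin t} (him : m ≠ i) (hm : X m = Y m)
    (hall : ∀ l, X l = Y l ∨ LinearIndependent F ![X l, Y l]) (h : RAt M X Y) :
    RAt M (Function.update Y i (X i)) Y := by
  classical
  suffices hs : ∀ S : Finset (Fin t), i ∉ S → RAt M (S.piecewise Y X) Y by
    have := hs (Finset.univ.erase i) (Finset.notMem_erase i _)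
    convert this using 1
    funext l
    rcases eq_or_ne l i with rfl | hl <;> simp [*]
  intro S
  induction S using Finset.induction_on with
  | empty => intro _; simpa using h
  | insert l S hl ih =>
    intro hi
    simp only [Finset.mem_insert, not_or] at hi
    have h1 := ih hi.2
    rw [Finset.piecewise_insert]
    rcases eq_or_ne l m with rfl | hlm
    · rwa [← hm, Function.update_eq_self_iff.2 (Finset.piecewise_eq_of_notMem _ _ _ hl).symm]
    refine h1.equalise hM hlm.symm ?_ (by rw [Finset.piecewise_eq_of_notMem _ _ _ hl]; exact hall l)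
    by_cases hmS : m ∈ S <;> simp [hmS, hm]

/-- All root elements with one differing factor. -/
def PAt (M : Subgroup (GL (Fin t → Fin (r + r)) F)) (j : Fin t) : Prop :=
  ∀ X Y : Fin t → E, (∀ l, l ≠ j → X l = Y l) → RAt M X Y

/-- All pairs in one factor from one pair with a non-zero product. -/
lemma pat_of_seed (hM : OBase M) {X Y : Fin t → E} {j m : Fin t} (hjm : m ≠ j) (hX : ∀ l, l ≠ j → X l = Y l)
    (hY : ∀ l, Y l ≠ 0) (ho : om (X j) (Y j) ≠ 0) (h : RAt M X Y) : PAt M j := by
  classical
  intro X' Y' hX'
  by_cases hY' : ∃ l, Y' l = 0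
  · obtain ⟨l, hl⟩ := hY'; exact RAt.of_zero l (Or.inr hl)
  push Not at hY'
  choose g hg hgy using fun l => exists_sp_vec (hY l) (hY' l)
  have h1 := h.conj_all hM g hg
  rw [funext hgy] at h1
  have e : (fun l => g l *ᵥ X l) = Function.update Y' j (g j *ᵥ X j) := funext fun l => by
    rcases eq_or_ne l j with rfl | hl
    · simp
    · rw [Function.update_of_ne hl, hX l hl, hgy]
  rw [e] at h1
  set x₀ := g j *ᵥ X j with hx₀
  set y := Y' j
  have hxy : om x₀ y ≠ 0 := by rw [hx₀, show y = g j *ᵥ Y j from (hgy j).symm, sp_om (hg j)]; exact ho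
  have hm : Y' m = Y' m := rfl
  have hmove : ∀ x : E, om x y ≠ 0 → RAt M (Function.update Y' j x) Y' := fun x hx => by
    obtain ⟨k, hk, hk1, hk2⟩ := exists_sp_pair (u := x₀) (v := y) (u' := (om x₀ y / om x y) • x) (v' := y) hxy
      (by rw [om_smul_left, div_mul_cancel₀ _ hx])
    have h2 := h1.conj hM j hk
    rw [Function.update_idem, Function.update_self, hk1, hk2, Function.update_eq_self] at h2
    have h3 := h2.smul_left (om x y / om x₀ y)
    rwa [smul_smul, div_mul_div_cancel₀ hxy, div_self hx, one_smul] at h3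
  have hall : ∀ x : E, RAt M (Function.update Y' j x) Y' := fun x => by
    by_cases hx : om x y ≠ 0
    · exact hmove x hx
    push Not at hx
    have h2 := (hmove (x + x₀) (by rw [om_add_left, hx, zero_add]; exact hxy)).add_left hjm hm
      ((hmove x₀ hxy).smul_left (-1))
    rwa [neg_one_smul, ← sub_eq_add_neg, add_sub_cancel_right] at h2
  have := hall (X' j)
  rwa [show Function.update Y' j (X' j) = X' from funext fun l => by
    rcases eq_or_ne l j with rfl | hl
    · simp
    · simp [Function.update_of_ne hl, hX' l hl]] at this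

/-- An orthogonal pair in one factor gives all pairs in another. -/
lemma bracket (hM : OBase M) {X Y : Fin t → E} {i j : Fin t} (hij : i ≠ j) (hX : ∀ l, l ≠ j → X l = Y l)
    (hY : ∀ l, Y l ≠ 0) (hli : LinearIndependent F ![X j, Y j]) (ho : om (X j) (Y j) = 0) (h : RAt M X Y) :
    PAt M i := by
  classical
  set p := X j with hp
  set q := Y j with hq
  obtain ⟨a, ha⟩ := exists_dual ![p, q] hli ![0, -1]
  have h1 : om p a = 0 := om_swap0 (ha 0)
  have h2 : om q a = 1 := by rw [om_swap, show om a q = -1 from ha 1, neg_neg]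
  have hli' : LinearIndependent F ![a, p] := by
    refine LinearIndependent.pair_iff.2 fun c d hcd => ?_
    have e := congrArg (fun z => om q z) hcd
    simp only [om_add_right, om_smul_right, h2, om_swap0 ho, mul_one, mul_zero, add_zero, om_zero_right] at e
    rw [e, zero_smul, zero_add, smul_eq_zero] at hcd
    exact ⟨e, hcd.resolve_right (hli.ne_zero 0)⟩
  choose v hv using fun l => exists_partner (hY l)
  have hv0 : ∀ l, v l ≠ 0 := fun l e => one_ne_zero (α := F) (by rw [← hv l, e, om_zero_right])
  have hg' : ∀ l, ∃ g : M₁, IsSp g ∧ (if l = j then g *ᵥ p = a ∧ g *ᵥ q = p else g *ᵥ Y l = v l) := fun l => by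
    split_ifs
    · exact exists_sp_orth hli ho hli' (om_swap0 h1)
    · exact exists_sp_vec (hY l) (hv0 l)
  choose g hg hgv using hg'
  have hB := h.conj_all hM g hg
  set s : F := (-1) ^ t
  set W : Fin t → M₁ := Function.update (fun l => dd (Y l)) j (kk s p q) with hW
  set W' : Fin t → M₁ := Function.update (fun l => dd (v l)) j (kk s a p) with hW'
  have eA : (rho X Y : MT) = tens W := by
    rw [rho_eq_single hX, hW]
    congr 1
    funext l
    rcases eq_or_ne l j with rfl | hl
    · simp [hp, hq]; rfl
    · simp [Function.update_of_ne hl, hX l hl]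
  have eB : (rho (fun l => g l *ᵥ X l) (fun l => g l *ᵥ Y l) : MT) = tens W' := by
    rw [rho_eq_single (j := j) fun l hl => by rw [hX l hl], hW']
    have e := hgv j
    rw [if_pos rfl] at e
    congr 1
    funext l
    rcases eq_or_ne l j with rfl | hl
    · simp [← hp, ← hq, e.1, e.2]; rfl
    · have e' := hgv l
      rw [if_neg hl] at e'
      simp [Function.update_of_ne hl, hX l hl, e']
  have hss : s * s = 1 := pow_eps_sq
  have hWW' : kk s p q * kk s a p = dy p p := by
    simp [kk_mul, h1, h2, om_self, om_swap0 ho]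
  have hW'W : kk s a p * kk s p q = -dy p p := by
    simp [kk_mul, om_self, ho, om_swap0 h1, hss, om_swap q a, h2]
  have hz1 : (dy p p : M₁) * kk s p q = 0 := by
    simp [kk, mul_sub, dy_mul_dy, ho, om_self]
  have hz2 : -(dy p p : M₁) * kk s a p = 0 := by
    simp [kk, mul_sub, dy_mul_dy, h1, om_self]
  have hR : RAt M (Function.update Y j p) (Function.update v j p) := by
    intro c
    have hB' := hB 1
    rw [eB] at hB'
    have hA' := h c
    rw [eA] at hA'
    have := comm_of_slots (M := M) (x := Function.update Y j p) (y := Function.update v j p) (fun _ => -1)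
      hA' hB'
      (fun l => by
        rcases eq_or_ne l j with rfl | hl
        · simp [hW, hW', hWW']
        · simp [hW, hW', Function.update_of_ne hl, dd, dy_mul_dy, hv l])
      (fun l => by
        rcases eq_or_ne l j with rfl | hl
        · simp [hW, hW', hW'W]
        · simp [hW, hW', Function.update_of_ne hl, dd, dy_mul_dy, om_swap (Y l) (v l), hv l])
      (by simp)
      ⟨j, by simp [hW, kk_sq _ ho]⟩ ⟨j, by simp [hW', kk_sq _ (om_swap0 h1)]⟩
      ⟨j, by simp only [hW, hW', Function.update_self]; rw [hWW', hz1]⟩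
      ⟨j, by simp only [hW, hW', Function.update_self]; rw [hW'W, hz2]⟩
    rwa [mul_one] at this
  have hred := hR.reduce hM (i := i) (m := j) hij.symm (by simp) fun l => by
    rcases eq_or_ne l j with rfl | hl
    · exact Or.inl (by simp)
    · refine Or.inr ?_
      simp only [Function.update_of_ne hl]
      exact indep_of_om (by rw [hv]; exact one_ne_zero)
  refine pat_of_seed hM (m := j) hij.symm (fun l hl => by rw [Function.update_of_ne hl]) (fun l => ?_) ?_ hred
  · rcases eq_or_ne l j with rfl | hl
    · simpa using hli.ne_zero 0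
    · simpa [Function.update_of_ne hl] using hv0 l
  · simp [Function.update_of_ne hij, hv]

/-- All root elements from one pair. -/
theorem rfull_of_seed (hM : OBase M) (hr : 2 ≤ r) (ht : 2 ≤ t) {X Y : Fin t → E} {j : Fin t}
    (hX : ∀ l, l ≠ j → X l = Y l) (hY : ∀ l, Y l ≠ 0) (hli : LinearIndependent F ![X j, Y j]) (h : RAt M X Y) :
    RFull M := by
  classical
  have : Nontrivial (Fin t) := Fin.nontrivial_iff_two_le.2 ht
  have step : ∀ j, PAt M j → ∀ i, i ≠ j → PAt M i := fun j hj i hij => by
    obtain ⟨z, hz, ho⟩ := exists_orth_partner hr (p := Y j) (hY j)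
    refine bracket hM hij (X := Y) (Y := Function.update Y j z)
      (fun l hl => by simp [Function.update_of_ne hl]) (fun l => ?_) (by simpa using hz) (by simpa using ho)
      (hj _ _ fun l hl => by simp [Function.update_of_ne hl])
    rcases eq_or_ne l j with rfl | hl
    · simpa using hz.ne_zero 1
    · simpa [Function.update_of_ne hl] using hY l
  obtain ⟨i, hi⟩ : ∃ i, PAt M i := by
    by_cases ho : om (X j) (Y j) = 0
    · obtain ⟨i, hij⟩ := exists_ne j
      exact ⟨i, bracket hM hij hX hY hli ho h⟩
    · obtain ⟨m, hm⟩ := exists_ne j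
      exact ⟨j, pat_of_seed hM hm hX hY ho h⟩
  have hall : ∀ k, PAt M k := fun k => by
    rcases eq_or_ne k i with rfl | hk
    · exact hi
    · exact step i hi k hk
  exact fun X' Y' k hk c => hall k X' Y' hk c

end CfsgLib.Geo.TensorPow.OS
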