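/-
A member with a root element on one factor has a scalar part on the other factors.
-/
import Cfsg.Agent.Geo.TensorPow.OS.Seed
import Cfsg.Agent.Aschbacher.Form.Members

set_option autoImplicit false
set_option linter.unusedSectionVars false

namespace CfsgLib.Geo.TensorPow.OS

open Matrix CfsgLib.Aschbacher
open scoped MatrixGroups

variable {F : Type*} [Field F] {t r : ℕ}

local notation "E" => (Fin (r + r) → F)
local notation "M₁" => Matrix (Fin (r + r)) (Fin (r + r)) F
local notation "MT" => Mt t (r + r) F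

/-- The two kinds of square-zero root elements of a factor. -/
def Kind (W : M₁) : Prop :=
  (∃ u : E, u ≠ 0 ∧ W = dd u) ∨ ∃ p q : E, LinearIndependent F ![p, q] ∧ om p q = 0 ∧ W = kk 1 p q

lemma Kind.sq {W : M₁} (h : Kind W) : W * W = 0 := by
  rcases h with ⟨u, -, rfl⟩ | ⟨p, q, -, ho, rfl⟩
  · exact dd_sq u
  · exact kk_sq 1 ho

lemma Kind.ne_zero {W : M₁} (h : Kind W) : W ≠ 0 := by
  rcases h with ⟨u, hu, rfl⟩ | ⟨p, q, hli, -, rfl⟩
  · exact dd_ne_zero hu
  · exact kk_ne_zero 1 hli

lemma kind_dd {u : E} (hu : u ≠ 0) : Kind (dd u) := Or.inl ⟨u, hu, rfl⟩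

lemma kind_kk {p q : E} (h : LinearIndependent F ![p, q]) (ho : om p q = 0) : Kind (kk 1 p q) :=
  Or.inr ⟨p, q, h, ho, rfl⟩

lemma li_of_notMem {k : ℕ} {ws : Fin k → E} {p z : E} (hp : p ≠ 0) (i : Fin k) (hi : ws i = p)
    (hz : z ∉ Submodule.span F (Set.range ws)) : LinearIndependent F ![p, z] :=
  LinearIndependent.pair_iff.2 fun a b hab => by
    have hb : b = 0 := by
      by_contra hb
      refine hz ?_
      have e : z = -(a / b) • p := by
        rw [neg_smul, div_eq_inv_mul, ← smul_smul, ← smul_neg, ← eq_neg_of_add_eq_zero_right hab, smul_smul,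
          inv_mul_cancel₀ hb, one_smul]
      rw [e]
      exact Submodule.smul_mem _ _ (Submodule.subset_span ⟨i, hi⟩)
    rw [hb, zero_smul, add_zero, smul_eq_zero, or_iff_left hp] at hab
    exact ⟨hab, hb⟩

lemma li_swap {p z : E} (h : LinearIndependent F ![p, z]) : LinearIndependent F ![z, p] :=
  LinearIndependent.pair_iff.2 fun a b hab => And.symm (LinearIndependent.pair_iff.1 h b a (by rw [← hab]; exact add_comm _ _))

/-- The product of square-zero elements in the factors of a set. -/
def TL (L : Finset (Fin t)) (Ws : Fin t → M₁) : MT := tens (L.piecewise Ws fun _ => 1)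

lemma com_TL (Ws : Fin t → M₁) {L : Finset (Fin t)} {l : Fin t} (h : l ∉ L) : Com l (TL L Ws) :=
  com_tens (Finset.piecewise_eq_of_notMem _ _ _ h)

lemma TL_comm (Ws : Fin t → M₁) {L : Finset (Fin t)} {C : MT} (hC : ∀ l ∈ L, Com l C) : TL L Ws * C = C * TL L Ws :=
  tens_comm fun l hl => hC l (by_contra fun h => hl (Finset.piecewise_eq_of_notMem _ _ _ h))

lemma TL_insert (Ws : Fin t → M₁) (W : M₁) {L : Finset (Fin t)} {l : Fin t} (h : l ∉ L) :
    (TL (insert l L) (Function.update Ws l W) : MT) = slot l W * TL L Ws := by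
  rw [TL, TL, slot_mul_tens, Finset.piecewise_eq_of_notMem _ _ _ h, mul_one]
  congr 1
  funext k
  rcases eq_or_ne k l with rfl | hk
  · simp
  · by_cases hkL : k ∈ L <;> simp [hk, hkL, Finset.piecewise]

lemma TL_singleton (i : Fin t) (W : M₁) : (TL {i} (fun _ => W) : MT) = slot i W := by
  rw [TL, slot]
  congr 1
  funext k
  rcases eq_or_ne k i with rfl | hk <;> simp [*, Finset.piecewise]

/-- A member with square-zero elements in the factors of a set. -/
structure Xi (M : Subgroup (GL (Fin t → Fin (r + r)) F)) (L : Finset (Fin t)) (Ws : Fin t → M₁) (C : MT) : Prop where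
  com : ∀ l ∈ L, Com l C
  kind : ∀ l ∈ L, Kind (Ws l)
  mem : Mem M (1 + TL L Ws * C)

variable {M : Subgroup (GL (Fin t → Fin (r + r)) F)} {L : Finset (Fin t)}
variable {Ws : Fin t → Matrix (Fin (r + r)) (Fin (r + r)) F}

lemma Xi.mul_zero' (hL : L.Nonempty) {C C' : MT} (h : Xi M L Ws C) : TL L Ws * C * (TL L Ws * C') = 0 := by
  obtain ⟨l, hl⟩ := hL
  have e : (TL L Ws : MT) * TL L Ws = 0 := by
    rw [TL, tens_mul, tens_eq_zero l]
    rw [Finset.piecewise_eq_of_mem _ _ _ hl]
    exact (h.kind l hl).sq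
  rw [mul_assoc, ← mul_assoc C, ← TL_comm Ws h.com, mul_assoc, ← mul_assoc, e, zero_mul]

lemma Xi.add (hL : L.Nonempty) {C C' : MT} (h : Xi M L Ws C) (h' : Xi M L Ws C') : Xi M L Ws (C + C') := by
  refine ⟨fun l hl => (h.com l hl).add (h'.com l hl), h.kind, ?_⟩
  rw [mul_add]
  exact h.mem.add' h'.mem (h.mul_zero' hL)

lemma Xi.sub (hL : L.Nonempty) {C C' : MT} (h : Xi M L Ws C) (h' : Xi M L Ws C') : Xi M L Ws (C - C') := by
  rw [sub_eq_add_neg]
  refine h.add hL ⟨fun l hl => by simpa using (h'.com l hl).smul (-1 : F), h.kind, ?_⟩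
  have := h'.mem.one_sub (h'.mul_zero' hL)
  rwa [mul_neg, ← sub_eq_add_neg]

lemma Xi.conj (hM : OBase M) {C : MT} (h : Xi M L Ws C) {l : Fin t} (hl : l ∉ L) {g : M₁} (hg : IsSp g) :
    Xi M L Ws (slot l g * C * slot l (spInv g)) := by
  refine ⟨fun k hk => ?_, h.kind, ?_⟩
  · have hkl : k ≠ l := fun e => hl (e ▸ hk)
    exact ((com_slot hkl _).mul (h.com k hk)).mul (com_slot hkl _)
  have := hM.conj_mem h.mem l hg
  rwa [← mul_assoc (slot l g), (com_TL Ws hl).slot_comm, mul_assoc (TL L Ws), mul_assoc (TL L Ws)] at this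

/-- A new factor. -/
lemma Xi.grow {C C' : MT} {l : Fin t} {W : M₁} (hl : l ∉ L) (h : Xi M L Ws C) (he : C = slot l W * C')
    (hW : Kind W) (hC : Com l C') (hCL : ∀ k ∈ L, Com k C') : Xi M (insert l L) (Function.update Ws l W) C' := by
  refine ⟨fun k hk => ?_, fun k hk => ?_, ?_⟩
  · rcases Finset.mem_insert.1 hk with rfl | hk
    · exact hC
    · exact hCL k hk
  · rcases eq_or_ne k l with rfl | hkl
    · simpa using hW
    · rw [Function.update_of_ne hkl]
      exact h.kind k ((Finset.mem_insert.1 hk).resolve_left hkl)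
  · rw [TL_insert _ _ hl, (com_TL Ws hl).slot_comm, mul_assoc, ← he]
    exact h.mem

/-- One more factor away from the centraliser of a factor. -/
lemma Xi.step (hM : OBase M) (hodd : r = 1 → (2 : F) ≠ 0) [NeZero r] (hL : L.Nonempty) {C : MT} (h : Xi M L Ws C)
    {l : Fin t} (hl : l ∉ L) (hC : ¬ Com l C) :
    ∃ W C', C' ≠ 0 ∧ Xi M (insert l L) (Function.update Ws l W) C' := by
  have hcom : ∀ y z k, k ∈ L → Com k (ev l y z C) := fun y z k hk =>
    com_ev_of (fun e => hl (by subst e; exact hk)) (h.com k hk) y z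
  have hsp : ∀ p : E, spInv (1 + (1 : F) • dd p) = 1 - dd p := fun p => by
    rw [one_smul, spInv_add, spInv_one, spInv_dd, sub_eq_add_neg]
  by_cases hr : r = 1
  · obtain ⟨p, hp0, hp⟩ : ∃ p : E, p ≠ 0 ∧ ev l p p C ≠ 0 := by
      by_contra hc
      push Not at hc
      refine hC (com_of_ev fun p z hpz => ?_)
      rcases eq_or_ne p 0 with rfl | hp
      · simp [ev]
      by_cases hli : LinearIndependent F ![p, z]
      · exact absurd hpz (not_orth_indep_one hr hli)
      obtain ⟨a, ha⟩ : ∃ a : F, z = a • p := by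
        by_contra hcon
        push Not at hcon
        exact hli (LinearIndependent.pair_iff' hp |>.2 fun a e => hcon a e.symm)
      rw [ha]
      simpa [ev, Finset.smul_sum, smul_smul, mul_left_comm] using congrArg (a • ·) (hc p hp)
    have h1 := h.conj hM hl (isSp_root 1 p)
    have h2 := h.conj hM hl (isSp_root 2 p)
    have h3 := (h2.sub hL h1).sub hL (h1.sub hL h)
    refine ⟨dd p, (-2 : F) • ev l p p C, smul_ne_zero (neg_ne_zero.2 (hodd hr)) hp,
      Xi.grow hl h3 ?_ (kind_dd hp0) ((com_ev _ _ _ _).smul _) fun k hk => (hcom _ _ k hk).smul _⟩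
    rw [mul_smul_comm, dd, ← sandwich, show dy p p = dd p from rfl]
    simp only [spInv_add, spInv_one, spInv_smul, spInv_dd, slot_add, slot_sub, slot_one, slot_smul, one_smul, smul_neg, ← sub_eq_add_neg, add_mul,
      mul_sub, one_mul, mul_one, smul_mul_assoc, mul_smul_comm]
    module
  have hr2 : 2 ≤ r := by have := NeZero.ne r; omega
  obtain ⟨p, z, hli, ho, hE⟩ : ∃ p z : E, LinearIndependent F ![p, z] ∧ om p z = 0 ∧ ev l p z C ≠ 0 := by
    by_contra hc
    push Not at hc
    exact hC (com_of_ev (ev_orth_all hr2 hc))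
  set E₁ := ev l p z C with hE₁
  set E₂ := ev l z p C with hE₂
  have hP := h.conj hM hl (isSp_root 1 p)
  have hQ := h.conj hM hl (isSp_root 1 z)
  have hPQ := h.conj hM hl ((isSp_root 1 p).mul (isSp_root 1 z))
  have h3 := (hP.sub hL hPQ).add hL (hQ.sub hL h)
  set B : MT := slot l (dy p z) * E₁ + slot l (dy z p) * E₂ with hB
  have eB : slot l (1 + (1 : F) • dd p) * C * slot l (spInv (1 + (1 : F) • dd p)) -
      slot l ((1 + (1 : F) • dd p) * (1 + (1 : F) • dd z)) * C *
        slot l (spInv ((1 + (1 : F) • dd p) * (1 + (1 : F) • dd z))) +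
      (slot l (1 + (1 : F) • dd z) * C * slot l (spInv (1 + (1 : F) • dd z)) - C) = B := by
    have e1 : (1 + dd p) * (1 + dd z) = 1 + dd p + dd z := by
      simp [add_mul, mul_add, dd, dy_mul_dy, ho]
    have e2 : (1 - dd z) * (1 - dd p) = 1 - dd p - dd z := by
      simp [sub_mul, mul_sub, dd, dy_mul_dy, om_swap0 ho]; abel
    rw [hB, hE₁, hE₂, ← sandwich, ← sandwich, spInv_mul_rev, hsp, hsp, one_smul, one_smul, e1, e2,
      show dy p p = dd p from rfl, show dy z z = dd z from rfl]
    simp only [slot_add, slot_sub, slot_one]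
    noncomm_ring
  rw [eB] at h3
  by_cases hEE : E₁ + E₂ = 0
  · refine ⟨kk 1 p z, E₁, hE, Xi.grow hl h3 ?_ (kind_kk hli ho) (com_ev _ _ _ _) (hcom _ _)⟩
    rw [hB, eq_neg_of_add_eq_zero_right hEE, kk, one_smul, slot_sub, sub_mul, mul_neg, sub_eq_add_neg]
  obtain ⟨g, hg, hgp, hgz⟩ := exists_shear hli ho
  refine ⟨dd z, E₁ + E₂, hEE, Xi.grow hl ((h3.conj hM hl hg).sub hL h3) ?_ (kind_dd (by simpa using hli.ne_zero 1))
    ((com_ev _ _ _ _).add (com_ev _ _ _ _)) fun k hk => (hcom _ _ k hk).add (hcom _ _ k hk)⟩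
  rw [hB, mul_add (slot l g), add_mul, conj_slot_com (com_ev _ _ _ _), conj_slot_com (com_ev _ _ _ _),
    sp_conj_dy hg, sp_conj_dy hg, hgp, hgz, dy_add_left, dy_add_right, slot_add, slot_add, add_mul, add_mul, mul_add,
    dd]
  abel

/-- The factors and fields in question. -/
structure Hq (F : Type*) [Field F] (r : ℕ) : Prop where
  pos : 0 < r
  one : r = 1 → (2 : F) ≠ 0 ∧ 5 ≤ Nat.card F
  two : (2 : F) = 0 → 3 ≤ r

lemma mem_conj_tens (hM : OBase M) {c : F} {W : Fin t → M₁} (h : Mem M (1 + c • tens W)) (g : Fin t → M₁)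
    (hg : ∀ l, IsSp (g l)) : Mem M (1 + c • tens fun l => g l * W l * spInv (g l)) := by
  classical
  suffices hs : ∀ S : Finset (Fin t), Mem M (1 + c • tens (S.piecewise (fun l => g l * W l * spInv (g l)) W)) by
    simpa using hs Finset.univ
  intro S
  induction S using Finset.induction_on with
  | empty => simpa using h
  | insert l S hl ih =>
    have := hM.conj_mem ih l (hg l)
    rwa [mul_smul_comm, smul_mul_assoc, slot_mul_tens, tens_mul_slot_eq, Function.update_idem, Function.update_self,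
      Finset.piecewise_eq_of_notMem _ _ _ hl,
      ← Finset.piecewise_insert (f := fun l => g l * W l * spInv (g l))] at this

lemma not_wreath (hL : 2 ≤ L.card) (hW : ∀ l ∈ L, Kind (Ws l)) {c : F} (hc : c ≠ 0) [Fintype F]
    {g : GL (Fin t → Fin (r + r)) F} (hg : g ∈ Cfsg.Geo.tensorWreathStandard (r + r) t F)
    (hgv : (g : MT) = 1 + c • TL L Ws) : False := by
  classical
  obtain ⟨a, σ, hga⟩ := exists_tens_perm hg
  -- vectors moved out of their lines
  have hv : ∀ l, ∃ v φ ψ : E, (l ∈ L → om φ v = 1 ∧ om φ (Ws l *ᵥ v) = 0 ∧ om ψ v = 0 ∧ om ψ (Ws l *ᵥ v) = 1) ∧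
      ∃ f : E, om f v = 1 ∧ (l ∈ L → om f (Ws l *ᵥ v) = 1) := by
    intro l
    by_cases hl : l ∈ L
    · obtain ⟨v, hv⟩ : ∃ v, Ws l *ᵥ v ≠ 0 := by
        by_contra hcon
        push Not at hcon
        exact (hW l hl).ne_zero (Matrix.ext_iff_mulVec.2 fun v => by rw [hcon, Matrix.zero_mulVec])
      have hli : LinearIndependent F ![v, Ws l *ᵥ v] := LinearIndependent.pair_iff.2 fun x y hxy => by
        have e := congrArg (Ws l *ᵥ ·) hxy
        simp only [Matrix.mulVec_add, Matrix.mulVec_smul, Matrix.mulVec_mulVec, (hW l hl).sq, Matrix.zero_mulVec,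
          smul_zero, add_zero, Matrix.mulVec_zero, smul_eq_zero, or_iff_left hv] at e
        rw [e, zero_smul, zero_add, smul_eq_zero, or_iff_left hv] at hxy
        exact ⟨e, hxy⟩
      obtain ⟨φ, hφ⟩ := exists_dual _ hli ![1, 0]
      obtain ⟨ψ, hψ⟩ := exists_dual _ hli ![0, 1]
      obtain ⟨f, hf⟩ := exists_dual _ hli ![1, 1]
      exact ⟨v, φ, ψ, fun _ => ⟨hφ 0, hφ 1, hψ 0, hψ 1⟩, f, hf 0, fun _ => hf 1⟩
    · have h0 : 0 < r + r := by
        rcases Nat.eq_zero_or_pos (r + r) with h | h
        · exfalso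
          obtain ⟨k, hk⟩ := Finset.card_pos.1 (show 0 < L.card by omega)
          exact (hW k hk).ne_zero (Matrix.ext fun i => absurd i.isLt (by omega))
        · exact h
      obtain ⟨f, hf⟩ := exists_partner (u := (Pi.single (⟨0, h0⟩ : Fin (r + r)) 1 : E))
        (fun e => one_ne_zero (α := F) (by simpa using congrFun e ⟨0, h0⟩))
      refine ⟨Pi.single ⟨0, h0⟩ 1, 0, 0, fun h => absurd h hl, -f, ?_, fun h => absurd h hl⟩
      rw [om_neg_left, om_swap, hf, neg_neg]
  choose v φ ψ hφ f hfv hfW using hv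
  obtain ⟨j, hj, k, hk, hjk⟩ := Finset.one_lt_card.1 (show 1 < L.card by omega)
  obtain ⟨W, hW'⟩ : ∃ W, (g : MT) *ᵥ pv v = pv W :=
    ⟨_, by rw [hga, ← Matrix.mulVec_mulVec, permMat_mulVec_pv, tens_mulVec_pv]⟩
  set v' : Fin t → E := fun l => (L.piecewise Ws fun _ => 1) l *ᵥ v l
  have e1 : (g : MT) *ᵥ pv v = pv v + c • pv v' := by
    rw [hgv, Matrix.add_mulVec, Matrix.one_mulVec, Matrix.smul_mulVec, TL, tens_mulVec_pv]
  set R : (Fin t → E) → F := fun w => ∏ l ∈ (Finset.univ.erase j).erase k, om (f l) (w l)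
  have hsplit : ∀ (x y : E) (w : Fin t → E),
      pv (fun l => (if l = j then x else if l = k then y else f l) ᵥ* jm r F) ⬝ᵥ pv w =
        om x (w j) * om y (w k) * R w := fun x y w => by
    rw [pv_dot, ← Finset.mul_prod_erase _ _ (Finset.mem_univ j),
      ← Finset.mul_prod_erase _ _ (Finset.mem_erase.2 ⟨hjk.symm, Finset.mem_univ k⟩), ← mul_assoc]
    congr 1
    · simp [om, hjk.symm]
    · refine Finset.prod_congr rfl fun l hl => ?_
      simp only [Finset.mem_erase] at hl
      simp [om, hl.1, hl.2.1]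
  have hP : ∀ x y : E, om x (v j) * om y (v k) + c * (om x (Ws j *ᵥ v j) * om y (Ws k *ᵥ v k)) =
      om x (W j) * om y (W k) * R W := by
    intro x y
    rw [← hsplit, ← hW', e1, dotProduct_add, dotProduct_smul, hsplit, hsplit, smul_eq_mul]
    have r1 : R v = 1 := Finset.prod_eq_one fun l _ => hfv l
    have r2 : R v' = 1 := Finset.prod_eq_one fun l _ => by
      by_cases hl : l ∈ L
      · simp [v', hl, hfW l hl]
      · simp [v', hl, hfv l]
    rw [r1, r2]
    simp [v', hj, hk]
  obtain ⟨a1, a2, a3, a4⟩ := hφ j hj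
  obtain ⟨b1, b2, b3, b4⟩ := hφ k hk
  have p1 := hP (φ j) (φ k)
  have p2 := hP (φ j) (ψ k)
  have p3 := hP (ψ j) (ψ k)
  simp only [a1, a2, a3, a4, b1, b2, b3, b4, mul_one, mul_zero, add_zero, zero_add] at p1 p2 p3
  have hz : om (ψ k) (W k) = 0 := by
    have hne : om (φ j) (W j) * R W ≠ 0 := fun e =>
      one_ne_zero (α := F) (by linear_combination p1 + om (φ k) (W k) * e)
    exact (mul_eq_zero.1 (show om (φ j) (W j) * R W * om (ψ k) (W k) = 0 by linear_combination -p2)).resolve_left hne
  exact hc (by rw [p3, hz, mul_zero, zero_mul])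

variable [Finite F]

/-- No root element in all factors. -/
theorem not_all (hM : OBad M) (hq : Hq F r) (ht : 2 ≤ t) {W : Fin t → M₁} (hW : ∀ l, Kind (W l)) {c : F}
    (hc : c ≠ 0) (h : Mem M (1 + c • tens W)) : False := by
  classical
  have : Nontrivial (Fin t) := Fin.nontrivial_iff_two_le.2 ht
  set i₀ : Fin t := ⟨0, by omega⟩
  have hTT : (c • tens W : MT) * (c • tens W) = 0 := by
    rw [smul_mul_smul_comm, tens_mul, tens_eq_zero i₀ (hW i₀).sq, smul_zero]
  have hne : (tens W : MT) ≠ 0 := tens_ne_zero fun l => (hW l).ne_zero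
  have hsk : ∀ σ : F, (∀ l, spInv (W l) = σ • W l) → σ ^ t = -1 := fun σ hσ => by
    have e := hM.skew h hTT
    rw [adj_smul, adj_tens, funext hσ, tens_smul, Finset.prod_const, Finset.card_univ, Fintype.card_fin, smul_smul,
      ← neg_smul] at e
    exact mul_left_cancel₀ hc (by rw [mul_neg, mul_one]; exact smul_left_injective F hne e)
  by_cases hall : ∀ l, ∃ u : E, u ≠ 0 ∧ W l = dd u
  · choose u hu0 hu using hall
    have hε : (-1 : F) ^ t = -1 := hsk (-1) fun l => by rw [hu, spInv_dd, neg_one_smul]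
    have hX : ∀ X : Fin t → E, Mem M (1 + c • tens fun l => dd (X l)) := fun X => by
      by_cases h0 : ∃ l, X l = 0
      · obtain ⟨l, hl⟩ := h0
        rw [tens_eq_zero l (by simp [hl, dd, dy_zero_left]), smul_zero, add_zero]
        exact Mem.one
      push Not at h0
      choose g hg hgu using fun l => exists_sp_vec (hu0 l) (h0 l)
      have := mem_conj_tens hM.toOBase h g hg
      simp only [hu, sp_conj_dd (hg _), hgu] at this
      exact this
    have hmul : ∀ X X' : Fin t → E, ∀ l, X' l = X l →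
        (tens (fun l => dd (X l)) : MT) * tens (fun l => dd (X' l)) = 0 := fun X X' l e => by
      rw [tens_mul, tens_eq_zero l (by rw [e, dd_sq])]
    have hall' : ∀ (X : Fin t → E) (x : F), Mem M (1 + (x * c) • tens fun l => dd (X l)) := fun X x => by
      have hsc : ∀ a b : F, ((a * c) • tens (fun l => dd (X l)) : MT) * ((b * c) • tens fun l => dd (X l)) = 0 :=
        fun a b => by rw [smul_mul_smul_comm, hmul X X i₀ rfl, smul_zero]
      refine all_of_sq (p := fun x => Mem M (1 + (x * c) • tens fun l => dd (X l))) (fun a b ha hb => ?_)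
        (fun a ha => ?_) (fun a => ?_) x
      · rw [add_mul, add_smul]; exact ha.add' hb (hsc a b)
      · have := ha.one_sub (hsc a a)
        rwa [neg_mul, neg_smul, ← sub_eq_add_neg]
      · have := hX (Function.update X i₀ (a • X i₀))
        rwa [show (fun l => dd (Function.update X i₀ (a • X i₀) l)) =
            Function.update (fun l => dd (X l)) i₀ ((a * a) • dd (X i₀)) from funext fun l => by
          rcases eq_or_ne l i₀ with rfl | hl <;> simp [*, dd, dy_smul_left, dy_smul_right, smul_smul],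
          tens_update_smul, Function.update_eq_self, smul_smul, mul_comm c] at this
    have hF : RFull M := by
      intro X Y j hXY x
      obtain ⟨m, hm⟩ := exists_ne j
      have e : ∀ z : E, Function.update (fun l => dd (X l)) j (dd z) = fun l => dd (Function.update X j z l) :=
        fun z => funext fun l => by rcases eq_or_ne l j with rfl | hl <;> simp [*]
      rw [rho_eq_single hXY, hε, show kk (-1) (X j) (Y j) = dd (X j + Y j) + (-1 : F) • dd (X j) + (-1 : F) • dd (Y j) by
          simp only [kk, dd, dy_add_left, dy_add_right]; module,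
        tens_update_add, tens_update_add, tens_update_smul, tens_update_smul, e, e, e, smul_add, smul_add,
        smul_smul, smul_smul]
      have a1 := hall' (Function.update X j (X j + Y j)) (x / c)
      have a2 := hall' (Function.update X j (X j)) (-x / c)
      have a3 := hall' (Function.update X j (Y j)) (-x / c)
      rw [div_mul_cancel₀ _ hc] at a1 a2 a3
      rw [mul_neg_one]
      refine (a1.add' a2 ?_).add' a3 ?_
      · rw [smul_mul_smul_comm, hmul _ _ m (by simp [Function.update_of_ne hm]), smul_zero]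
      · rw [add_mul, smul_mul_smul_comm, smul_mul_smul_comm, hmul _ _ m (by simp [Function.update_of_ne hm]),
          hmul _ _ m (by simp [Function.update_of_ne hm]), smul_zero, smul_zero, add_zero]
    obtain ⟨-, hte, h2⟩ := hM.nfull hF
    rw [hte.neg_one_pow] at hε
    exact h2 (by linear_combination hε)
  push Not at hall
  obtain ⟨m, hm⟩ := hall
  have hY : ∀ l, (¬ ∃ u : E, u ≠ 0 ∧ W l = dd u) → ∃ p q, LinearIndependent F ![p, q] ∧ om p q = 0 ∧ W l = kk 1 p q :=
    fun l hl => (hW l).resolve_left hl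
  have hm' : ¬ ∃ u : E, u ≠ 0 ∧ W m = dd u := fun ⟨u, hu, e⟩ => hm u hu e
  have hr : 2 ≤ r := by
    obtain ⟨p, q, hli, ho, -⟩ := hY m hm'
    by_contra hcon
    exact not_orth_indep_one (by have := hq.pos; omega) hli ho
  obtain ⟨i, him, hi⟩ : ∃ i, i ≠ m ∧ ((∃ u : E, u ≠ 0 ∧ W i = dd u) ∨ 3 ≤ r) := by
    by_cases hD : ∃ i, ∃ u : E, u ≠ 0 ∧ W i = dd u
    · obtain ⟨i, hi⟩ := hD
      exact ⟨i, fun e => hm' (e ▸ hi), Or.inl hi⟩
    · obtain ⟨i, hi⟩ := exists_ne m
      refine ⟨i, hi, Or.inr (hq.two ?_)⟩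
      have := hsk 1 fun l => by
        obtain ⟨p, q, -, -, e⟩ := hY l fun hl => hD ⟨l, hl⟩
        rw [e, spInv_kk (by ring)]
      rw [one_pow] at this
      linear_combination this
  have hdata : ∀ l, ∃ (g : M₁) (x y : E), IsSp g ∧ y ≠ 0 ∧ W l * (g * W l * spInv g) = dy x y ∧
      (g * W l * spInv g) * W l = (-1 : F) • dy y x ∧ (x = y ∨ LinearIndependent F ![x, y]) ∧
      (l = i → LinearIndependent F ![x, y]) ∧
      (l = m → x = y ∧ W l * (g * W l * spInv g) * W l = 0 ∧ (g * W l * spInv g) * W l * (g * W l * spInv g) = 0) := by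
    intro l
    by_cases hD : ∃ u : E, u ≠ 0 ∧ W l = dd u
    · obtain ⟨u, hu, e⟩ := hD
      obtain ⟨v, hv⟩ := exists_partner hu
      have hv0 : v ≠ 0 := fun e => one_ne_zero (α := F) (by rw [← hv, e, om_zero_right])
      obtain ⟨g, hg, hgu⟩ := exists_sp_vec hu hv0
      refine ⟨g, u, v, hg, hv0, ?_, ?_, Or.inr (indep_of_om (by rw [hv]; exact one_ne_zero)),
        fun _ => indep_of_om (by rw [hv]; exact one_ne_zero), fun h => absurd ⟨u, hu, e⟩ (h ▸ hm')⟩
      · rw [e, sp_conj_dd hg, hgu]; simp [dd, dy_mul_dy, hv]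
      · rw [e, sp_conj_dd hg, hgu]; simp [dd, dy_mul_dy, om_swap u v, hv]
    obtain ⟨p, q, hli, ho, e⟩ := hY l hD
    obtain ⟨a, ha⟩ := exists_dual ![p, q] hli ![0, -1]
    have h1 : om p a = 0 := om_swap0 (ha 0)
    have h2 : om q a = 1 := by rw [om_swap, show om a q = -1 from ha 1, neg_neg]
    have ha0 : a ≠ 0 := fun e => one_ne_zero (α := F) (by rw [← h2, e, om_zero_right])
    by_cases hli' : l = i
    · -- an orthogonal vector off the plane
      subst hli'
      have h3 : 3 ≤ r := hi.resolve_left hD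
      obtain ⟨z, hz, hzn⟩ := exists_perp_notMem ![p, q, a] ![p, a] (by omega)
      have hpz : LinearIndependent F ![p, z] := li_of_notMem (hli.ne_zero 0) 0 rfl hzn
      have hzp : om z p = 0 := hz 0
      have hzq : om z q = 0 := hz 1
      have hza : om z a = 0 := hz 2
      obtain ⟨g, hg, hgp, hgq⟩ := exists_sp_orth hli ho (li_of_notMem ha0 1 rfl hzn) (om_swap0 hza)
      refine ⟨g, p, z, hg, by simpa using hpz.ne_zero 1, ?_, ?_, Or.inr hpz, fun _ => hpz,
        fun h => absurd h him⟩
      · rw [e, sp_conj_kk hg, hgp, hgq]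
        simp [kk_mul, h1, h2, om_swap0 hzp, om_swap0 hzq]
      · rw [e, sp_conj_kk hg, hgp, hgq]
        simp [kk_mul, hzp, hzq, om_swap0 h1, om_swap q a, h2]
    have hap : LinearIndependent F ![a, p] := by
      refine LinearIndependent.pair_iff.2 fun c d hcd => ?_
      have e' := congrArg (fun z => om q z) hcd
      simp only [om_add_right, om_smul_right, h2, om_swap0 ho, mul_one, mul_zero, add_zero, om_zero_right] at e'
      rw [e', zero_smul, zero_add, smul_eq_zero] at hcd
      exact ⟨e', hcd.resolve_right (hli.ne_zero 0)⟩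
    obtain ⟨g, hg, hgp, hgq⟩ := exists_sp_orth hli ho hap (om_swap0 h1)
    have w1 : kk 1 p q * kk 1 a p = dy p p := by simp [kk_mul, h1, h2, om_self, om_swap0 ho]
    have w2 : kk 1 a p * kk 1 p q = (-1 : F) • dy p p := by
      simp [kk_mul, om_self, ho, om_swap0 h1, om_swap q a, h2]
    refine ⟨g, p, p, hg, hli.ne_zero 0, ?_, ?_, Or.inl rfl, fun h => absurd h hli', fun _ => ⟨rfl, ?_, ?_⟩⟩
    all_goals rw [e, sp_conj_kk hg, hgp, hgq]
    · exact w1
    · exact w2
    · rw [w1]; simp [kk, mul_sub, dy_mul_dy, ho, om_self]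
    · rw [w2, smul_mul_assoc]; simp [kk, mul_sub, dy_mul_dy, h1, om_self]
  choose g x y hg hy0 h1 h2 hxy hxi hzero using hdata
  obtain ⟨hxm, hz1, hz2⟩ := hzero m rfl
  have hB := mem_conj_tens hM.toOBase h g hg
  have hR := comm_of_slots (x := x) (y := y) (fun _ => -1) h hB h1 h2 (by simp) ⟨m, (hW m).sq⟩
    ⟨m, by
      rw [show g m * W m * spInv (g m) * (g m * W m * spInv (g m)) = g m * W m * (spInv (g m) * g m) * (W m * spInv (g m))
          by simp only [mul_assoc], (hg m).spInv_mul, mul_one, mul_assoc (g m), ← mul_assoc (W m), (hW m).sq,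
        zero_mul, mul_zero]⟩ ⟨m, hz1⟩ ⟨m, hz2⟩
  have hall := (RAt.of_one hM.toOBase m hxm (mul_ne_zero hc hc) hR).reduce hM.toOBase him.symm hxm hxy
  have hfull := rfull_of_seed hM.toOBase hr ht (j := i) (fun l hl => by simp [Function.update_of_ne hl]) hy0
    (by simpa using hxi i rfl) hall
  exact absurd (hM.nfull hfull).1 (by omega)

/-- A member with a root element on one factor has a scalar part on the others. -/
theorem key (hM : OBad M) (hq : Hq F r) {i : Fin t} {W : M₁} (hW : Kind W) {C : MT} (hC : Com i C)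
    (h : Mem M (1 + slot i W * C)) : ∃ c : F, C = c • 1 := by
  classical
  let _ := Fintype.ofFinite F
  have : NeZero r := ⟨hq.pos.ne'⟩
  by_contra hns
  obtain ⟨l, hl⟩ : ∃ l, ¬ Com l C := by
    by_contra hc
    push Not at hc
    exact hns (scalar_of_com hc)
  have hodd : r = 1 → (2 : F) ≠ 0 := fun h => (hq.one h).1
  have hli : l ∉ ({i} : Finset (Fin t)) := by simp only [Finset.mem_singleton]; rintro rfl; exact hl hC
  obtain ⟨W₁, C₁, hC₁, h₁⟩ := Xi.step hM.toOBase hodd (Finset.singleton_nonempty i) (Ws := fun _ => W)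
    (C := C) ⟨fun k hk => by rw [Finset.mem_singleton.1 hk]; exact hC, fun _ _ => hW, by rwa [TL_singleton]⟩ hli hl
  suffices H : ∀ n, ∀ (L : Finset (Fin t)) (Ws : Fin t → M₁), Lᶜ.card = n → 2 ≤ L.card → ∀ C, C ≠ 0 →
      Xi M L Ws C → False from
    H _ _ _ rfl (by rw [Finset.card_insert_of_notMem hli, Finset.card_singleton]) _ hC₁ h₁
  intro n
  induction n using Nat.strong_induction_on with
  | _ n ih =>
    intro L Ws hn hL C hC0 hX
    by_cases hex' : ∃ l, l ∉ L ∧ ¬ Com l C
    · obtain ⟨l, hlL, hlC⟩ := hex'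
      obtain ⟨W', C', hC', hX'⟩ := hX.step hM.toOBase hodd (Finset.card_pos.1 (by omega)) hlL hlC
      refine ih _ ?_ (insert l L) _ rfl (by rw [Finset.card_insert_of_notMem hlL]; omega) C' hC' hX'
      rw [← hn]
      exact Finset.card_lt_card ((Finset.ssubset_iff_of_subset
        (Finset.compl_subset_compl.2 (Finset.subset_insert l L))).2 ⟨l, by simpa using hlL, by simp⟩)
    push Not at hex'
    obtain ⟨c, rfl⟩ := scalar_of_com (X := C) fun k => if hk : k ∈ L then hX.com k hk else hex' k hk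
    have hc0 : c ≠ 0 := fun e => hC0 (by rw [e, zero_smul])
    have hmem := hX.mem
    rw [mul_smul_comm, mul_one] at hmem
    by_cases hall : L = Finset.univ
    · subst hall
      rw [TL, Finset.piecewise_univ] at hmem
      exact not_all hM hq (by simpa using hL) (fun l => hX.kind l (Finset.mem_univ l)) hc0 hmem
    obtain ⟨b, hb⟩ : ∃ b, b ∉ L := by
      by_contra hcon; push Not at hcon; exact hall (Finset.eq_univ_of_forall hcon)
    obtain ⟨g, hg, hgv⟩ := hmem
    exact not_wreath hL hX.kind hc0 (hM.rec_mem g hg b (by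
      rw [hgv]; exact (com_one b).add ((com_TL Ws hb).smul c))) hgv

/-- A member with a difference of two root elements at orthogonal vectors. -/
theorem key_dd (hM : OBad M) (hq : Hq F r) {i : Fin t} {u d : E} (hli : LinearIndependent F ![u, d])
    (ho : om u d = 0) {C : MT} (hC : Com i C) (h : Mem M (1 + slot i (dd d - dd u) * C)) : ∃ c : F, C = c • 1 := by
  have hod : om d u = 0 := om_swap0 ho
  obtain ⟨g, hg, hgd, hgu⟩ := exists_shear (li_swap hli) hod
  have hz : (slot i (dd d - dd u) * C : MT) * (slot i (dd d - dd u) * C) = 0 := by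
    rw [← mul_assoc, slot_com_mid hC, mul_assoc,
      show (dd d - dd u) * (dd d - dd u) = 0 by simp [sub_mul, mul_sub, dd, dy_mul_dy, om_self, ho, hod],
      slot_zero, zero_mul]
  have h1 := h.one_sub hz
  have h2 := hM.toOBase.conj_mem h i hg
  rw [conj_slot_com hC, mul_sub, sub_mul, sp_conj_dd hg, sp_conj_dd hg, hgd, hgu] at h2
  have hΦ : Mem M (1 + slot i (nn u d + dd u) * C) := by
    rw [sub_eq_add_neg] at h1
    have := h2.add' h1 (by
      rw [mul_neg, ← mul_assoc, slot_com_mid hC,
        show (dd (d + u) - dd u) * (dd d - dd u) = 0 by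
          simp [sub_mul, mul_sub, dd, dy_mul_dy, dy_add_left, dy_add_right, add_mul, om_self, ho, hod],
        slot_zero, zero_mul, zero_mul, neg_zero])
    rwa [← sub_eq_add_neg, ← sub_mul, ← slot_sub,
      show dd (d + u) - dd u - (dd d - dd u) = nn u d + dd u by
        simp only [dd, nn, dy_add_left, dy_add_right]; abel] at this
  have hall : ∀ e : E, LinearIndependent F ![u, e] → om u e = 0 → Mem M (1 + slot i (nn u e + dd u) * C) := by
    intro e he hoe
    obtain ⟨k, hk, hku, hke⟩ := exists_sp_orth hli ho he hoe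
    have := hM.toOBase.conj_mem hΦ i hk
    rwa [conj_slot_com hC, mul_add, add_mul, sp_conj_nn hk, sp_conj_dd hk, hku, hke] at this
  by_cases h2 : (2 : F) = 0
  · obtain ⟨e, he, hen⟩ := exists_perp_notMem ![u, d] ![u, d] (by have := hq.two h2; omega)
    have hue : LinearIndependent F ![u, e] := li_of_notMem (hli.ne_zero 0) 0 rfl hen
    have hude : LinearIndependent F ![u, d + e] := LinearIndependent.pair_iff.2 fun a b hab => by
      have hb : b = 0 := by
        by_contra hb
        refine hen ?_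
        have : e = (-(a / b)) • u + (-1 : F) • d := by
          have e' : b • e = -(a • u) - b • d := by rw [smul_add] at hab; linear_combination (norm := module) hab
          rw [show e = b⁻¹ • (b • e) by rw [smul_smul, inv_mul_cancel₀ hb, one_smul], e', smul_sub, smul_neg,
            smul_smul, smul_smul, inv_mul_cancel₀ hb, div_eq_inv_mul]
          module
        rw [this]
        exact add_mem (Submodule.smul_mem _ _ (Submodule.subset_span ⟨0, rfl⟩))
          (Submodule.smul_mem _ _ (Submodule.subset_span ⟨1, rfl⟩))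
      rw [hb, zero_smul, add_zero, smul_eq_zero, or_iff_left (show u ≠ 0 from hli.ne_zero 0)] at hab
      exact ⟨hab, hb⟩
    have he0 : om e u = 0 := he 0
    have he1 : om e d = 0 := he 1
    have h5 := (hall d hli ho).add' (hall e hue (om_swap0 he0)) (by
      rw [← mul_assoc, slot_com_mid hC,
        show (nn u d + dd u) * (nn u e + dd u) = 0 by
          simp [nn, dd, add_mul, mul_add, dy_mul_dy, om_self, hod, om_swap0 he0, om_swap0 he1],
        slot_zero, zero_mul, zero_mul])
    rw [← add_mul, ← slot_add, show nn u d + dd u + (nn u e + dd u) = kk 1 u (d + e) by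
      simp only [nn, dd, kk, dy_add_left, dy_add_right]
      linear_combination (norm := module) h2 • (dy u u + dy d u + dy e u)] at h5
    exact key hM hq (kind_kk hude (by rw [om_add_right, ho, om_swap0 he0, add_zero])) hC h5
  · have hd : LinearIndependent F ![u, -d] := LinearIndependent.pair_iff.2 fun a b hab => by
      obtain ⟨e1, e2⟩ := LinearIndependent.pair_iff.1 hli a (-b) (by rw [neg_smul, ← smul_neg]; exact hab)
      exact ⟨e1, neg_eq_zero.1 e2⟩
    have h5 := (hall d hli ho).add' (hall (-d) hd (by rw [om_neg_right, ho, neg_zero])) (by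
      rw [← mul_assoc, slot_com_mid hC,
        show (nn u d + dd u) * (nn u (-d) + dd u) = 0 by
          simp [nn, dd, add_mul, mul_add, dy_neg_left, dy_neg_right, dy_mul_dy, om_self, ho, hod],
        slot_zero, zero_mul, zero_mul])
    rw [← add_mul, ← slot_add, show nn u d + dd u + (nn u (-d) + dd u) = (2 : F) • dd u by
      simp only [nn, dd, dy_neg_left, dy_neg_right]; module, slot_smul, smul_mul_assoc, ← mul_smul_comm] at h5
    obtain ⟨c, hc⟩ := key hM hq (kind_dd (hli.ne_zero 0)) (hC.smul 2) h5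
    exact ⟨2⁻¹ * c, by rw [← smul_smul, ← hc, smul_smul, inv_mul_cancel₀ h2, one_smul]⟩

end CfsgLib.Geo.TensorPow.OS
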