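/-
A member sending one root group of a factor to one of a factor sends the whole factor there.
-/
import Cfsg.Agent.Geo.TensorPow.OS.Key
import Cfsg.Agent.Geo.TensorPow.Semi

set_option autoImplicit false
set_option linter.unusedSectionVars false

namespace CfsgLib.Geo.TensorPow.OS

open Matrix CfsgLib.Aschbacher
open scoped MatrixGroups

variable {F : Type*} [Field F] {t r : ℕ}

local notation "E" => (Fin (r + r) → F)
local notation "M₁" => Matrix (Fin (r + r)) (Fin (r + r)) F
local notation "MT" => Mt t (r + r) F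

lemma slot_com_mul {i : Fin t} {X : MT} (hX : Com i X) (A B : M₁) (Y : MT) :
    slot i A * X * (slot i B * Y) = slot i (A * B) * (X * Y) := by
  rw [← mul_assoc, slot_com_mid hX, mul_assoc]

lemma inSlot_of_com [NeZero r] {j : Fin t} {X : MT} (h : ∀ l, l ≠ j → Com l X) : InSlot j X :=
  eq_slot_of_cmp fun p q => scalar_of_com fun l => by
    rcases eq_or_ne l j with rfl | hl
    · exact com_cmp l p q X
    · exact (h l hl).cmp hl p q

lemma exists_smul_of_not_li {u b : E} (hu : u ≠ 0) (h : ¬ LinearIndependent F ![u, b]) : ∃ c : F, b = c • u := by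
  by_contra hc
  push Not at hc
  exact h (LinearIndependent.pair_iff' hu |>.2 fun a e => hc a e.symm)

lemma mem_comm2 {M : Subgroup (GL (Fin t → Fin (r + r)) F)} {A B : MT} (hA : Mem M (1 + A)) (hB : Mem M (1 + B))
    (hAA : A * A = 0) (hBB : B * B = 0) (hABA : A * B * A = 0) (hBAB : B * A * B = 0) :
    Mem M (1 + (A * B - B * A)) := by
  have := ((hA.mul hB).mul (hA.one_sub hAA)).mul (hB.one_sub hBB)
  convert this using 1
  symm
  calc (1 + A) * (1 + B) * (1 - A) * (1 - B)
      = 1 + (A * B - B * A) - A * A + (A * A) * B - B * B + B * A * B - A * B * A - A * (B * B) +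
          (A * B * A) * B := by noncomm_ring
    _ = _ := by rw [hAA, hBB, hABA, hBAB]; simp

/-- The projection off a hyperbolic plane. -/
def Pr (u v : E) : M₁ := 1 - dy v u + dy u v

lemma pr_split (u v : E) : (1 : M₁) = -dy u v + dy v u + Pr u v := by rw [Pr]; abel

lemma spInv_Pr (u v : E) : spInv (Pr u v) = Pr u v := by
  rw [Pr, spInv_add, spInv_sub, spInv_one, spInv_dy, spInv_dy]; abel

lemma om_Pr {u v : E} (huv : om u v = 1) (x : E) : om (Pr u v *ᵥ x) u = 0 := by
  simp [Pr, Matrix.add_mulVec, Matrix.sub_mulVec, dy_mulVec, om_add_left, om_sub_left, om_smul_left, om_self,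
    om_swap u v, huv, om_swap u x]

lemma Pr_sum (u v : E) : ∃ w : Fin (r + r) → E, Pr u v = ∑ k, dy (Pr u v *ᵥ Pi.single k 1) (w k) := by
  refine ⟨fun k => -(Pi.single k 1 ᵥ* jm r F), ?_⟩
  have e : ∀ k, -(Pi.single k (1 : F) ᵥ* jm r F) ᵥ* jm r F = Pi.single k 1 := fun k => by
    rw [Matrix.neg_vecMul, Matrix.vecMul_vecMul, jm_sq, Matrix.vecMul_neg, Matrix.vecMul_one, neg_neg]
  refine Matrix.ext fun a b => ?_
  simp only [Matrix.sum_apply, dy, Matrix.vecMulVec_apply, e]
  rw [Finset.sum_eq_single b]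
  · simp
  · intro k _ hk; simp [Ne.symm hk]
  · simp

/-- Products with the fixed root vanish on one side. -/
lemma mul_slot_dy_left0 {i : Fin t} {u v : E} (huv : om u v = 1) {X : MT} (h : X * slot i (dd u) = 0) (w : E) :
    X * slot i (dy u w) = 0 := by
  rw [show dy u w = dd u * dy v w by simp [dd, dy_mul_dy, huv], ← slot_mul, ← mul_assoc, h, zero_mul]

lemma slot_dy_mul_right0 {i : Fin t} {u v : E} (huv : om u v = 1) {X : MT} (h : slot i (dd u) * X = 0) (w : E) :
    slot i (dy w u) * X = 0 := by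
  rw [show dy w u = -(dy w v * dd u) by simp [dd, dy_mul_dy, om_swap u v, huv], ← neg_one_smul F (dy w v * dd u),
    slot_smul, ← slot_mul, smul_mul_assoc, mul_assoc, h, mul_zero, smul_zero]

/-- A matrix with the root as its two ends. -/
lemma eq_root_mul {i : Fin t} {u v : E} {X : MT} (h1 : -slot i (dy u v) * X = X)
    (h2 : X * slot i (dy v u) = X) : X = slot i (dd u) * -ev i v v X := by
  conv_lhs => rw [← h1, ← h2]
  rw [neg_mul, ← mul_assoc, sandwich, mul_neg]; rfl

/-- A matrix killed by the root, from its parts off the plane. -/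
lemma shape {i : Fin t} {u v : E} (huv : om u v = 1) {X : MT} (h1 : X * slot i (dd u) = 0)
    (h2 : slot i (dd u) * X = 0) {c : E} (hR : X * slot i (Pr u v) = slot i (dy u c))
    (hL : slot i (Pr u v) * X = slot i (dy c u)) : X = slot i (nn u c) + slot i (dd u) * -ev i v v X := by
  have e1 : X * slot i (dy v u) = slot i (dy c u) + slot i (dd u) * -ev i v v X := by
    calc X * slot i (dy v u) = slot i (-dy u v + dy v u + Pr u v) * X * slot i (dy v u) := by
          rw [← pr_split, slot_one, one_mul]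
      _ = _ := by
          rw [slot_add, slot_add, ← neg_one_smul F (dy u v), slot_smul, add_mul, add_mul, add_mul, add_mul,
            slot_dy_mul_right0 huv h2, zero_mul, hL, slot_mul, smul_mul_assoc, smul_mul_assoc, sandwich, neg_one_smul,
            mul_neg, dy_mul_dy, huv, one_smul, dd]
          abel
  calc X = X * slot i (-dy u v + dy v u + Pr u v) := by rw [← pr_split, slot_one, mul_one]
    _ = _ := by
      rw [slot_add, slot_add, ← neg_one_smul F (dy u v), slot_smul, mul_add, mul_add, mul_smul_comm,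
        mul_slot_dy_left0 huv h1, smul_zero, zero_add, e1, hR, nn, slot_add]
      abel

/-- The change of a matrix killed by the root under a root element orthogonal to it. -/
lemma delta_eq {i : Fin t} {u v d : E} (huv : om u v = 1) (hd : om d u = 0) {X C₁ C₂ : MT} (hC₁ : Com i C₁)
    (hC₂ : Com i C₂) (h1 : X * slot i (dy d u) = slot i (dd u) * C₁)
    (h2 : slot i (dy u d) * X = slot i (dd u) * C₂) :
    slot i (1 + dd d) * X * slot i (spInv (1 + dd d)) =
      X + (slot i (dy d u) * C₂ - slot i (dy u d) * C₁) := by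
  have eR : X * slot i (dd d) = slot i (dy u d) * C₁ := by
    rw [show dd d = dy d u * dy v d by simp [dd, dy_mul_dy, huv], ← slot_mul, ← mul_assoc, h1,
      slot_com_mid hC₁, dd, dy_mul_dy, huv, one_smul]
  have eL : slot i (dd d) * X = slot i (dy d u) * C₂ := by
    rw [show dd d = (-1 : F) • (dy d v * dy u d) by simp [dd, dy_mul_dy, om_swap u v, huv], slot_smul, ← slot_mul,
      smul_mul_assoc, mul_assoc, h2, ← mul_assoc, slot_mul, ← smul_mul_assoc, ← slot_smul]
    simp [dd, dy_mul_dy, om_swap u v, huv]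
  have eLR : slot i (dd d) * X * slot i (dd d) = 0 := by
    rw [eL, slot_com_mid hC₂, dd, dy_mul_dy, om_swap0 hd, zero_smul, slot_zero, zero_mul]
  rw [spInv_add, spInv_one, spInv_dd, ← sub_eq_add_neg, slot_add, slot_sub, slot_one, ← eR, ← eL]
  calc (1 + slot i (dd d)) * X * (1 - slot i (dd d))
      = X + (slot i (dd d) * X - X * slot i (dd d)) - slot i (dd d) * X * slot i (dd d) := by noncomm_ring
    _ = _ := by rw [eLR, sub_zero]

variable {M : Subgroup (GL (Fin t → Fin (r + r)) F)} [Finite F]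

/-- A member with parts against two orthogonal vectors. -/
lemma pair_scalar (hM : OBad M) (hq : Hq F r) (hr : 2 ≤ r) {i : Fin t} {u d : E}
    (hli : LinearIndependent F ![u, d]) (ho : om u d = 0) {E₁ E₂ C : MT} (h₁ : Com i E₁) (h₂ : Com i E₂)
    (hC : Com i C) {ρ : F} (hsum : E₁ + E₂ = ρ • 1)
    (h : Mem M (1 + (slot i (dy d u) * E₁ + slot i (dy u d) * E₂ + slot i (dd u) * C))) : ∃ c : F, E₁ = c • 1 := by
  have : NeZero r := ⟨hq.pos.ne'⟩
  have hb := hM.toOBase
  have hod : om d u = 0 := om_swap0 ho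
  set A := slot i (dy d u) * E₁ + slot i (dy u d) * E₂ + slot i (dd u) * C with hA
  obtain ⟨g, hg, hgu, hgd⟩ := exists_sp_orth hli ho (p' := d) (q' := -u)
    (LinearIndependent.pair_iff.2 fun a b hab => by
      obtain ⟨e1, e2⟩ := LinearIndependent.pair_iff.1 hli (-b) a (by rw [← hab]; module)
      exact ⟨e2, neg_eq_zero.1 e1⟩)
    (by rw [om_neg_right, hod, neg_zero])
  have h' := hb.conj_mem h i hg
  rw [hA, mul_add (slot i g), mul_add (slot i g), add_mul, add_mul, conj_slot_com h₁, conj_slot_com h₂,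
    conj_slot_com hC, sp_conj_dy hg, sp_conj_dy hg, sp_conj_dd hg, hgu, hgd, dy_neg_left, dy_neg_right] at h'
  -- all products in the plane vanish
  have hz : ∀ {A B : M₁} {X Y : MT}, Com i X → A * B = 0 → slot i A * X * (slot i B * Y) = 0 := fun hX e => by
    rw [slot_com_mul hX, e, slot_zero, zero_mul]
  have p : ∀ {a b c e : E}, om b c = 0 → dy a b * dy c e = 0 := fun h => by rw [dy_mul_dy, h, zero_smul]
  have hs := om_self (F := F) (r := r)
  have hAA : A * A = 0 := by
    simp only [hA, add_mul, mul_add, slot_com_mul h₁, slot_com_mul h₂, slot_com_mul hC]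
    simp [dd, dy_mul_dy, ho, hod, om_self, slot_zero]
  have hDD : Mem M (1 + slot i (dd d - dd u) * C) := by
    have h1 := h.one_sub hAA
    rw [sub_eq_add_neg] at h1
    have h2 := h'.add' h1 (by
      simp only [hA, mul_neg, add_mul, mul_add, slot_com_mul h₁, slot_com_mul h₂, slot_com_mul hC]
      simp [dd, dy_mul_dy, ho, hod, om_self, slot_zero])
    have h3 := h2.add' (hb.nn_mem i (u := u) (a := ρ • d) (by rw [om_smul_left, hod, mul_zero])) (by
      simp only [hA, add_mul, neg_mul, slot_com_mid h₁, slot_com_mid h₂, slot_com_mid hC]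
      simp [nn, dd, mul_add, dy_smul_left, dy_smul_right, dy_mul_dy, ho, hod, om_self, slot_zero])
    convert h3 using 2
    rw [hA, nn, dy_smul_left, dy_smul_right, slot_add, slot_smul, slot_smul, slot_sub, sub_mul,
      ← neg_one_smul F (dy u d), ← neg_one_smul F (dy d u), slot_smul, slot_smul, eq_sub_of_add_eq' hsum]
    simp only [smul_mul_assoc, mul_sub, mul_smul_comm, mul_one]
    module
  obtain ⟨c, hc⟩ := key_dd hM hq hli ho hC hDD
  have hA' : Mem M (1 + (slot i (dy d u) * E₁ + slot i (dy u d) * E₂)) := by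
    have h1 := h.add' (hb.root_mem i (-c) u) (by
      simp only [hA, add_mul, dd, ← slot_smul]
      rw [slot_com_mid h₁, slot_com_mid h₂, slot_com_mid hC, mul_smul_comm, mul_smul_comm, mul_smul_comm, p (hs u),
        p hod, p (hs u)]
      simp [slot_zero])
    convert h1 using 2
    rw [hA, hc, mul_smul_comm, mul_one]
    module
  refine scalar_of_com fun l => ?_
  rcases eq_or_ne l i with rfl | hli'
  · exact h₁
  suffices hx : ∀ x : E, slot l (dd x) * E₁ = E₁ * slot l (dd x) from fun a b => by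
    refine mat_induction (fun β => slot l β * E₁ = E₁ * slot l β) (fun A B hA hB => ?_) (fun c A hA => ?_)
      (fun A B hA hB => ?_) hx (Matrix.single a b 1)
    · rw [slot_add, add_mul, mul_add, hA, hB]
    · rw [slot_smul, smul_mul_assoc, mul_smul_comm, hA]
    · rw [← slot_mul, mul_assoc, hB, ← mul_assoc, hA, mul_assoc]
  intro x
  rcases eq_or_ne x 0 with rfl | hx0
  · simp [dd, dy_zero_left, slot_zero]
  set E₁' := slot l (1 + (1 : F) • dd x) * E₁ * slot l (spInv (1 + (1 : F) • dd x)) with hE'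
  have hcs : ∀ A : M₁, Com i (slot l A : MT) := fun A => com_slot hli'.symm A
  have hE'c : Com i E₁' := ((hcs _).mul h₁).mul (hcs _)
  have e2 : E₂ = ρ • (1 : MT) - E₁ := eq_sub_of_add_eq' hsum
  have h4 := hb.conj_mem hA' l (isSp_root 1 x)
  have hkk : Mem M (1 + slot i (kk 1 d u) * (E₁' - E₁)) := by
    set B := slot i (dy d u) * E₁ + slot i (dy u d) * E₂ with hB
    have hBB : B * B = 0 := by
      simp only [hB, add_mul, mul_add, slot_com_mul h₁, slot_com_mul h₂]
      simp [dy_mul_dy, ho, hod, om_self, slot_zero]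
    have e : slot l (1 + (1 : F) • dd x) * B * slot l (spInv (1 + (1 : F) • dd x)) =
        slot i (kk 1 d u) * E₁' + ρ • slot i (dy u d) := by
      have hmv : ∀ A : M₁, slot l (1 + (1 : F) • dd x) * (slot i A * E₁) * slot l (spInv (1 + (1 : F) • dd x)) =
          slot i A * E₁' := fun A => by
        rw [hE', ← mul_assoc, slot_mul_comm hli', mul_assoc (slot i A), mul_assoc (slot i A)]
      have hmv1 : slot l (1 + (1 : F) • dd x) * slot i (dy u d) * slot l (spInv (1 + (1 : F) • dd x)) =
          (slot i (dy u d) : MT) := by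
        rw [slot_mul_comm hli', mul_assoc, slot_mul, (isSp_root 1 x).mul_spInv, slot_one, mul_one]
      rw [hB, e2, mul_sub, mul_smul_comm, mul_one, mul_add, add_mul, mul_sub, sub_mul, mul_smul_comm,
        smul_mul_assoc, hmv, hmv, hmv1, kk, slot_sub, one_smul, sub_mul]
      abel
    have h5 := h4.add' (by simpa [← sub_eq_add_neg] using hA'.one_sub hBB : Mem M (1 + -B)) (by
      have s1 : ∀ A : M₁, (slot i (dy u d) : MT) * (slot i A * E₁) = slot i (dy u d * A) * E₁ := fun A => by
        rw [← mul_assoc, slot_mul]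
      have s2 : ∀ A : M₁, (slot i (dy u d) : MT) * slot i A = slot i (dy u d * A) := fun A => slot_mul _ _ _
      rw [e, hB, mul_neg, e2]
      simp only [mul_sub, mul_smul_comm, mul_one, add_mul, mul_add, smul_mul_assoc, slot_com_mul hE'c,
        slot_com_mid hE'c, s1, s2]
      simp [kk, sub_mul, dy_mul_dy, ho, hod, om_self, slot_zero])
    convert h5 using 2
    rw [e, hB, e2, kk, slot_sub, one_smul]
    simp only [mul_sub, sub_mul, mul_smul_comm, mul_one]
    abel
  obtain ⟨κ, hκ⟩ := key hM hq (kind_kk (li_swap hli) hod) (hE'c.sub h₁) hkk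
  rw [hE', spInv_add, spInv_one, spInv_smul, spInv_dd, one_smul, one_smul, ← sub_eq_add_neg, slot_add, slot_sub,
    slot_one] at hκ
  set D : MT := slot l (dd x) with hD
  have hκ' : D * E₁ - E₁ * D - D * E₁ * D = κ • (1 : MT) := by rw [← hκ]; noncomm_ring
  obtain ⟨z, hz1, hzn⟩ := exists_perp_notMem ![x] ![x] (by omega)
  obtain ⟨z', hz'⟩ := exists_dual ![x, z] (li_of_notMem hx0 0 rfl hzn) ![0, 1]
  have hzx : om z x = 0 := hz1 0
  have hz'x : om z' x = 0 := hz' 0
  have hz'z : om z' z = 1 := hz' 1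
  set Q : MT := slot l (dy z z') with hQ
  have hQD : Q * D = 0 := by rw [hQ, hD, slot_mul, dd, dy_mul_dy, hz'x, zero_smul, slot_zero]
  have hDQ : D * Q = 0 := by rw [hQ, hD, slot_mul, dd, dy_mul_dy, om_swap0 hzx, zero_smul, slot_zero]
  have hQQ : Q * Q = Q := by rw [hQ, slot_mul, dy_mul_dy, hz'z, one_smul]
  have hκ0 : κ = 0 := by
    have := congrArg (fun X => Q * X * Q) hκ'
    rw [show Q * (D * E₁ - E₁ * D - D * E₁ * D) * Q = Q * D * E₁ * Q - Q * E₁ * (D * Q) - Q * D * E₁ * (D * Q) by
      noncomm_ring, hQD, hDQ, mul_smul_comm, mul_one, smul_mul_assoc, hQQ] at this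
    simp only [zero_mul, mul_zero, sub_zero] at this
    refine (smul_eq_zero.1 this.symm).resolve_right fun e => ?_
    rw [hQ, ← slot_zero l] at e
    exact dy_ne_zero (fun h => hzn (by rw [h]; exact zero_mem _)) (fun h => one_ne_zero (α := F) (by rw [← hz'z, h, om_zero_left]))
      (slot_injective l e)
  rw [hκ0, zero_smul] at hκ'
  have hDD' : D * D = 0 := by rw [hD, slot_mul, dd_sq, slot_zero]
  have hD0 : D * E₁ * D = 0 := by
    have := congrArg (· * D) hκ'
    simpa [sub_mul, mul_assoc, hDD'] using this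
  rw [hD0, sub_zero, sub_eq_zero] at hκ'
  exact hκ'

/-- The image of a root element against the fixed vector. -/
lemma inSlot_nn (hM : OBad M) (hq : Hq F r) {g : GL (Fin t → Fin (r + r)) F} (hg : g ∈ M) {i j : Fin t} {u v : E}
    (huv : om u v = 1) {μ : F} (hfix : cj g (slot i (dd u)) = μ • slot j (dd u)) {a : E} (ha : om a u = 0) :
    InSlot j (cj g (slot i (nn u a))) := by
  classical
  have : NeZero r := ⟨hq.pos.ne'⟩
  have hu0 : u ≠ 0 := fun e => one_ne_zero (α := F) (by rw [← huv, e, om_zero_left])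
  by_cases hr : r = 1
  · obtain ⟨c, rfl⟩ := exists_smul_of_not_li hu0 fun h => not_orth_indep_one hr h (om_swap0 ha)
    rw [show nn u (c • u) = (2 * c) • dd u by simp only [nn, dd, dy_smul_left, dy_smul_right]; module, slot_smul,
      cj_smul, hfix]
    exact ((inSlot_slot _ _).smul _).smul _
  have hr2 : 2 ≤ r := by have := hq.pos; omega
  have hb := hM.toOBase
  set Z : MT := slot j (dd u) with hZ
  set P := cj g (slot i (nn u a)) with hP
  have hNZ : nn u a * dd u = 0 ∧ dd u * nn u a = 0 := by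
    constructor <;> simp [nn, dd, add_mul, mul_add, dy_mul_dy, om_self, ha, om_swap0 ha]
  have hμ : μ ≠ 0 := fun e => by
    rw [e, zero_smul, ← cj_zero g, ← slot_zero i] at hfix
    exact dd_ne_zero hu0 (slot_injective i (cj_injective g hfix))
  have hPZ : P * Z = 0 := by
    have := congrArg (cj g) (show slot i (nn u a) * slot i (dd u) = (0 : MT) by rw [slot_mul, hNZ.1, slot_zero])
    rw [cj_mul, hfix, cj_zero, mul_smul_comm, ← hP] at this
    exact (smul_eq_zero.1 this).resolve_left hμ
  have hZP : Z * P = 0 := by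
    have := congrArg (cj g) (show slot i (dd u) * slot i (nn u a) = (0 : MT) by rw [slot_mul, hNZ.2, slot_zero])
    rw [cj_mul, hfix, cj_zero, smul_mul_assoc, ← hP] at this
    exact (smul_eq_zero.1 this).resolve_left hμ
  have hPP : P * P = 0 := by rw [hP, ← cj_mul, slot_mul, nn_sq ha, slot_zero, cj_zero]
  have hPm : Mem M (1 + P) := Mem.cj (hb.nn_mem i ha) hg
  have hPadj : adj P = -P := hb.skew hPm hPP
  have hZadj : adj Z = -Z := by rw [hZ, adj_slot, spInv_dd, ← neg_one_smul F (dd u), slot_smul, neg_one_smul]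
  obtain ⟨T, T', hT⟩ : ∃ T T' : MT, P = Z * T' - T * Z := by
    refine ⟨μ • cj g (slot i (dy a v)), μ • cj g (slot i (dy v a)), ?_⟩
    rw [hP, show nn u a = dd u * dy v a + (-1 : F) • (dy a v * dd u) by
      simp [nn, dd, dy_mul_dy, huv, om_swap u v]; abel, slot_add, slot_smul, ← slot_mul, ← slot_mul, cj_add, cj_smul,
      cj_mul, cj_mul, hfix, smul_mul_assoc, mul_smul_comm, neg_one_smul, mul_smul_comm, smul_mul_assoc, sub_eq_add_neg]
  -- products with the dyads against the fixed vector
  have hκ : ∀ b, om b u = 0 → ∃ κ : F, P * slot j (dy b u) = κ • Z := by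
    intro b hbu
    by_cases hli : LinearIndependent F ![u, b]
    swap
    · obtain ⟨c, rfl⟩ := exists_smul_of_not_li hu0 hli
      refine ⟨0, ?_⟩
      rw [dy_smul_left, slot_smul, mul_smul_comm, show dy u u = dd u from rfl, hPZ, smul_zero, zero_smul]
    set X := P * slot j (dy b u) with hX
    set α := -ev j v v X with hα
    have hzb : Z * slot j (dy b u) = 0 := by
      rw [hZ, slot_mul, dd, dy_mul_dy, om_swap0 hbu, zero_smul, slot_zero]
    have hXe : X = Z * α := by
      refine eq_root_mul ?_ ?_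
      · rw [hX, hT, sub_mul, mul_assoc T, hzb, mul_zero, sub_zero, mul_assoc Z, ← mul_assoc (-slot j (dy u v)), neg_mul,
          hZ, slot_mul, dd, dy_mul_dy, om_swap u v, huv, neg_one_smul, ← neg_one_smul F (dy u u), slot_smul,
          neg_one_smul, neg_neg]
      · rw [hX, mul_assoc, slot_mul, dy_mul_dy, huv, one_smul]
    have hαc : Com j α := by simpa [hα] using (com_ev j v v X).smul (-1 : F)
    set α' := -adj α with hα'
    have hα'c : Com j α' := by simpa [hα'] using (com_adj hαc).smul (-1 : F)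
    have hL : slot j (dy u b) * P = Z * α' := by
      have := congrArg adj hXe
      rw [hX, adj_mul, adj_mul, adj_slot, spInv_dy, hPadj, hZadj, mul_neg, mul_neg, ← neg_one_smul F (dy u b),
        slot_smul, neg_one_smul, neg_mul, neg_neg] at this
      rw [this, hα', mul_neg, (com_adj hαc).slot_comm]
    have hPu : P * slot j (dy u b) = 0 := mul_slot_dy_left0 huv hPZ b
    have huP : slot j (dy b u) * P = 0 := slot_dy_mul_right0 huv hZP b
    set Q : MT := slot j (nn u b) with hQ
    have hPQ : P * Q = Z * α := by rw [hQ, nn, slot_add, mul_add, hPu, add_zero, ← hX, hXe]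
    have hQP : Q * P = Z * α' := by rw [hQ, nn, slot_add, add_mul, huP, zero_add, hL]
    have hQQ : Q * Q = 0 := by rw [hQ, slot_mul, nn_sq hbu, slot_zero]
    have hQZ : Q * Z = 0 := by
      rw [hQ, hZ, slot_mul]; simp [nn, dd, add_mul, dy_mul_dy, om_self, hbu, slot_zero]
    obtain ⟨ρ, hρ⟩ : ∃ ρ : F, α - α' = ρ • 1 := by
      refine key hM hq (kind_dd hu0) (hαc.sub hα'c) ?_
      have := mem_comm2 hPm (hb.nn_mem j hbu) hPP hQQ (by rw [mul_assoc, hQP, ← mul_assoc, hPZ, zero_mul])
        (by rw [mul_assoc, hPQ, ← mul_assoc, hQZ, zero_mul])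
      rwa [hPQ, hQP, ← mul_sub] at this
    have hΔ := delta_eq huv hbu hαc hα'c hXe hL
    have hm := hb.conj_mem hPm j (isSp_root 1 b)
    rw [one_smul, hΔ] at hm
    have hm2 : Mem M (1 + (slot j (dy b u) * α' + slot j (dy u b) * -α + Z * (α * α'))) := by
      have := hm.mul (hPm.one_sub hPP)
      convert this using 1
      have e1 : slot j (dy b u) * α' * P = 0 := by
        rw [hα'c.slot_comm, mul_assoc, huP, mul_zero]
      have e2 : slot j (dy u b) * α * P = Z * (α * α') := by
        rw [hαc.slot_comm, mul_assoc, hL, ← mul_assoc, ← mul_assoc, hαc.slot_comm]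
      symm
      calc (1 + (P + (slot j (dy b u) * α' - slot j (dy u b) * α))) * (1 - P)
          = 1 + (slot j (dy b u) * α' - slot j (dy u b) * α) - P * P -
              slot j (dy b u) * α' * P + slot j (dy u b) * α * P := by noncomm_ring
        _ = _ := by rw [hPP, e1, e2, mul_neg (slot j (dy u b)) α]; abel
    obtain ⟨c, hc⟩ := pair_scalar hM hq hr2 hli (om_swap0 hbu) hα'c (by simpa using hαc.smul (-1 : F))
      (hαc.mul hα'c) (ρ := -ρ) (by rw [← sub_eq_add_neg, neg_smul, ← hρ, neg_sub]) hm2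
    refine ⟨c + ρ, ?_⟩
    rw [hXe, eq_add_of_sub_eq hρ, hc, ← add_smul, mul_smul_comm, mul_one, add_comm ρ c]
  choose! κ hκ using hκ
  -- the parts off the plane
  obtain ⟨w, hw⟩ := Pr_sum u v
  set c₀ : E := ∑ k, κ (Pr u v *ᵥ Pi.single k 1) • w k
  have hR0 : P * slot j (Pr u v) = slot j (dy u c₀) := by
    have hadd : ∀ y y' : E, dy u (y + y') = dy u y + dy u y' := dy_add_right u
    conv_lhs => rw [hw, slot_sum, Finset.mul_sum]
    rw [show dy u c₀ = ∑ k, κ (Pr u v *ᵥ Pi.single k 1) • dy u (w k) from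
      (map_sum (AddMonoidHom.mk' (fun y : E => dy u y) hadd) _ _).trans
        (Finset.sum_congr rfl fun k _ => dy_smul_right _ _ _), slot_sum]
    refine Finset.sum_congr rfl fun k _ => ?_
    rw [show dy (Pr u v *ᵥ Pi.single k 1) (w k) = dy (Pr u v *ᵥ Pi.single k 1) u * dy v (w k) by
      rw [dy_mul_dy, huv, one_smul], ← slot_mul, ← mul_assoc, hκ _ (om_Pr huv _), slot_smul, smul_mul_assoc, hZ,
      slot_mul, dd, dy_mul_dy, huv, one_smul]
  have hPrPr : Pr u v * Pr u v = Pr u v := by
    simp [Pr, mul_add, add_mul, mul_sub, sub_mul, dy_mul_dy, om_self, huv, om_swap u v]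
  set c := Pr u v *ᵥ c₀
  have hR : P * slot j (Pr u v) = slot j (dy u c) := by
    conv_lhs => rw [← hPrPr, ← slot_mul, ← mul_assoc, hR0, slot_mul, dy_mul, spInv_Pr]
  have hL : slot j (Pr u v) * P = slot j (dy c u) := by
    have := congrArg adj hR
    rw [adj_mul, adj_slot, adj_slot, spInv_Pr, hPadj, spInv_dy, ← neg_one_smul F (dy c u), slot_smul, neg_one_smul,
      mul_neg, neg_inj] at this
    exact this
  have hPeq := shape huv hPZ hZP hR hL
  set C := -ev j v v P
  have hcu : om c u = 0 := om_Pr huv _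
  set N : MT := slot j (nn u c) with hN
  have hCc : Com j C := by simpa [C] using (com_ev j v v P).smul (-1 : F)
  have hNN : N * N = 0 := by rw [hN, slot_mul, nn_sq hcu, slot_zero]
  have hmem : Mem M (1 + Z * C) := by
    have := hPm.mul ((hb.nn_mem j hcu).one_sub hNN)
    rw [hPeq] at this
    convert this using 1
    have e : Z * C * N = 0 := by
      rw [hZ, hN, slot_com_mid hCc]; simp [nn, dd, mul_add, dy_mul_dy, om_self, om_swap0 hcu, slot_zero]
    symm
    calc (1 + (N + Z * C)) * (1 - N) = 1 + Z * C - N * N - Z * C * N := by noncomm_ring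
      _ = _ := by rw [hNN, e]; simp
  obtain ⟨k, hk⟩ := key hM hq (kind_dd hu0) hCc hmem
  refine ⟨nn u c + k • dd u, ?_⟩
  rw [hPeq, hk, mul_smul_comm, mul_one, slot_add, slot_smul]

/-- Independence from square-zero pairs. -/
lemma eq_zero_of_affine {A : M₁ → MT} (hA : ∀ (a b : F) β β', A (a • β + b • β') = a • A β + b • A β')
    (hinj : ∀ β (c : F), A β = c • 1 → β = c • 1) [NeZero r] {β β' : M₁}
    (hsq : ∀ a b : F, (a • β + b • β') * (a • β + b • β') = 0)
    (hind : ∀ a b : F, a • β + b • β' = 0 → a = 0 ∧ b = 0) {k₁ k₂ k₃ ε : F} (hε : ε ≠ 0)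
    (h : k₃ • (1 + ε • A (β + β')) = k₁ • (1 + ε • A β) + k₂ • (1 + ε • A β')) : k₁ = 0 := by
  have e : A ((ε * (k₁ - k₃)) • β + (ε * (k₂ - k₃)) • β') = (k₃ - k₁ - k₂) • (1 : MT) := by
    have hadd : A (β + β') = A β + A β' := by simpa using hA 1 1 β β'
    rw [hA]
    rw [hadd] at h
    simp only [smul_add, smul_smul] at h
    linear_combination (norm := module) (-1 : F) • h
  have e1 := hinj _ _ e
  have e2 : k₃ - k₁ - k₂ = 0 := by
    have h1 := hsq (ε * (k₁ - k₃)) (ε * (k₂ - k₃))
    rw [e1, smul_mul_smul_comm, one_mul] at h1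
    exact mul_self_eq_zero.1 ((smul_eq_zero.1 h1).resolve_right one_ne_zero)
  rw [e2, zero_smul] at e1
  obtain ⟨f1, f2⟩ := hind _ _ e1
  simp only [mul_eq_zero, hε, false_or] at f1 f2
  linear_combination -e2 - f2

/-- A member sending a root group of a factor to one of a factor sends the factor there. -/
theorem pres_of_fix (hM : OBad M) (hq : Hq F r) {g : GL (Fin t → Fin (r + r)) F} (hg : g ∈ M) {i j : Fin t} {u : E}
    (hu0 : u ≠ 0) {μ : F} (hμ : μ ≠ 0) (hfix : cj g (slot i (dd u)) = μ • slot j (dd u)) : Pres g i j := by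
  classical
  have : NeZero r := ⟨hq.pos.ne'⟩
  have hb := hM.toOBase
  obtain ⟨v, huv⟩ := exists_partner hu0
  set Z : MT := slot i (dd u) with hZ
  have hZZ : Z * Z = 0 := by rw [hZ, slot_mul, dd_sq, slot_zero]
  have himg : ∀ a, om a u = 0 → InSlot j (cj g (slot i (nn u a))) := fun a ha => inSlot_nn hM hq hg huv hfix ha
  intro p s
  refine inSlot_of_com fun l hl p' s' => ?_
  suffices hall : ∀ β : M₁, Com i (cj g⁻¹ (slot l β)) by
    have h : (eu i p s : MT) * cj g⁻¹ (eu l p' s') = cj g⁻¹ (eu l p' s') * eu i p s := hall _ p s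
    have := congrArg (cj g) h
    rw [cj_mul, cj_mul, cj_cj_inv] at this
    exact this.symm
  set Y : M₁ → MT := fun β => cj g⁻¹ (slot l β) with hYdef
  set A : M₁ → MT := fun β => ev i u v (Y β) with hAdef
  have hAc : ∀ β, Com i (A β) := fun β => com_ev _ _ _ _
  have hA : ∀ (a b : F) β β', A (a • β + b • β') = a • A β + b • A β' := fun a b β β' => by
    simp only [hAdef, hYdef, slot_add, slot_smul, cj_add, cj_smul, ev_add, ev_smul]
  have hY : ∀ (a b : F) β β', Y (a • β + b • β') = a • Y β + b • Y β' := fun a b β β' => by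
    simp only [hYdef, slot_add, slot_smul, cj_add, cj_smul]
  have hYN : ∀ β a, om a u = 0 → Y β * slot i (nn u a) = slot i (nn u a) * Y β := fun β a ha => by
    obtain ⟨X, hX⟩ := himg a ha
    refine cj_injective g ?_
    rw [cj_mul, cj_mul, hYdef, cj_cj_inv, hX, slot_mul_comm hl]
  have hYZ : ∀ β, Y β * Z = Z * Y β := fun β => by
    refine cj_injective g ?_
    rw [cj_mul, cj_mul, hYdef, cj_cj_inv, hfix, smul_mul_assoc, mul_smul_comm, slot_mul_comm hl]
  obtain ⟨w, hw⟩ := Pr_sum u v
  have hdyb : ∀ (b w : E), dy b w = dy b u * dy v w := fun b w => by rw [dy_mul_dy, huv, one_smul]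
  -- the part at the fixed root
  have hZA : ∀ β, Z * Y β = Z * A β := fun β => by
    have h0 : Z * Y β * Z = 0 := by rw [mul_assoc, hYZ, ← mul_assoc, hZZ, zero_mul]
    have hbu : ∀ b, om b u = 0 → Z * Y β * slot i (dy b u) = 0 := fun b hb => by
      have : Z * Y β * slot i (nn u b) = 0 := by
        rw [mul_assoc, hYN β b hb, ← mul_assoc, hZ, slot_mul,
          show dd u * nn u b = 0 by simp [nn, dd, mul_add, dy_mul_dy, om_self, om_swap0 hb], slot_zero, zero_mul]
      rwa [nn, slot_add, mul_add, mul_slot_dy_left0 huv h0, add_zero] at this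
    calc Z * Y β = Z * Y β * slot i (-dy u v + dy v u + Pr u v) := by rw [← pr_split, slot_one, mul_one]
      _ = Z * Y β * slot i (dy v u) := by
          rw [slot_add, slot_add, mul_add, mul_add, ← neg_one_smul F (dy u v), slot_smul, mul_smul_comm,
            mul_slot_dy_left0 huv h0, smul_zero, zero_add, hw, slot_sum, Finset.mul_sum,
            Finset.sum_eq_zero fun k _ => by
              rw [hdyb, ← slot_mul, ← mul_assoc, hbu _ (om_Pr huv _), zero_mul], add_zero]
      _ = _ := by rw [hZ, dd, sandwich]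
  have hinj : ∀ β (c : F), A β = c • 1 → β = c • 1 := fun β c h => by
    have h1 : Z * (Y β - c • 1) = 0 := by rw [mul_sub, hZA, h, sub_self]
    have h2 := congrArg (cj g) h1
    rw [cj_mul, cj_sub, hYdef, cj_cj_inv, cj_smul, cj_one, hfix, cj_zero, ← slot_one l, ← slot_smul l, ← slot_sub,
      smul_mul_assoc, smul_eq_zero, or_iff_right hμ] at h2
    by_contra hne
    exact slot_mul_ne_zero hl.symm (dd_ne_zero hu0) (sub_ne_zero.2 hne) h2
  have hcA : ∀ β, A β * Z = Z * A β := fun β => ((hAc β).slot_comm _).symm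
  set Y₀ : M₁ → MT := fun β => Y β - A β with hY₀def
  have hY₀Z : ∀ β, Y₀ β * Z = 0 ∧ Z * Y₀ β = 0 := fun β => by
    constructor
    · rw [hY₀def, sub_mul, hYZ, hZA, hcA, sub_self]
    · rw [hY₀def, mul_sub, hZA, sub_self]
  -- sides against the fixed vector
  set S : E → M₁ → MT := fun b β => -ev i v v (Y₀ β * slot i (dy b u)) with hSdef
  have hSc : ∀ b β, Com i (S b β) := fun b β => by
    simpa [hSdef] using (com_ev i v v (Y₀ β * slot i (dy b u))).smul (-1 : F)
  have hside : ∀ b, om b u = 0 → ∀ β,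
      Y₀ β * slot i (dy b u) = Z * S b β ∧ slot i (dy u b) * Y₀ β = Z * S b β := fun b hb β => by
    have hN : Y₀ β * slot i (nn u b) = slot i (nn u b) * Y₀ β := by
      rw [hY₀def, sub_mul, mul_sub, hYN β b hb, (hAc β).slot_comm]
    rw [nn, slot_add, mul_add, add_mul, mul_slot_dy_left0 huv (hY₀Z β).1, slot_dy_mul_right0 huv (hY₀Z β).2,
      add_zero, zero_add] at hN
    have e : Y₀ β * slot i (dy b u) = Z * S b β := by
      refine eq_root_mul ?_ ?_
      · rw [hN, ← mul_assoc, neg_mul, slot_mul, dy_mul_dy, om_swap u v, huv, neg_one_smul,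
          ← neg_one_smul F (dy u b), slot_smul, neg_one_smul, neg_neg]
      · rw [mul_assoc, slot_mul, dy_mul_dy, huv, one_smul]
    exact ⟨e, hN ▸ e⟩
  have hSlin : ∀ b (a a' : F) β β', S b (a • β + a' • β') = a • S b β + a' • S b β' := fun b a a' β β' => by
    simp only [hSdef, hY₀def, hY, hA]
    rw [show a • Y β + a' • Y β' - (a • A β + a' • A β') = a • (Y β - A β) + a' • (Y β' - A β') by module,
      add_mul, smul_mul_assoc, smul_mul_assoc, ev_add, ev_smul, ev_smul]
    module
  have hsq : ∀ β, β * β = 0 → Y β * Y β = 0 ∧ A β * A β = 0 := fun β h => by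
    have h2 : Y β * Y β = 0 := by rw [hYdef, ← cj_mul, slot_mul, h, slot_zero, cj_zero]
    refine ⟨h2, slot_mul_com_eq_zero (i := i) (dd_ne_zero hu0) ((hAc β).mul (hAc β)) ?_⟩
    calc Z * (A β * A β) = Z * A β * A β := by rw [mul_assoc]
      _ = A β * (Z * A β) := by rw [← mul_assoc (A β) Z, hcA]
      _ = A β * (Z * Y β) := by rw [hZA]
      _ = Z * A β * Y β := by rw [← mul_assoc, hcA]
      _ = 0 := by rw [← hZA, mul_assoc, h2, mul_zero]
  have hmem : ∀ β, IsSp (1 + β) → Mem M (1 + Y β) := fun β h => by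
    have h1 := hb.slot_mem l _ h
    rw [slot_add, slot_one] at h1
    exact Mem.cj h1 (M.inv_mem hg)
  have hdd : ∀ (a b : F) {x y : E}, om x y = 0 → IsSp (1 + (a • dd x + b • dd y)) ∧
      (a • dd x + b • dd y) * (a • dd x + b • dd y) = 0 := fun a b {x y} h => by
    have e : (a • dd x + b • dd y) * (a • dd x + b • dd y) = 0 := by
      simp [add_mul, mul_add, dd, dy_mul_dy, om_self, h, om_swap0 h]
    exact ⟨isSp_one_add (by rw [spInv_add, spInv_smul, spInv_smul, spInv_dd, spInv_dd]; module) e, e⟩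
  have hindep : ∀ {x y : E}, LinearIndependent F ![x, y] → ∀ a b : F, a • dd x + b • dd y = 0 → a = 0 ∧ b = 0 := by
    intro x y h a b hab
    obtain ⟨z, hz⟩ := exists_dual ![x, y] h ![1, 0]
    obtain ⟨z', hz'⟩ := exists_dual ![x, y] h ![0, 1]
    have e1 := congrArg (fun X => X *ᵥ z) hab
    have e2 := congrArg (fun X => X *ᵥ z') hab
    simp [dd, Matrix.add_mulVec, Matrix.smul_mulVec, dy_mulVec, om_swap z x, om_swap z y, om_swap z' x,
      om_swap z' y, show om z x = 1 from hz 0, show om z y = 0 from hz 1, show om z' x = 0 from hz' 0,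
      show om z' y = 1 from hz' 1] at e1 e2
    exact ⟨e1.resolve_right (h.ne_zero 0), e2.resolve_right (h.ne_zero 1)⟩
  have hsmul1 : ∀ x : E, dd x = (1 : F) • dd x + (0 : F) • dd x := fun x => by rw [one_smul, zero_smul, add_zero]
  -- the sides vanish
  have hS0 : ∀ b, om b u = 0 → ∀ x : E, S b (dd x) = 0 := by
    intro b hbu x
    by_cases hli : LinearIndependent F ![u, b]
    swap
    · obtain ⟨c, rfl⟩ := exists_smul_of_not_li hu0 hli
      simp only [hSdef, dy_smul_left, slot_smul, mul_smul_comm]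
      rw [show dy u u = dd u from rfl, (hY₀Z _).1, smul_zero, ev_zero, neg_zero]
    have hr2 : 2 ≤ r := by
      by_contra hc
      exact not_orth_indep_one (by have := hq.pos; omega) hli (om_swap0 hbu)
    have hform : ∀ β, IsSp (1 + β) → β * β = 0 → ∃ s : F, S b β = s • (1 + A β) := by
      intro β h1 h2
      obtain ⟨hYY, hAA⟩ := hsq β h2
      obtain ⟨e1, e2⟩ := hside b hbu β
      have hΔ := delta_eq huv hbu (hSc b β) (hSc b β) e1 e2
      have hY₀ : Y β = A β + Y₀ β := (add_sub_cancel (A β) (Y β)).symm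
      set Δ := slot i (dy b u) * S b β - slot i (dy u b) * S b β with hΔdef
      have hm := hb.conj_mem (hmem β h1) i (isSp_root 1 b)
      rw [one_smul, hY₀, mul_add, add_mul, hΔ, (hAc β).slot_comm, mul_assoc (A β), slot_mul,
        (show IsSp (1 + dd b) by simpa using isSp_root 1 b).mul_spInv, slot_one, mul_one, ← add_assoc (A β), ← hY₀] at hm
      have hm2 := hm.mul ((hmem β h1).one_sub hYY)
      have e : (1 + (Y β + Δ)) * (1 - Y β) = 1 + (slot i (dy b u) * (S b β * (1 - A β)) +
          slot i (dy u b) * -(S b β * (1 - A β)) + Z * (S b β * S b β)) := by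
        have f1 : slot i (dy b u) * S b β * Y₀ β = 0 := by
          rw [(hSc b β).slot_comm, mul_assoc, slot_dy_mul_right0 huv (hY₀Z β).2, mul_zero]
        have f2 : slot i (dy u b) * S b β * Y₀ β = Z * (S b β * S b β) := by
          rw [(hSc b β).slot_comm, mul_assoc, e2, ← mul_assoc, ← (hSc b β).slot_comm, mul_assoc]
        calc (1 + (Y β + Δ)) * (1 - Y β) = 1 + Δ - Y β * Y β - Δ * Y β := by noncomm_ring
          _ = 1 + Δ - (slot i (dy b u) * S b β * (A β + Y₀ β) - slot i (dy u b) * S b β * (A β + Y₀ β)) := by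
              rw [hYY, sub_zero, hΔdef, sub_mul, ← hY₀]
          _ = _ := by
              rw [mul_add (slot i (dy b u) * S b β), mul_add (slot i (dy u b) * S b β), f1, f2, hΔdef, mul_sub,
                mul_one, mul_neg (slot i (dy u b)) (S b β - S b β * A β), mul_sub, mul_sub, mul_assoc, mul_assoc]
              abel
      rw [e] at hm2
      have hc : Com i (S b β * (1 - A β)) := (hSc b β).mul ((com_one i).sub (hAc β))
      obtain ⟨s, hs⟩ := pair_scalar hM hq hr2 hli (om_swap0 hbu) hc (by simpa using hc.smul (-1 : F))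
        ((hSc b β).mul (hSc b β)) (ρ := 0) (by rw [add_neg_cancel, zero_smul]) hm2
      refine ⟨s, ?_⟩
      calc S b β = S b β * ((1 - A β) * (1 + A β)) := by
            rw [sub_mul, one_mul, mul_add, mul_one, hAA, add_zero, add_sub_cancel_right, mul_one]
        _ = _ := by rw [← mul_assoc, hs, smul_mul_assoc, one_mul]
    rcases eq_or_ne x 0 with rfl | hx0
    · simp [hSdef, hY₀def, hYdef, hAdef, dd, dy_zero_left, slot_zero, cj_zero, ev_zero]
    obtain ⟨y, hy, hxy⟩ := exists_orth_partner hr2 hx0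
    have hsp : ∀ a b : F, IsSp (1 + (a • dd x + b • dd y)) ∧
        (a • dd x + b • dd y) * (a • dd x + b • dd y) = 0 := fun a b => hdd a b hxy
    obtain ⟨s₁, h₁⟩ := hform (dd x) (by simpa using (hsp 1 0).1) (dd_sq x)
    obtain ⟨s₂, h₂⟩ := hform (dd y) (by simpa using (hsp 0 1).1) (dd_sq y)
    obtain ⟨s₃, h₃⟩ := hform (dd x + dd y) (by simpa using (hsp 1 1).1) (by simpa using (hsp 1 1).2)
    have h : s₁ = 0 := eq_zero_of_affine hA hinj (fun a b => (hsp a b).2) (hindep hy) one_ne_zero (k₂ := s₂)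
      (k₃ := s₃) (by
        rw [one_smul, one_smul, one_smul, ← h₁, ← h₂, ← h₃]
        simpa using hSlin b 1 1 (dd x) (dd y))
    rw [h₁, h, zero_smul]
  -- the two parts
  set C : M₁ → MT := fun β => -ev i v v (Y₀ β) with hCdef
  have hCc : ∀ β, Com i (C β) := fun β => by simpa [hCdef] using (com_ev i v v (Y₀ β)).smul (-1 : F)
  have hClin : ∀ (a a' : F) β β', C (a • β + a' • β') = a • C β + a' • C β' := fun a a' β β' => by
    simp only [hCdef, hY₀def, hY, hA]
    rw [show a • Y β + a' • Y β' - (a • A β + a' • A β') = a • (Y β - A β) + a' • (Y β' - A β') by module,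
      ev_add, ev_smul, ev_smul]
    module
  have hsplit1 : ∀ x, Y (dd x) = A (dd x) + Z * C (dd x) := fun x => by
    have hR : Y₀ (dd x) * slot i (Pr u v) = slot i (dy u (0 : E)) := by
      rw [hw, slot_sum, Finset.mul_sum, dy_zero_right, slot_zero]
      exact Finset.sum_eq_zero fun k _ => by
        rw [hdyb, ← slot_mul, ← mul_assoc, (hside _ (om_Pr huv _) _).1, hS0 _ (om_Pr huv _), mul_zero, zero_mul]
    have hL : slot i (Pr u v) * Y₀ (dd x) = slot i (dy (0 : E) u) := by
      rw [← spInv_Pr, hw, dy_zero_left, slot_zero,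
        show spInv (∑ k, dy (Pr u v *ᵥ Pi.single k 1) (w k)) =
            ∑ k, dy (w k) v * dy u (Pr u v *ᵥ Pi.single k 1) from
          (map_sum (AddMonoidHom.mk' (fun X : M₁ => spInv X) spInv_add) _ _).trans (Finset.sum_congr rfl fun k _ => by
            simp [spInv_dy, dy_mul_dy, om_swap u v, huv]), slot_sum, Finset.sum_mul]
      exact Finset.sum_eq_zero fun k _ => by
        rw [← slot_mul, mul_assoc, (hside _ (om_Pr huv _) _).2, hS0 _ (om_Pr huv _), mul_zero, mul_zero]
    have := shape huv (hY₀Z _).1 (hY₀Z _).2 hR hL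
    rw [nn, dy_zero_left, dy_zero_right, add_zero, slot_zero, zero_add] at this
    rw [← sub_eq_iff_eq_add']
    exact this
  have hsplit : ∀ a b x y, Y (a • dd x + b • dd y) = A (a • dd x + b • dd y) + Z * C (a • dd x + b • dd y) :=
    fun a b x y => by
      rw [hY, hA, hClin, hsplit1, hsplit1, mul_add, mul_smul_comm, mul_smul_comm]; module
  -- the part at the root is affine in the other
  have hk : ∀ (a b : F) {x y : E}, om x y = 0 →
      ∃ k : F, C (a • dd x + b • dd y) = k • (1 + (-1 : F) • A (a • dd x + b • dd y)) := by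
    intro a b x y hxy
    set β := a • dd x + b • dd y with hβ
    obtain ⟨hsp, hbb⟩ := hdd a b hxy
    obtain ⟨hYY, hAA⟩ := hsq β hbb
    have hsp' := hsplit a b x y
    rw [← hβ] at hsp'
    have hcC : C β * Z = Z * C β := ((hCc β).slot_comm _).symm
    have hAC : A β * C β + C β * A β = 0 := by
      refine slot_mul_com_eq_zero (i := i) (dd_ne_zero hu0) (((hAc β).mul (hCc β)).add ((hCc β).mul (hAc β))) ?_
      have e : Y β * Y β = A β * A β + Z * (A β * C β + C β * A β) + Z * Z * (C β * C β) := by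
        rw [hsp']
        simp only [add_mul, mul_add, mul_assoc, ← mul_assoc (A β) Z, hcA, ← mul_assoc (C β) Z, hcC]
        abel
      rw [hYY, hAA, hZZ, zero_mul, add_zero, zero_add] at e
      exact e.symm
    have hm1 : Mem M (1 + (A β + Z * C β)) := hsp' ▸ hmem β hsp
    -- moving the root in its factor
    have hmove : ∀ {w : E}, w ≠ 0 → Mem M (1 + (A β + slot i (dd w) * C β)) := fun {w} hw0 => by
      obtain ⟨h, hh, hhu⟩ := exists_sp_vec hu0 hw0
      have := hb.conj_mem hm1 i hh
      rwa [mul_add, add_mul, hZ, conj_slot_com (hCc β), sp_conj_dd hh, hhu, (hAc β).slot_comm, mul_assoc (A β),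
        slot_mul, hh.mul_spInv, slot_one, mul_one] at this
    have hz' : (A β + Z * C β) * (A β + Z * C β) = 0 := by rw [← hsp']; exact hYY
    have hfin : ∀ (D : M₁), D * dd u = 0 → Mem M (1 + (A β + slot i D * C β)) →
        Mem M (1 + slot i (D - dd u) * ((1 + A β) * C β)) := fun D hD h => by
      have := h.mul (hm1.one_sub hz')
      convert this using 1
      have f1 : A β * (Z * C β) = Z * (A β * C β) := by rw [← mul_assoc, hcA, mul_assoc]
      have f2 : slot i D * C β * (Z * C β) = 0 := by rw [hZ, slot_com_mul (hCc β), hD, slot_zero, zero_mul]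
      have f3 : C β * A β = -(A β * C β) := eq_neg_of_add_eq_zero_right hAC
      symm
      calc (1 + (A β + slot i D * C β)) * (1 - (A β + Z * C β))
          = 1 + slot i D * C β - Z * C β - A β * A β - A β * (Z * C β) - slot i D * (C β * A β) -
              slot i D * C β * (Z * C β) := by noncomm_ring
        _ = _ := by
            rw [hAA, f1, f2, f3, slot_sub, sub_mul, add_mul, one_mul, mul_add, mul_add, mul_neg (slot i D) (A β * C β), ← hZ]
            abel
    have hAC' : Com i ((1 + A β) * C β) := ((com_one i).add (hAc β)).mul (hCc β)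
    have hone : C β = (1 + (-1 : F) • A β) * ((1 + A β) * C β) := by
      rw [← mul_assoc, neg_one_smul, add_mul, one_mul, neg_mul, mul_add, mul_one, hAA, add_zero,
        add_neg_cancel_right, one_mul]
    obtain ⟨k, hk⟩ : ∃ k : F, (1 + A β) * C β = k • 1 := by
      by_cases hr : r = 1
      · obtain ⟨-, hF5⟩ := hq.one hr
        obtain ⟨c, hc0, hc1, hc2⟩ : ∃ c : F, c ≠ 0 ∧ c ≠ 1 ∧ c ≠ -1 := by
          let _ := Fintype.ofFinite F
          obtain ⟨c, -, hc⟩ := Finset.exists_mem_notMem_of_card_lt_card (t := (Finset.univ : Finset F))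
            (s := ({0, 1, -1} : Finset F))
            (lt_of_le_of_lt Finset.card_le_three (by rw [Finset.card_univ, ← Nat.card_eq_fintype_card]; omega))
          simp only [Finset.mem_insert, Finset.mem_singleton, not_or] at hc
          exact ⟨c, hc⟩
        have := hfin (dd (c • u)) (by simp [dd, dy_smul_left, dy_smul_right, dy_mul_dy, om_self])
          (hmove (smul_ne_zero hc0 hu0))
        rw [show dd (c • u) - dd u = (c * c - 1) • dd u by simp [dd, dy_smul_left, dy_smul_right, sub_smul, smul_smul],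
          slot_smul, smul_mul_assoc, ← mul_smul_comm] at this
        obtain ⟨k, hk⟩ := key hM hq (kind_dd hu0) (hAC'.smul _) this
        have hne : c * c - 1 ≠ 0 := fun e => by
          rcases mul_self_eq_one_iff.1 (sub_eq_zero.1 e) with h | h
          · exact hc1 h
          · exact hc2 h
        exact ⟨(c * c - 1)⁻¹ * k, by rw [← smul_smul, ← hk, smul_smul, inv_mul_cancel₀ hne, one_smul]⟩
      · have hr2 : 2 ≤ r := by have := hq.pos; omega
        obtain ⟨d, hd, hud⟩ := exists_orth_partner hr2 hu0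
        exact key_dd hM hq hd hud hAC' (hfin (dd d) (by simp [dd, dy_mul_dy, om_swap0 hud])
          (hmove (by simpa using hd.ne_zero 1)))
    exact ⟨k, by rw [hone, hk, mul_smul_comm, mul_one]⟩
  refine mat_induction (fun β => Com i (Y β)) (fun X X' hX hX' => ?_) (fun c X hX => ?_)
    (fun X X' hX hX' => ?_) fun x => ?_
  · simp only [hYdef, slot_add, cj_add]; exact hX.add hX'
  · simp only [hYdef, slot_smul, cj_smul]; exact hX.smul c
  · simp only [hYdef, ← slot_mul, cj_mul]; exact hX.mul hX'
  suffices hC0 : C (dd x) = 0 by rw [hsplit1, hC0, mul_zero, add_zero]; exact hAc _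
  rcases eq_or_ne x 0 with rfl | hx0
  · simp [hCdef, hY₀def, hYdef, hAdef, dd, dy_zero_left, slot_zero, cj_zero, ev_zero]
  by_cases hr : r = 1
  · obtain ⟨h2, -⟩ := hq.one hr
    obtain ⟨k, hk1⟩ := hk 1 0 (x := x) (y := x) (om_self x)
    obtain ⟨k', hk2⟩ := hk 2 0 (x := x) (y := x) (om_self x)
    rw [← hsmul1] at hk1
    rw [zero_smul, add_zero] at hk2
    have e2 : ∀ f : M₁ → MT, (∀ (a b : F) β β', f (a • β + b • β') = a • f β + b • f β') →
        f ((2 : F) • dd x) = (2 : F) • f (dd x) := fun f hf => by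
      simpa using hf 2 0 (dd x) (dd x)
    rw [e2 C hClin, e2 A hA, hk1] at hk2
    have e : A ((2 * (k - k')) • dd x) = (2 * k - k') • (1 : MT) := by
      have := hA (2 * (k - k')) 0 (dd x) (dd x)
      rw [zero_smul, add_zero, zero_smul, add_zero] at this
      rw [this]
      simp only [smul_add, smul_smul] at hk2
      linear_combination (norm := module) (-1 : F) • hk2
    have e1 := hinj _ _ e
    have hz : (2 : F) * k - k' = 0 := by
      have h1 := congrArg (fun X : M₁ => X * X) e1
      simp only [smul_mul_smul_comm, dd_sq, one_mul, smul_zero] at h1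
      exact mul_self_eq_zero.1 ((smul_eq_zero.1 h1.symm).resolve_right one_ne_zero)
    rw [hz, zero_smul, smul_eq_zero, or_iff_left (dd_ne_zero hx0), mul_eq_zero, or_iff_right h2, sub_eq_zero] at e1
    rw [hk1, show k = 0 by linear_combination hz - e1, zero_smul]
  · have hr2 : 2 ≤ r := by have := hq.pos; omega
    obtain ⟨y, hy, hxy⟩ := exists_orth_partner hr2 hx0
    obtain ⟨k₁, h₁⟩ := hk 1 0 hxy
    obtain ⟨k₂, h₂⟩ := hk 0 1 hxy
    obtain ⟨k₃, h₃⟩ := hk 1 1 hxy
    simp only [one_smul, zero_smul, add_zero, zero_add] at h₁ h₂ h₃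
    have h : k₁ = 0 := eq_zero_of_affine hA hinj (fun a b => (hdd a b hxy).2) (hindep hy)
      (neg_ne_zero.2 one_ne_zero) (k₂ := k₂) (k₃ := k₃) (by
        rw [← h₁, ← h₂, ← h₃]
        simpa using hClin 1 1 (dd x) (dd y))
    rw [h₁, h, zero_smul]

end CfsgLib.Geo.TensorPow.OS
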