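/-
A member sending a root element of a factor into the wreath group lies in the wreath group.
-/
import Cfsg.Agent.Geo.TensorPow.OS.Fix
import Cfsg.Agent.Geo.TensorPow.Avg
import Cfsg.Agent.Geo.TensorPow.Sp.Classify

set_option autoImplicit false
set_option linter.unusedSectionVars false

namespace CfsgLib.Geo.TensorPow.OS

open Matrix Cfsg.Geo CfsgLib.Geo CfsgLib.Aschbacher
open scoped MatrixGroups

variable {F : Type*} [Field F] {t r : ℕ}

local notation "E" => (Fin (r + r) → F)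
local notation "M₁" => Matrix (Fin (r + r)) (Fin (r + r)) F
local notation "MT" => Mt t (r + r) F

lemma cj_slotU (i : Fin t) (h : GL (Fin (r + r)) F) (A : M₁) :
    cj (slotU i h) (slot i A) = slot i ((h : M₁) * A * ((h⁻¹ : GL (Fin (r + r)) F) : M₁)) := by
  rw [cj, ← map_inv, slotU_val, slotU_val, slot_mul, slot_mul]

/-- An isometry of a factor as a unit. -/
def spU (h : M₁) (hh : IsSp h) : GL (Fin (r + r)) F := ⟨h, spInv h, hh.mul_spInv, hh.spInv_mul⟩

lemma spU_val {h : M₁} (hh : IsSp h) : ((spU h hh : GL (Fin (r + r)) F) : M₁) = h := rfl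

lemma spU_inv_val {h : M₁} (hh : IsSp h) : (((spU h hh)⁻¹ : GL (Fin (r + r)) F) : M₁) = spInv h := rfl

lemma vecMulVec_eq_dy (p f : E) : Matrix.vecMulVec p f = dy p (-(f ᵥ* jm r F)) := by
  rw [dy, Matrix.neg_vecMul, Matrix.vecMul_vecMul, jm_sq, Matrix.vecMul_neg, Matrix.vecMul_one, neg_neg]

/-- A skew dyad is a multiple of a root at one vector. -/
lemma exists_dd_of_skew {p q : E} (hp : p ≠ 0) (hq : q ≠ 0) (h : spInv (dy p q) = -dy p q) :
    ∃ μ : F, μ ≠ 0 ∧ dy p q = μ • dd p := by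
  rw [spInv_dy, neg_inj] at h
  obtain ⟨z, hz⟩ := exists_partner hp
  have e := congrArg (fun X => X *ᵥ z) h
  simp only [dy_mulVec, hz, one_smul] at e
  refine ⟨om q z, fun h0 => hq (by rw [e, h0, zero_smul]), ?_⟩
  conv_lhs => rw [e, dy_smul_right]
  rfl

/-- A nilpotent matrix of a plane is a dyad. -/
lemma exists_dy_one (hr : r = 1) {A : M₁} (hA : A ≠ 0) (hAA : A * A = 0) :
    ∃ p q : E, A = dy p q := by
  obtain ⟨v, hv⟩ : ∃ v, A *ᵥ v ≠ 0 := by
    by_contra hcon
    push Not at hcon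
    exact hA (Matrix.ext_iff_mulVec.2 fun v => by rw [hcon, Matrix.zero_mulVec])
  set w := A *ᵥ v with hw
  have hAw : A *ᵥ w = 0 := by rw [hw, Matrix.mulVec_mulVec, hAA, Matrix.zero_mulVec]
  have hli : LinearIndependent F ![w, v] := LinearIndependent.pair_iff.2 fun x y hxy => by
    have e := congrArg (A *ᵥ ·) hxy
    simp only [Matrix.mulVec_add, Matrix.mulVec_smul, hAw, ← hw, smul_zero, zero_add, Matrix.mulVec_zero,
      smul_eq_zero, or_iff_left hv] at e
    rw [e, zero_smul, add_zero, smul_eq_zero, or_iff_left hv] at hxy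
    exact ⟨hxy, e⟩
  have hc : om w v ≠ 0 := not_orth_indep_one hr hli
  have hsp : Submodule.span F (Set.range ![w, v]) = ⊤ :=
    Submodule.eq_top_of_finrank_eq (by rw [finrank_span_eq_card hli, Module.finrank_fin_fun, hr]; simp)
  refine ⟨w, (om w v)⁻¹ • w, Matrix.ext_iff_mulVec.2 fun z => ?_⟩
  obtain ⟨c, hz⟩ := (Submodule.mem_span_range_iff_exists_fun F).1 (hsp ▸ Submodule.mem_top : z ∈ _)
  simp only [Fin.sum_univ_two, Matrix.cons_val_zero, Matrix.cons_val_one] at hz
  subst hz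
  rw [dy_mulVec, Matrix.mulVec_add, Matrix.mulVec_smul, Matrix.mulVec_smul, hAw, smul_zero, zero_add, ← hw,
    om_smul_left, om_add_right, om_smul_right, om_smul_right, om_self, mul_zero, zero_add, ← mul_assoc,
    mul_comm _ (c 1), mul_assoc, inv_mul_cancel₀ hc, mul_one]

variable {M : Subgroup (GL (Fin t → Fin (r + r)) F)} [Finite F]

/-- A member sending a root element into the wreath group maps the factor to a factor. -/
theorem exists_pres (hM : OBad M) (hq : Hq F r) {g : GL (Fin t → Fin (r + r)) F} (hg : g ∈ M) {i : Fin t} {u : E}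
    (hu0 : u ≠ 0) {c : F} (hc : c ≠ 0) {y : GL (Fin t → Fin (r + r)) F}
    (hy : y ∈ tensorWreathStandard (r + r) t F)
    (hyv : (y : MT) = 1 + cj g (slot i (c • dd u))) : ∃ j, Pres g i j := by
  classical
  have : NeZero r := ⟨hq.pos.ne'⟩
  have hb := hM.toOBase
  set X := cj g (slot i (c • dd u)) with hX
  have hXX : X * X = 0 := by rw [hX, ← cj_mul, slot_mul, smul_mul_smul_comm, dd_sq, smul_zero, slot_zero, cj_zero]
  have hX0 : X ≠ 0 := fun h => smul_ne_zero hc (dd_ne_zero hu0)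
    (slot_injective i (cj_injective g (by rw [slot_zero, cj_zero]; exact h)))
  have hy1 : (y : MT) - 1 = X := by rw [hyv, add_sub_cancel_left]
  obtain ⟨j, A, hA, p, q, hpq⟩ : ∃ (j : Fin t) (A : M₁), X = slot j A ∧ ∃ p q : E, A = dy p q := by
    by_cases hr : r = 1
    · obtain ⟨j, A, hA⟩ := classify_wreath_odd (hq.one hr).1 (by omega) hy (by rw [hy1]; exact hXX)
        (by rw [hyv]; simpa using hX0)
      rw [hy1] at hA
      exact ⟨j, A, hA, exists_dy_one hr (fun e => hX0 (by rw [hA, e, slot_zero]))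
        (slot_injective j (by rw [← slot_mul, ← hA, hXX, slot_zero]))⟩
    · have hm : 3 ≤ r + r := by have := hq.pos; omega
      have hab : (⟨0, by omega⟩ : Fin (r + r)) ≠ ⟨1, by omega⟩ := by simp
      obtain ⟨h₀, -, hh₀⟩ := exists_conj_single hm hu0 (f := c • (u ᵥ* jm r F)) (fun e => hu0 (by
        have := congrArg (fun z => -(z ᵥ* jm r F)) ((smul_eq_zero.1 e).resolve_left hc)
        simpa [Matrix.vecMul_vecMul, jm_sq, Matrix.vecMul_neg] using this))
        (by rw [smul_dotProduct, ← om, om_self, smul_zero]) hab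
      have hrk : X.rank = (eu i ⟨0, by omega⟩ ⟨1, by omega⟩ : MT).rank := by
        rw [hX, rank_cj, ← rank_cj (slotU i h₀), cj_slotU, eu, ← hh₀, Matrix.vecMulVec_smul]
        rfl
      rcases classify_wreath hm hy (by rw [hy1]; exact hXX) (i := i) (by rw [hy1]; exact hrk) with
        ⟨j, A, hA, hA0, hAA⟩ | ⟨hm3, -⟩
      swap
      · omega
      rw [hy1] at hA
      obtain ⟨h, -, hcj⟩ := exists_std hm hA0 hAA (i := i) (a' := ⟨0, by omega⟩) (b' := ⟨1, by omega⟩)
        (by rw [← hA, hrk]) hab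
      rw [cj_slotU, eu] at hcj
      refine ⟨j, A, hA, ((h⁻¹ : GL (Fin (r + r)) F) : M₁) *ᵥ Pi.single ⟨0, by omega⟩ 1,
        -(((Pi.single ⟨1, by omega⟩ 1 : E) ᵥ* (h : M₁)) ᵥ* jm r F), ?_⟩
      rw [← vecMulVec_eq_dy, ← Matrix.vecMulVec_mul, ← Matrix.mul_vecMulVec, vecMulVec_single_single,
        ← slot_injective j hcj]
      simp [mul_assoc]
  obtain ⟨hp, hq0⟩ : p ≠ 0 ∧ q ≠ 0 := by
    constructor <;>
    · intro e
      refine hX0 ?_
      rw [hA, hpq, e]
      simp [dy_zero_left, dy_zero_right, slot_zero]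
  have hXa : adj X = -X := hb.skew (Mem.cj (by rw [slot_smul]; exact hb.root_mem i c u) hg) hXX
  rw [hA, adj_slot, hpq, ← neg_one_smul F (slot j (dy p q)), ← slot_smul, neg_one_smul] at hXa
  obtain ⟨μ, hμ, hμe⟩ := exists_dd_of_skew hp hq0 (slot_injective j hXa)
  rw [hpq, hμe, slot_smul] at hA
  obtain ⟨k, hk, hkp⟩ := exists_sp_vec hp hu0
  have hkM : slotU j (spU k hk) ∈ M := by
    obtain ⟨z, hz, hzv⟩ := hb.slot_mem j k hk
    rwa [show slotU j (spU k hk) = z from Units.ext (by rw [slotU_val, hzv]; rfl)]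
  have hP := pres_of_fix hM hq (M.mul_mem hkM hg) (i := i) (j := j) hu0 (μ := c⁻¹ * μ)
    (mul_ne_zero (inv_ne_zero hc) hμ) (by
      rw [cj_comp, show (slot i (dd u) : MT) = c⁻¹ • slot i (c • dd u) by
          rw [slot_smul, smul_smul, inv_mul_cancel₀ hc, one_smul],
        cj_smul, ← hX, hA, cj_smul, cj_smul, cj_slotU, spU_val, spU_inv_val, sp_conj_dd hk, hkp, smul_smul])
  refine ⟨j, ?_⟩
  have := hP.mul (pres_slotU j (spU k hk)⁻¹)
  rwa [map_inv, inv_mul_cancel_left] at this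

/-- A member sending a root element into the wreath group lies there. -/
theorem mem_of_root (hM : OBad M) (hq : Hq F r) {g : GL (Fin t → Fin (r + r)) F} (hg : g ∈ M) {i : Fin t} {u : E}
    (hu0 : u ≠ 0) {c : F} (hc : c ≠ 0) {y : GL (Fin t → Fin (r + r)) F}
    (hy : y ∈ tensorWreathStandard (r + r) t F)
    (hyv : (y : MT) = 1 + cj g (slot i (c • dd u))) : g ∈ tensorWreathStandard (r + r) t F := by
  classical
  have : NeZero r := ⟨hq.pos.ne'⟩
  have : NeZero (r + r) := ⟨by have := hq.pos; omega⟩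
  obtain ⟨j, hij⟩ := exists_pres hM hq hg hu0 hc hy hyv
  refine mem_wreath_of_pres (by have := hq.pos; omega) (by have := i.2; omega) fun l => ?_
  rcases eq_or_ne l i with rfl | hli
  · exact ⟨j, hij⟩
  obtain ⟨Y, hY, hYv⟩ := Mem.cj (by simpa using hM.toOBase.root_mem l 1 u) hg
  refine exists_pres hM hq hg hu0 one_ne_zero (hM.rec_mem Y hY j ?_) (by rw [one_smul]; exact hYv)
  rw [hYv]
  exact (com_one j).add (hij.com (com_slot hli.symm _))

end CfsgLib.Geo.TensorPow.OS
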