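/-
The members lie in the wreath group: sums over the cosets and the Casimir element.
-/
import Cfsg.Agent.Geo.TensorPow.OS.Semi
import Cfsg.Agent.Geo.TensorPow.Casimir

set_option autoImplicit false
set_option linter.unusedSectionVars false

namespace CfsgLib.Geo.TensorPow.OS

open Matrix Cfsg.Geo CfsgLib.Geo CfsgLib.Aschbacher
open scoped MatrixGroups

variable {F : Type*} [Field F] {t r : ℕ}

local notation "E" => (Fin (r + r) → F)
local notation "M₁" => Matrix (Fin (r + r)) (Fin (r + r)) F
local notation "MT" => Mt t (r + r) F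

/-- The index paired with an index. -/
def opp (p : Fin (r + r)) : Fin (r + r) := hv r (Sum.swap ((hv r).symm p))

lemma opp_opp (p : Fin (r + r)) : opp (opp p) = p := by simp [opp]

lemma opp_ne (p : Fin (r + r)) : opp p ≠ p := fun h => by
  have := congrArg (hv r).symm h
  simp only [opp, Equiv.symm_apply_apply] at this
  revert this; generalize (hv r).symm p = x; rcases x with a | a <;> simp

lemma jm_eq_zero {p v : Fin (r + r)} (h : v ≠ opp p) : jm r F p v = 0 := by
  have h' : (hv r).symm v ≠ Sum.swap ((hv r).symm p) := fun e => h (by rw [opp, ← e, Equiv.apply_symm_apply])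
  rw [jm_eq, Matrix.submatrix_apply, Matrix.J]
  revert h'
  generalize (hv r).symm p = a, (hv r).symm v = b
  rcases a with a | a <;> rcases b with b | b <;> simp [Matrix.one_apply, eq_comm]

lemma single_ne {p : Fin (r + r)} : (Pi.single p (1 : F) : E) ≠ 0 := fun e => by simpa using congrFun e p

lemma dd_single (p : Fin (r + r)) :
    dd (Pi.single p (1 : F) : E) = Matrix.single p (opp p) (jm r F p (opp p)) := by
  refine Matrix.ext fun a b => ?_
  rw [dd, dy, single_one_vecMul, Matrix.vecMulVec_apply]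
  rcases eq_or_ne a p with rfl | ha
  · rcases eq_or_ne b (opp a) with rfl | hb
    · simp
    · simp [jm_eq_zero hb, Ne.symm hb]
  · simp [ha, Ne.symm ha]

lemma rank_smul_of_ne {c : F} (hc : c ≠ 0) (X : MT) : (c • X).rank = X.rank := by
  refine le_antisymm ?_ ?_
  · rw [show c • X = (c • (1 : MT)) * X by rw [smul_mul_assoc, one_mul]]
    exact Matrix.rank_mul_le_right _ _
  · conv_lhs => rw [show X = (c⁻¹ • (1 : MT)) * (c • X) by
      rw [smul_mul_smul_comm, one_mul, inv_mul_cancel₀ hc, one_smul]]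
    exact Matrix.rank_mul_le_right _ _

variable {d : ℕ}

/-- The root group at a unit vector. -/
def rootHom (p : Fin (r + r)) : (Fin 1 → F) →+ M₁ :=
  AddMonoidHom.mk' (fun s => s 0 • dd (Pi.single p 1)) fun s s' => by rw [Pi.add_apply, add_smul]

lemma rootHom_apply (p : Fin (r + r)) (s : Fin 1 → F) : rootHom p s = s 0 • dd (Pi.single p 1) := rfl

lemma rootHom_mul (p : Fin (r + r)) (s s' : Fin 1 → F) : (rootHom p s : M₁) * rootHom p s' = 0 := by
  rw [rootHom_apply, rootHom_apply, smul_mul_smul_comm, dd_sq, smul_zero]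

/-- The label of an argument at a factor. -/
def lbl (ε : Fin d → Bool) (i : Fin t) (a : Fin d → Fin t → Fin (r + r)) (k : Fin d) : Fin (r + r) :=
  if ε k then opp (a k i) else a k i

lemma sum_root [Fintype F] [DecidableEq F] (i : Fin t) (ε : Fin d → Bool) (a : Fin d → Fin t → Fin (r + r))
    (p : Fin (r + r)) (h : (Finset.univ.filter fun k => lbl ε i a k = p).card < Fintype.card F - 1)
    (X : (Fin d → Fin t → Fin (r + r)) → F) :
    ∑ u, act ε (slotU i (trU (rootHom p) (rootHom_mul p) u)) X a = 0 := by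
  classical
  simp only [act_trU]
  rw [Finset.sum_comm]
  refine Finset.sum_eq_zero fun v _ => ?_
  rw [← Finset.sum_mul]
  set D : M₁ := dd (Pi.single p 1) with hD
  set l : Fin d → Fin 1 → F := fun k _ => if ε k then D (v k) (a k i) else -D (a k i) (v k) with hl
  set c : Fin d → F := fun k => if ε k then (1 : M₁) (v k) (a k i) else (1 : M₁) (a k i) (v k) with hc
  rw [show ∑ u, (∏ k, if ε k then (1 : M₁) (v k) (a k i) + rootHom p u (v k) (a k i)
      else (1 : M₁) (a k i) (v k) - rootHom p u (a k i) (v k)) = 0 from ?_, zero_mul]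
  rw [← sum_prod_affine c l ?_]
  · refine Finset.sum_congr rfl fun u _ => Finset.prod_congr rfl fun k _ => ?_
    cases hε : ε k <;> simp [hl, hc, hε, ← hD, rootHom_apply, mul_comm, sub_eq_add_neg]
  · rw [Fintype.card_fin, mul_one]
    refine lt_of_le_of_lt (Finset.card_le_card fun k hk => ?_) h
    simp only [Finset.mem_filter, Finset.mem_univ, true_and] at hk ⊢
    by_contra hn
    refine hk (funext fun _ => ?_)
    simp only [hl, hD, dd_single, lbl] at hn ⊢
    cases hε : ε k <;> simp only [hε, Bool.false_eq_true, if_false, if_true] at hn ⊢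
    · simp [Ne.symm hn]
    · have : a k i ≠ opp p := fun e => hn (by rw [e, opp_opp])
      simp [Ne.symm this]

lemma exists_label [Fintype F] (hq : Hq F r) (ε : Fin 4 → Bool) (i : Fin t) (a : Fin 4 → Fin t → Fin (r + r)) :
    ∃ p, (Finset.univ.filter fun k => lbl ε i a k = p).card < Fintype.card F - 1 := by
  classical
  have hsum : ∑ p, (Finset.univ.filter fun k => lbl ε i a k = p).card = 4 := by
    rw [← Finset.card_eq_sum_card_fiberwise (fun k _ => Finset.mem_univ _)]
    simp
  obtain ⟨p, -, hp⟩ := Finset.exists_min_image (Finset.univ : Finset (Fin (r + r)))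
    (fun p => (Finset.univ.filter fun k => lbl ε i a k = p).card)
    ⟨⟨0, by have := hq.pos; omega⟩, Finset.mem_univ _⟩
  refine ⟨p, ?_⟩
  have h := Finset.card_nsmul_le_sum Finset.univ _ _ fun x hx => hp x hx
  rw [hsum, Finset.card_univ, Fintype.card_fin, smul_eq_mul] at h
  have hF : 1 < Fintype.card F := Fintype.one_lt_card
  rcases Nat.lt_or_ge r 2 with hr | hr
  · obtain ⟨-, h5⟩ := hq.one (by have := hq.pos; omega)
    rw [Nat.card_eq_fintype_card] at h5
    obtain rfl : r = 1 := by have := hq.pos; omega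
    omega
  rcases Nat.lt_or_ge r 3 with hr3 | hr3
  · have h2 : (2 : F) ≠ 0 := fun e => by have := hq.two e; omega
    have h3 : Fintype.card F ≠ 2 := fun e => h2 (by
      have := FiniteField.cast_card_eq_zero F; rw [e] at this; exact_mod_cast this)
    obtain rfl : r = 2 := by omega
    omega
  · have : (Finset.univ.filter fun k => lbl ε i a k = p).card = 0 := by
      by_contra hne
      have := Nat.mul_le_mul (show 6 ≤ r + r by omega) (Nat.one_le_iff_ne_zero.2 hne)
      omega
    omega

variable {M : Subgroup (GL (Fin t → Fin (r + r)) F)} [Fintype F]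

lemma rootU_mem (hM : OBase M) (i : Fin t) (p : Fin (r + r)) (s : Fin 1 → F) :
    slotU i (trU (rootHom p) (rootHom_mul p) s) ∈ M := by
  obtain ⟨x, hx, hxv⟩ := hM.slot_mem i _ (isSp_root (s 0) (Pi.single p 1))
  rwa [show slotU i (trU (rootHom p) (rootHom_mul p) s) = x from
    Units.ext (by rw [slotU_val, trU_val, hxv, rootHom_apply])]

/-- An invariant equal to the form. -/
theorem exists_invariant (hM : OBad M) (hq : Hq F r) (i : Fin t) (C : (Fin 4 → Fin t → Fin (r + r)) → F)
    (hC : ∀ h ∈ M, h ∈ tensorWreathStandard (r + r) t F → act ε4 h C = C) : ∀ g ∈ M, act ε4 g C = C := by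
  classical
  have : NeZero r := ⟨hq.pos.ne'⟩
  set H := (tensorWreathStandard (r + r) t F).subgroupOf M with hH
  let _ : Fintype (↥M ⧸ H) := Fintype.ofFinite _
  let f : ↥M ⧸ H → (Fin 4 → Fin t → Fin (r + r)) → F := fun ω =>
    act ε4 ((ω.out : ↥M) : GL (Fin t → Fin (r + r)) F)⁻¹ C
  have hf : ∀ g : ↥M, f (g : ↥M ⧸ H) = act ε4 (g : GL (Fin t → Fin (r + r)) F)⁻¹ C := by
    intro g
    obtain ⟨h, hh⟩ := QuotientGroup.mk_out_eq_mul H g
    show act ε4 _ C = _
    rw [hh, Subgroup.coe_mul, _root_.mul_inv_rev, act_mul, hC _ (inv_mem h.1.2) (inv_mem h.2)]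
  have hsmul : ∀ (γ : ↥M) (ω : ↥M ⧸ H), f (γ • ω) = act ε4 (γ : GL (Fin t → Fin (r + r)) F)⁻¹ (f ω) := by
    intro γ ω
    induction ω using QuotientGroup.induction_on with
    | _ g =>
      rw [show γ • (g : ↥M ⧸ H) = ((γ * g : ↥M) : ↥M ⧸ H) from rfl, hf, hf, Subgroup.coe_mul,
        _root_.mul_inv_rev, act_mul]
  suffices hT : ∑ ω, f ω = C by
    intro g hg
    conv_lhs => rw [← hT]
    conv_rhs => rw [← hT]
    rw [act_sum]
    refine Fintype.sum_equiv (MulAction.toPerm (⟨g, hg⟩⁻¹ : ↥M)) _ _ fun ω => ?_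
    rw [MulAction.toPerm_apply, hsmul, Subgroup.coe_inv, inv_inv]
  funext a
  obtain ⟨p, hp⟩ := exists_label hq ε4 i a
  set A := rootHom (F := F) p
  set hA := rootHom_mul (F := F) p
  let φ : ((Fin 4 → Fin t → Fin (r + r)) → F) →+ F := Pi.evalAddMonoidHom _ a
  show φ (∑ ω, f ω) = φ C
  set base : ↥M ⧸ H := ((1 : ↥M) : ↥M ⧸ H) with hbase
  have hρ : ∀ u, slotU i (trU A hA u) ∈ M := fun u => rootU_mem hM.toOBase i p u
  let op : (Fin 1 → F) → ↥M ⧸ H → ↥M ⧸ H := fun u ω => (⟨_, hρ u⟩ : ↥M) • ω
  have hadd : ∀ u u' ω, op (u + u') ω = op u (op u' ω) := fun u u' ω => by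
    show _ • ω = _ • _ • ω
    rw [← mul_smul]
    refine congrArg (· • ω) (Subtype.ext ?_)
    show slotU i _ = slotU i _ * slotU i _
    rw [trU_add, map_mul]
  have h0 : ∀ ω, op 0 ω = ω := fun ω => by
    show _ • ω = ω
    rw [show (⟨_, hρ 0⟩ : ↥M) = 1 from Subtype.ext (by
      show slotU i (trU A hA 0) = 1
      rw [show trU A hA 0 = 1 from Units.ext (by rw [trU_val, map_zero, add_zero]; rfl), map_one]), one_smul]
  have hfix : ∀ u, op u base = base := fun u => by
    show _ • _ = _
    refine QuotientGroup.eq.2 ?_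
    rw [hH, Subgroup.mem_subgroupOf]
    simp only [smul_eq_mul, mul_one, Subgroup.coe_inv]
    exact inv_mem (slotU_mem_wreath i _)
  have key : φ (∑ ω ∈ Finset.univ.erase base, f ω) = 0 := by
    rw [map_sum]
    refine sum_free_orbits op h0 hadd (fun ω => φ (f ω)) (fun ω => ?_) _ (fun u ω hω => ?_) fun u ω hω he => ?_
    · rw [← sum_root i ε4 a p hp (f ω)]
      refine Fintype.sum_equiv (Equiv.neg _) _ _ fun u => ?_
      show φ (f (_ • ω)) = _
      rw [hsmul, ← map_inv, show (trU A hA u)⁻¹ = trU A hA (Equiv.neg _ u) from Units.ext (by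
        rw [trU_inv_val, trU_val, Equiv.neg_apply])]
      rfl
    · refine Finset.mem_erase.2 ⟨fun e => Finset.ne_of_mem_erase hω ?_, Finset.mem_univ _⟩
      rw [← h0 ω, ← neg_add_cancel u, hadd, e, hfix]
    · by_contra hu
      have hu' : u 0 ≠ 0 := fun e => hu (funext fun k => by rw [Fin.fin_one_eq_zero k, e]; rfl)
      refine Finset.ne_of_mem_erase hω ?_
      induction ω using QuotientGroup.induction_on with
      | _ g =>
        have hgH := QuotientGroup.eq.1 he.symm
        rw [Subgroup.mem_subgroupOf] at hgH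
        simp only [smul_eq_mul, Subgroup.coe_mul, Subgroup.coe_inv] at hgH
        have hg' : (g : GL (Fin t → Fin (r + r)) F)⁻¹ ∈ tensorWreathStandard (r + r) t F := by
          refine mem_of_root hM hq (M.inv_mem g.2) (single_ne (p := p)) hu' hgH ?_ (i := i)
          rw [Units.val_mul, Units.val_mul, slotU_val, trU_val, slot_add, slot_one, cj, inv_inv, add_mul, one_mul,
            mul_add, Units.inv_mul, mul_assoc]
          rfl
        refine QuotientGroup.eq.2 ?_
        rw [hH, Subgroup.mem_subgroupOf]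
        simpa using hg'
  rw [← Finset.sum_erase_add _ _ (Finset.mem_univ base), map_add, key, zero_add, hbase, hf, Subgroup.coe_one,
    inv_one, act_one]

/-- Members fixing the Casimir form lie in the wreath group. -/
lemma mem_of_cas (hM : OBad M) (hq : Hq F r) (i : Fin t)
    (hinv : ∀ g ∈ M, cas (∅ : Finset (Fin t)) g = cas ∅ 1) {g : GL (Fin t → Fin (r + r)) F} (hg : g ∈ M) :
    g ∈ tensorWreathStandard (r + r) t F := by
  classical
  have : NeZero r := ⟨hq.pos.ne'⟩
  have : NeZero (r + r) := ⟨by have := hq.pos; omega⟩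
  set p : Fin (r + r) := 0
  set σ := jm r F p (opp p)
  have hdd : (slot i (dd (Pi.single p (1 : F) : E)) : MT) = σ • eu i p (opp p) := by
    rw [dd_single, eu, ← slot_smul, Matrix.smul_single, smul_eq_mul, mul_one]
  set K : Fin t → M₁ := fun l => σ • Matrix.of fun a b =>
    cj g (eu l b a) (Function.update 0 i (opp p)) (Function.update 0 i p) with hK
  have hcj : cj g (∑ l ∈ (∅ : Finset (Fin t))ᶜ, slot l (K l)) = slot i (dd (Pi.single p (1 : F) : E)) := by
    ext x y
    rw [hdd, Matrix.smul_apply, smul_eq_mul, ← cas_one_update (Finset.notMem_empty i) (opp_ne p).symm, ← hinv g hg]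
    simp only [cas, Matrix.cons_val_zero, Matrix.cons_val_one, Matrix.cons_val, slot_eq_sum, cj, Finset.mul_sum,
      Finset.sum_mul, Matrix.sum_apply, mul_smul_comm, smul_mul_assoc, Matrix.smul_apply, smul_eq_mul, hK,
      Matrix.of_apply]
    exact Finset.sum_congr rfl fun l _ => Finset.sum_congr rfl fun a _ => Finset.sum_congr rfl fun b _ => by ring
  set X := cj g⁻¹ (slot i (dd (Pi.single p (1 : F) : E))) with hXdef
  have hX' : X = ∑ l ∈ (∅ : Finset (Fin t))ᶜ, slot l (K l) := by rw [hXdef, ← hcj, cj_inv_cj]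
  have hXX : X * X = 0 := by rw [hXdef, ← cj_mul, slot_mul, dd_sq, slot_zero, cj_zero]
  have hX0 : X ≠ 0 := fun h => dd_ne_zero (single_ne (p := p))
    (slot_injective i (cj_injective g⁻¹ (by rw [slot_zero, cj_zero]; exact h)))
  obtain ⟨j, A, hA⟩ : ∃ j A, X = slot j A := by
    by_cases hr : r = 1
    · exact classify_sum_odd (hq.one hr).1 K hX' hXX hX0
    · have hσ : σ ≠ 0 := fun e => dd_ne_zero (single_ne (p := p) (F := F)) (by
        rw [dd_single, show jm r F p (opp p) = 0 from e, Matrix.single_zero])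
      obtain ⟨j, A, hA, -, -⟩ := classify_sum (by have := hq.pos; omega) K hX' hXX (i := i) (a := p) (b := opp p) (by
        rw [hXdef, rank_cj, hdd, rank_smul_of_ne hσ])
      exact ⟨j, A, hA⟩
  have hAA : A * A = 0 := slot_injective j (by rw [← slot_mul, ← hA, hXX, slot_zero])
  let v : GL (Fin (r + r)) F := ⟨1 + A, 1 - A, by rw [mul_sub, mul_one, add_mul, one_mul, hAA]; abel,
    by rw [sub_mul, one_mul, mul_add, mul_one, hAA]; abel⟩
  refine inv_mem_iff.1 (mem_of_root hM hq (M.inv_mem hg) (single_ne (p := p)) one_ne_zero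
    (slotU_mem_wreath j v) ?_ (i := i))
  rw [one_smul, slotU_val, ← hXdef, hA]
  show slot j (1 + A) = _
  rw [slot_add, slot_one]

/-- An overgroup without all root elements lies in the wreath group. -/
theorem le_wreath (hM : OBad M) (hq : Hq F r) (ht : 0 < t) : M ≤ tensorWreathStandard (r + r) t F := by
  classical
  set i : Fin t := ⟨0, ht⟩
  intro g hg
  refine mem_of_cas hM hq i (fun x hx => ?_) hg
  have hCH : ∀ h ∈ M, h ∈ tensorWreathStandard (r + r) t F →
      act ε4 h (cas (∅ : Finset (Fin t)) 1) = cas (∅ : Finset (Fin t)) (1 : GL (Fin t → Fin (r + r)) F) :=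
    fun h hh hN => by
    rw [act_cas, mul_one]
    exact cas_eq_of_mem (M := M) (by have := hq.pos; omega) ⟨inv_mem hh, by simp⟩ (inv_mem hN)
  conv_rhs => rw [← exists_invariant hM hq i _ hCH _ (inv_mem hx)]
  rw [act_cas, inv_inv, mul_one]

end CfsgLib.Geo.TensorPow.OS
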