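/-
Restricting to the factors other than one, and the dichotomy between the wreath group and all root elements.
-/
import Cfsg.Agent.Geo.TensorPow.OS.Avg
import Cfsg.Agent.Geo.TensorPow.U.Rec

set_option autoImplicit false
set_option linter.unusedSectionVars false

namespace CfsgLib.Geo.TensorPow.OS

open Matrix Cfsg.Geo CfsgLib.Geo CfsgLib.Aschbacher
open CfsgLib.Geo.TensorPow.U (emb emb_tens emb_one emb_mul emb_add emb_smul emb_injective embHom embHom_val
  exists_embHom embHom_mem_wreath extP extP_mul emb_permMat mem_wreath_one)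
open scoped MatrixGroups

variable {F : Type*} [Field F] {t r s : ℕ}

local notation "E" => (Fin (r + r) → F)
local notation "M₁" => Matrix (Fin (r + r)) (Fin (r + r)) F
local notation "MT" => Mt t (r + r) F

/-- An overgroup of the isometries of the factors and the even permutations among the isometries. -/
structure OMain (M : Subgroup (GL (Fin t → Fin (r + r)) F)) : Prop extends OBase M where
  perm_mem : ∀ σ : Equiv.Perm (Fin t), Mem M (permMat (r + r) (σ * σ))

lemma emb_transpose (b : Fin (s + 1)) (X : Mt s (r + r) F) : (emb b X)ᵀ = emb b Xᵀ := Matrix.ext fun x y => by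
  simp only [emb, Matrix.transpose_apply, Matrix.of_apply, eq_comm (a := y b)]

lemma emb_adj (b : Fin (s + 1)) (X : Mt s (r + r) F) : adj (emb b X) = emb b (adj X) := by
  have hj : jt (s + 1) r F = emb b (jt s r F) * slot b (jm r F) := by
    rw [jt, jt, emb_tens, tens_mul_slot_eq, Fin.insertNth_apply_same, one_mul]
    congr 1
    funext l
    rcases Fin.eq_self_or_eq_succAbove b l with rfl | ⟨l, rfl⟩ <;> simp
  have hj' : jt (s + 1) r F = slot b (jm r F) * emb b (jt s r F) := by
    rw [jt, jt, emb_tens, slot_mul_tens, Fin.insertNth_apply_same, mul_one]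
    congr 1
    funext l
    rcases Fin.eq_self_or_eq_succAbove b l with rfl | ⟨l, rfl⟩ <;> simp
  have hcom : ∀ Y : Mt s (r + r) F, slot b (jm r F) * emb b Y = emb b Y * slot b (jm r F) := fun Y => by
    refine Matrix.ext fun x y => ?_
    have hne : ∀ z : Fin (s + 1) → Fin (r + r), b.removeNth z = b.removeNth x → ∀ l, l ≠ b → x l = z l :=
      fun z h l hl => by
        obtain ⟨k, rfl⟩ := Fin.exists_succAbove_eq hl
        exact (congrFun h k).symm
    rw [Matrix.mul_apply, Matrix.mul_apply, Finset.sum_eq_single (b.insertNth (y b) (b.removeNth x)),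
      Finset.sum_eq_single (b.insertNth (x b) (b.removeNth y))]
    · rw [slot_apply, slot_apply, if_pos (hne _ (Fin.removeNth_insertNth ..)), if_pos fun l hl => by
        obtain ⟨k, rfl⟩ := Fin.exists_succAbove_eq hl
        simp [Fin.removeNth]]
      simp [emb, mul_comm]
    · intro z _ hz
      rw [slot_apply]
      by_cases h1 : x b = z b
      · rw [if_neg, mul_zero]
        intro h2
        refine hz ?_
        rw [← Fin.insertNth_self_removeNth b z, h1, show b.removeNth z = b.removeNth y from
          funext fun k => h2 _ (Fin.succAbove_ne b k)]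
      · simp [emb, h1]
    · simp
    · intro z _ hz
      rw [slot_apply]
      by_cases h1 : z b = y b
      · rw [if_neg, zero_mul]
        intro h2
        refine hz ?_
        rw [← Fin.insertNth_self_removeNth b z, h1, show b.removeNth z = b.removeNth x from
          funext fun k => (h2 _ (Fin.succAbove_ne b k)).symm]
      · simp [emb, h1]
    · simp
  rw [adj, adj, emb_transpose, emb_smul]
  conv_lhs => arg 2; arg 2; rw [hj]
  conv_lhs => arg 2; arg 1; arg 1; rw [hj']
  have e : slot b (jm r F) * emb b (jt s r F) * emb b Xᵀ * (emb b (jt s r F) * slot b (jm r F)) =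
      -emb b (jt s r F * Xᵀ * jt s r F) := by
    rw [mul_assoc (slot b (jm r F)), ← emb_mul, mul_assoc, ← mul_assoc (emb b (jt s r F * Xᵀ)), ← emb_mul,
      ← mul_assoc (slot b (jm r F)), hcom, mul_assoc, slot_mul, jm_sq, ← neg_one_smul F (1 : M₁), slot_smul,
      slot_one, mul_smul_comm, mul_one, neg_one_smul]
  rw [e, pow_succ, mul_smul, neg_one_smul, neg_neg]

lemma comap_main (hr : 0 < r) {M : Subgroup (GL (Fin (s + 1) → Fin (r + r)) F)} (hM : OMain M) (b : Fin (s + 1)) :
    OMain (M.comap (embHom b)) := by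
  have : NeZero (r + r) := ⟨by omega⟩
  refine ⟨⟨fun g hg => emb_injective b ?_, fun i h hh => ?_⟩, fun σ => ?_⟩
  · have := hM.iso _ hg
    rwa [embHom_val, emb_adj, ← emb_mul, ← emb_one b] at this
  · refine ⟨slotU i (spU h hh), ?_, slotU_val i (spU h hh)⟩
    obtain ⟨g, hg, hgv⟩ := hM.slot_mem (b.succAbove i) h hh
    rw [Subgroup.mem_comap, show embHom b (slotU i (spU h hh)) = g from Units.ext (by
      rw [embHom_val, slotU_val, hgv, slot, emb_tens, slot, spU_val]
      congr 1
      funext l
      rcases Fin.eq_self_or_eq_succAbove b l with rfl | ⟨l, rfl⟩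
      · simp [Function.update_of_ne (Fin.succAbove_ne _ i).symm]
      · rcases eq_or_ne l i with rfl | hli <;>
          simp [*, Function.update_of_ne, (Fin.succAbove_right_injective (p := b)).ne_iff])]
    exact hg
  · refine ⟨permUnit (r + r) (σ * σ), ?_, rfl⟩
    obtain ⟨g, hg, hgv⟩ := hM.perm_mem (extP b σ)
    rw [Subgroup.mem_comap, show embHom b (permUnit (r + r) (σ * σ)) = g from Units.ext (by
      rw [embHom_val, hgv, ← extP_mul]
      exact emb_permMat b (σ * σ))]
    exact hg

variable {M : Subgroup (GL (Fin t → Fin (r + r)) F)}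

lemma exists_third (ht : 3 ≤ t) (i j : Fin t) : ∃ k, k ≠ i ∧ k ≠ j := by
  classical
  obtain ⟨k, -, hk⟩ := Finset.exists_mem_notMem_of_card_lt_card (s := ({i, j} : Finset (Fin t)))
    (t := Finset.univ) (lt_of_le_of_lt Finset.card_le_two (by rw [Finset.card_univ, Fintype.card_fin]; omega))
  simp only [Finset.mem_insert, Finset.mem_singleton, not_or] at hk
  exact ⟨k, hk⟩

/-- A square of a permutation moving one factor to another. -/
lemma exists_sq_perm (ht : 3 ≤ t) (b a : Fin t) : ∃ σ : Equiv.Perm (Fin t), (σ * σ) b = a := by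
  rcases eq_or_ne a b with rfl | hab
  · exact ⟨1, by simp⟩
  obtain ⟨c, hca, hcb⟩ := exists_third ht a b
  refine ⟨Equiv.swap a c * Equiv.swap a b, ?_⟩
  simp [Equiv.swap_apply_of_ne_of_ne hca hcb]

lemma mem_perm_conj (hM : OMain M) (σ : Equiv.Perm (Fin t)) {X : MT} (hX : Mem M (1 + X)) :
    Mem M (1 + permMat (r + r) (σ * σ) * X * permMat (r + r) (σ * σ).symm) := by
  obtain ⟨g, hg, hgv⟩ := hM.perm_mem σ
  have := Mem.cj hX hg
  rwa [cj, hgv, show ((g⁻¹ : GL (Fin t → Fin (r + r)) F) : MT) = permMat (r + r) (σ * σ).symm from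
    Units.inv_eq_of_mul_eq_one_right (by rw [hgv]; exact permMat_mul_inv _)] at this

lemma perm_conj_tens (w : Equiv.Perm (Fin t)) (Z : Fin t → M₁) :
    permMat (r + r) w * (tens Z : MT) * permMat (r + r) w.symm = tens fun l => Z (w.symm l) := by
  rw [permMat_mul_tens, mul_assoc, permMat_mul_inv, mul_one]

lemma perm_conj_rho (w : Equiv.Perm (Fin t)) (X Y : Fin t → E) :
    permMat (r + r) w * (rho X Y : MT) * permMat (r + r) w.symm = rho (fun l => X (w.symm l)) fun l => Y (w.symm l) := by
  rw [rho, mul_sub, sub_mul, mul_smul_comm, smul_mul_assoc, perm_conj_tens, perm_conj_tens]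
  rfl

lemma pat_all (hM : OMain M) (ht : 3 ≤ t) {i : Fin t} (h : PAt M i) : RFull M := by
  intro X Y j hXY c
  obtain ⟨σ, hσ⟩ := exists_sq_perm ht i j
  have hsymm : ∀ l, l ≠ i → (σ * σ) l ≠ j := fun l hl e => hl ((σ * σ).injective (e.trans hσ.symm))
  have := mem_perm_conj hM σ (h (fun l => X ((σ * σ) l)) (fun l => Y ((σ * σ) l))
    (fun l hl => hXY _ (hsymm l hl)) c)
  rw [mul_smul_comm, smul_mul_assoc, perm_conj_rho] at this
  simpa only [Equiv.apply_symm_apply] using this

/-- The members trivial on the factor `b` coming from root elements of the others. -/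
def Sub (M : Subgroup (GL (Fin t → Fin (r + r)) F)) (b : Fin t) : Prop :=
  ∀ Z : Fin t → M₁, Z b = 1 → ∀ j, j ≠ b → (∃ p q : E, Z j = kk ((-1) ^ (t + 1)) p q) →
    (∀ l, l ≠ b → l ≠ j → ∃ u : E, Z l = dd u) → ∀ c : F, Mem M (1 + c • tens Z)

lemma sub_transport (hM : OMain M) (ht : 3 ≤ t) {b : Fin t} (h : Sub M b) (a : Fin t) : Sub M a := by
  intro Z hZa j hja hj hl c
  obtain ⟨σ, hσ⟩ := exists_sq_perm ht b a
  have h1 := mem_perm_conj hM σ (h (fun l => Z ((σ * σ) l)) (by rw [hσ, hZa]) ((σ * σ).symm j)
    (fun e => hja (by rw [← hσ, ← e, Equiv.apply_symm_apply])) (by rwa [Equiv.apply_symm_apply])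
    (fun l h1 h2 => hl _ (fun e => h1 ((σ * σ).injective (e.trans hσ.symm)))
      fun e => h2 (by rw [← e, Equiv.symm_apply_apply])) c)
  rw [mul_smul_comm, smul_mul_assoc, perm_conj_tens] at h1
  simpa only [Equiv.apply_symm_apply] using h1

variable [Finite F]

/-- The root elements from those of the other factors, for factors of dimension at least four. -/
lemma rfull_two (hM : OMain M) (hr : 2 ≤ r) (ht : 3 ≤ t) {b : Fin t} (h : Sub M b) : RFull M := by
  classical
  obtain ⟨a, hab, -⟩ := exists_third ht b b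
  obtain ⟨c, hca, hcb⟩ := exists_third ht a b
  obtain ⟨u, hu⟩ : ∃ u : E, u ≠ 0 := ⟨Pi.single ⟨0, by omega⟩ 1, fun e => by
    simpa using congrFun e ⟨0, by omega⟩⟩
  obtain ⟨v, huv⟩ := exists_partner hu
  have hv : v ≠ 0 := fun e => one_ne_zero (α := F) (by rw [← huv, e, om_zero_right])
  obtain ⟨q, hli, ho⟩ := exists_orth_partner hr hu
  obtain ⟨p', hp'⟩ := exists_dual ![u, q] hli ![0, -1]
  have h1 : om u p' = 0 := om_swap0 (hp' 0)
  have h2 : om q p' = 1 := by rw [om_swap, show om p' q = -1 from hp' 1, neg_neg]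
  set e : F := (-1) ^ (t + 1)
  have he : e * e = 1 := pow_eps_sq
  set W : Fin t → M₁ := fun l => if l = b then 1 else if l = c then kk e u q else dd u with hW
  set W' : Fin t → M₁ := fun l => if l = a then 1 else if l = c then kk e p' q else dd v with hW'
  have hA := h W (by simp [hW]) c hcb ⟨u, q, by simp [hW, hcb]; rfl⟩ (fun l h1 h2 => ⟨u, by simp [hW, h1, h2]⟩) 1
  have hB := sub_transport hM ht h a W' (by simp [hW']) c hca ⟨p', q, by simp [hW', hca]; rfl⟩
    (fun l h1 h2 => ⟨v, by simp [hW', h1, h2]⟩) 1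
  have w1 : kk e u q * kk e p' q = dy u q := by simp [kk_mul, h1, h2, om_self, ho]
  have w2 : kk e p' q * kk e u q = -dy q u := by
    simp [kk_mul, om_self, he, om_swap0 ho, om_swap0 h1, show om p' q = -1 from hp' 1]
  set x : Fin t → E := fun l => if l = b then v else u with hx
  set y : Fin t → E := fun l => if l = a then u else if l = c then q else v with hy
  have hR := comm_of_slots (x := x) (y := y) (fun l => if l = a ∨ l = b then 1 else -1) hA hB
    (fun l => by
      rcases eq_or_ne l a with rfl | ha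
      · simp [hW, hW', hx, hy, hab, hca.symm, dd]
      rcases eq_or_ne l b with rfl | hb
      · simp [hW, hW', hx, hy, hab.symm, hcb.symm, dd]
      rcases eq_or_ne l c with rfl | hc
      · simp [hW, hW', hx, hy, hca, hcb, w1]
      · simp [hW, hW', hx, hy, ha, hb, hc, dd, dy_mul_dy, huv])
    (fun l => by
      rcases eq_or_ne l a with rfl | ha
      · simp [hW, hW', hx, hy, hab, hca.symm, dd]
      rcases eq_or_ne l b with rfl | hb
      · simp [hW, hW', hx, hy, hab.symm, hcb.symm, dd]
      rcases eq_or_ne l c with rfl | hc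
      · simp [hW, hW', hx, hy, hca, hcb, w2]
      · simp [hW, hW', hx, hy, ha, hb, hc, dd, dy_mul_dy, om_swap u v, huv])
    (by
      rw [Finset.prod_ite, Finset.prod_const_one, one_mul, Finset.prod_const]
      have hcard : (Finset.univ.filter fun l : Fin t => l = a ∨ l = b).card = 2 := by
        rw [show (Finset.univ.filter fun l : Fin t => l = a ∨ l = b) = {a, b} by ext l; simp, Finset.card_pair hab]
      have := Finset.card_filter_add_card_filter_not (s := (Finset.univ : Finset (Fin t))) fun l => l = a ∨ l = b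
      rw [hcard, Finset.card_univ, Fintype.card_fin] at this
      conv_rhs => rw [show t = (Finset.univ.filter fun l : Fin t => ¬ (l = a ∨ l = b)).card + 2 by omega]
      rw [pow_add, neg_one_sq, mul_one])
    ⟨a, by simp [hW, hab, hca.symm, dd_sq]⟩ ⟨b, by simp [hW', hab.symm, hcb.symm, dd_sq]⟩
    ⟨a, by simp [hW, hW', hab, hca.symm, dd_sq]⟩ ⟨b, by simp [hW, hW', hab.symm, hcb.symm, dd_sq]⟩
  have hxy : ∀ l, x l = y l ∨ LinearIndependent F ![x l, y l] := fun l => by
    rcases eq_or_ne l a with rfl | ha
    · exact Or.inl (by simp [hx, hy, hab])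
    rcases eq_or_ne l b with rfl | hb
    · exact Or.inl (by simp [hx, hy, hab.symm, hcb.symm])
    rcases eq_or_ne l c with rfl | hc
    · exact Or.inr (by simpa [hx, hy, hca, hcb] using hli)
    · exact Or.inr (by simpa [hx, hy, ha, hb, hc] using indep_of_om (by rw [huv]; exact one_ne_zero (α := F)))
  have hxya : x a = y a := by simp [hx, hy, hab]
  have hr' := (RAt.of_one hM.toOBase a hxya (mul_ne_zero one_ne_zero one_ne_zero) hR).reduce hM.toOBase (i := c)
    hca.symm hxya hxy
  refine rfull_of_seed hM.toOBase hr (by omega) (j := c) (fun l hl => by simp [Function.update_of_ne hl])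
    (fun l => ?_) (by simpa [hx, hy, hca, hcb] using hli) hr'
  simp only [hy]; split_ifs
  exacts [hu, by simpa using hli.ne_zero 1, hv]

/-- The root elements from those of the other factors, for planes. -/
lemma rfull_one (hM : OMain M) (hr : r = 1) (h2 : (2 : F) ≠ 0) (ht : 4 ≤ t) {b : Fin t} (h : Sub M b) : RFull M := by
  classical
  obtain ⟨u, hu⟩ : ∃ u : E, u ≠ 0 := ⟨Pi.single ⟨0, by omega⟩ 1, fun e => by
    simpa using congrFun e ⟨0, by omega⟩⟩
  obtain ⟨v, huv⟩ := exists_partner hu
  have hli := indep_of_om (F := F) (by rw [huv]; exact one_ne_zero : om u v ≠ 0)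
  -- root elements trivial on a set of factors
  obtain ⟨n, hn, hnt, hmem⟩ : ∃ n : ℕ, 0 < n ∧ n + n < t ∧ ∀ (B : Finset (Fin t)) (z : E), B.card = n →
      Mem M (1 + tens fun l => if l ∈ B then (1 : M₁) else dd z) := by
    by_cases hte : Even t
    · refine ⟨1, one_pos, by omega, fun B z hB => ?_⟩
      obtain ⟨a, rfl⟩ := Finset.card_eq_one.1 hB
      obtain ⟨j, hja, -⟩ := exists_third (by omega : 3 ≤ t) a a
      have := sub_transport hM (by omega) h a (fun l => if l = a then 1 else if l = j then (2 : F) • dd z else dd z)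
        (by simp) j hja ⟨z, z, by
          simp only [if_neg hja, if_true]
          rw [pow_succ, hte.neg_one_pow, one_mul, kk, dd]
          module⟩
        (fun l h1 h2 => ⟨z, by simp [h1, h2]⟩) (2 : F)⁻¹
      convert this using 2
      rw [show (fun l => if l = a then (1 : M₁) else if l = j then (2 : F) • dd z else dd z) =
          Function.update (fun l => if l ∈ ({a} : Finset (Fin t)) then (1 : M₁) else dd z) j
            ((2 : F) • dd z) from funext fun l => by
        rcases eq_or_ne l j with rfl | hl <;> simp [*],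
        tens_update_smul, smul_smul, inv_mul_cancel₀ h2, one_smul,
        Function.update_eq_self_iff.2 (by simp [hja])]
    · have ho : Odd t := Nat.not_even_iff_odd.1 hte
      have ht5 : 5 ≤ t := by obtain ⟨k, hk⟩ := ho; omega
      refine ⟨2, two_pos, by omega, fun B z hB => ?_⟩
      obtain ⟨a, a', haa, rfl⟩ := Finset.card_eq_two.1 hB
      have hone : kk 1 u v = -(1 : M₁) := by
        refine Matrix.ext_iff_mulVec.2 fun x => ?_
        obtain ⟨c, hx⟩ := (Submodule.mem_span_range_iff_exists_fun F).1
          ((Submodule.eq_top_of_finrank_eq (by rw [finrank_span_eq_card hli, Module.finrank_fin_fun, hr]; simp) :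
            Submodule.span F (Set.range ![u, v]) = ⊤) ▸ Submodule.mem_top : x ∈ _)
        simp only [Fin.sum_univ_two, Matrix.cons_val_zero, Matrix.cons_val_one] at hx
        subst hx
        simp [kk, Matrix.sub_mulVec, Matrix.add_mulVec, dy_mulVec, om_add_right, om_smul_right, om_self, huv,
          om_swap u v, Matrix.neg_mulVec]
        abel
      have := sub_transport hM (by omega) h a
        (fun l => if l = a then 1 else if l = a' then (-1 : F) • (1 : M₁) else dd z) (by simp) a' haa.symm
        ⟨u, v, by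
          simp only [if_neg haa.symm, if_true]
          rw [pow_succ, ho.neg_one_pow, neg_mul_neg, one_mul, hone, neg_one_smul]⟩
        (fun l h1 h2 => ⟨z, by simp [h1, h2]⟩) (-1)
      convert this using 2
      rw [show (fun l => if l = a then (1 : M₁) else if l = a' then (-1 : F) • (1 : M₁) else dd z) =
          Function.update (fun l => if l ∈ ({a, a'} : Finset (Fin t)) then (1 : M₁) else dd z) a'
            ((-1 : F) • (1 : M₁)) from funext fun l => by
        rcases eq_or_ne l a' with rfl | hl <;> simp [*, haa.symm],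
        tens_update_smul, smul_smul, neg_mul_neg, one_mul, one_smul,
        Function.update_eq_self_iff.2 (by simp)]
  obtain ⟨S, -, hS⟩ := Finset.exists_subset_card_eq (s := (Finset.univ : Finset (Fin t))) (n := n + n)
    (by rw [Finset.card_univ, Fintype.card_fin]; omega)
  obtain ⟨A, hAS, hA⟩ := Finset.exists_subset_card_eq (s := S) (n := n) (by omega)
  set B := S \ A with hBdef
  have hB : B.card = n := by rw [hBdef, Finset.card_sdiff_of_subset hAS]; omega
  have hAB : ∀ l ∈ A, l ∉ B := fun l hl h => (Finset.mem_sdiff.1 h).2 hl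
  obtain ⟨i, hi⟩ : ∃ i, i ∉ S := by
    obtain ⟨i, -, hi⟩ := Finset.exists_mem_notMem_of_card_lt_card (s := S) (t := Finset.univ)
      (by rw [Finset.card_univ, Fintype.card_fin]; omega)
    exact ⟨i, hi⟩
  have hiA : i ∉ A := fun h => hi (hAS h)
  have hiB : i ∉ B := fun h => hi (Finset.mem_sdiff.1 h).1
  obtain ⟨m, hm⟩ := Finset.card_pos.1 (show 0 < A.card by omega)
  obtain ⟨m', hm'⟩ := Finset.card_pos.1 (show 0 < B.card by omega)
  set W : Fin t → M₁ := fun l => if l ∈ B then 1 else dd u with hW
  set W' : Fin t → M₁ := fun l => if l ∈ A then 1 else dd v with hW'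
  set x : Fin t → E := fun l => if l ∈ B then v else u with hx
  set y : Fin t → E := fun l => if l ∈ A then u else v with hy
  have hd : ∀ l, l ∈ B → l ∉ A := fun l hl => (Finset.mem_sdiff.1 hl).2
  have hR := comm_of_slots (c := 1) (c' := 1) (x := x) (y := y) (fun l => if l ∈ S then 1 else -1)
    (by rw [one_smul]; exact hmem B u hB) (by rw [one_smul]; exact hmem A v hA)
    (fun l => by
      by_cases ha : l ∈ A
      · simp [hW, hW', hx, hy, ha, hAB l ha, dd]
      by_cases hb : l ∈ B
      · simp [hW, hW', hx, hy, hb, ha, dd]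
      · simp [hW, hW', hx, hy, hb, ha, dd, dy_mul_dy, huv])
    (fun l => by
      by_cases ha : l ∈ A
      · simp [hW, hW', hx, hy, ha, hAB l ha, hAS ha, dd]
      by_cases hb : l ∈ B
      · simp [hW, hW', hx, hy, hb, ha, (Finset.mem_sdiff.1 hb).1, dd]
      · have hS' : l ∉ S := fun h => hb (Finset.mem_sdiff.2 ⟨h, ha⟩)
        simp [hW, hW', hx, hy, hb, ha, hS', dd, dy_mul_dy, om_swap u v, huv])
    (by
      rw [Finset.prod_ite, Finset.prod_const_one, one_mul, Finset.prod_const]
      have := Finset.card_filter_add_card_filter_not (s := (Finset.univ : Finset (Fin t))) fun l => l ∈ S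
      rw [Finset.filter_mem_eq_inter, Finset.univ_inter, hS, Finset.card_univ, Fintype.card_fin] at this
      conv_rhs => rw [show t = (Finset.univ.filter fun l : Fin t => l ∉ S).card + (n + n) by omega]
      rw [pow_add, Even.neg_one_pow ⟨n, rfl⟩, mul_one])
    ⟨m, by simp [hW, hAB m hm, dd_sq]⟩ ⟨m', by simp [hW', hd m' hm', dd_sq]⟩
    ⟨m, by simp [hW, hW', hm, hAB m hm, dd_sq]⟩ ⟨m', by simp [hW, hW', hm', hd m' hm', dd_sq]⟩
  have hxy : ∀ l, x l = y l ∨ LinearIndependent F ![x l, y l] := fun l => by
    by_cases ha : l ∈ A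
    · exact Or.inl (by simp [hx, hy, ha, hAB l ha])
    by_cases hb : l ∈ B
    · exact Or.inl (by simp [hx, hy, hb, ha])
    · exact Or.inr (by simpa [hx, hy, ha, hb] using hli)
  have hxym : x m = y m := by simp [hx, hy, hm, hAB m hm]
  have hr' := (RAt.of_one hM.toOBase m hxym (mul_ne_zero one_ne_zero one_ne_zero) hR).reduce hM.toOBase (i := i)
    (fun e => hiA (by rwa [← e])) hxym hxy
  refine pat_all hM (by omega) (pat_of_seed hM.toOBase (m := m) (j := i) (fun e => hiA (by rwa [← e]))
    (fun l hl => by simp [Function.update_of_ne hl]) (fun l => ?_) ?_ hr')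
  · simp only [hy]; split_ifs
    exacts [hu, fun e => one_ne_zero (α := F) (by rw [← huv, e, om_zero_right])]
  · simp [hx, hy, hiA, hiB, huv]

/-- The wreath group or all root elements. -/
theorem le_wreath_or_full (hq : Hq F r) : ∀ t, 0 < t → ∀ M : Subgroup (GL (Fin t → Fin (r + r)) F), OMain M →
    M ≤ tensorWreathStandard (r + r) t F ∨ (2 ≤ t ∧ RFull M ∧ ¬ (r = 1 ∧ t ≤ 2)) := by
  classical
  have : NeZero (r + r) := ⟨by have := hq.pos; omega⟩
  let _ : Fintype F := Fintype.ofFinite F
  intro t
  induction t using Nat.strong_induction_on with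
  | _ t ih =>
    intro ht M hM
    by_cases h1 : t = 1
    · subst h1; exact Or.inl fun g _ => mem_wreath_one (by have := hq.pos; omega) g
    by_cases hfull : RFull M ∧ ¬ (r = 1 ∧ t ≤ 2)
    · exact Or.inr ⟨by omega, hfull⟩
    push Not at hfull
    refine Or.inl (le_wreath ⟨hM.toOBase, fun hF => ?_, fun g hg b hcom => ?_⟩ hq ht)
    · obtain ⟨hr, ht2⟩ := hfull hF
      obtain rfl : t = 2 := by omega
      exact ⟨hr, even_two, (hq.one hr).1⟩
    obtain ⟨s, rfl⟩ : ∃ s, t = s + 1 := ⟨t - 1, by omega⟩
    obtain ⟨g', rfl⟩ := exists_embHom hcom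
    refine embHom_mem_wreath b ?_
    rcases ih s (by omega) (by omega) _ (comap_main hq.pos hM b) with h | ⟨hs, hsub, hs2⟩
    · exact h hg
    exfalso
    have hS : Sub M b := by
      intro Z hZb j hjb ⟨p, p', hj⟩ hl c
      obtain ⟨j', rfl⟩ := Fin.exists_succAbove_eq hjb
      choose! u hu using hl
      set X : Fin s → E := fun k => if k = j' then p else u (b.succAbove k)
      set Y : Fin s → E := fun k => if k = j' then p' else u (b.succAbove k)
      obtain ⟨g₁, hg₁, hgv⟩ := hsub X Y j' (fun k hk => by simp [X, Y, hk]) c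
      refine ⟨embHom b g₁, hg₁, ?_⟩
      rw [embHom_val, hgv, emb_add, emb_one, emb_smul, rho_eq_single (j := j') fun k hk => by simp [X, Y, hk],
        emb_tens]
      congr 3
      funext l
      rcases Fin.eq_self_or_eq_succAbove b l with rfl | ⟨k, rfl⟩
      · simp [hZb]
      rcases eq_or_ne k j' with rfl | hk
      · simp [X, Y, hj, pow_succ, pow_add]
      · simp [X, hk, hu _ (Fin.succAbove_ne b k) (Fin.succAbove_right_injective.ne hk)]
    have hR : RFull M := by
      by_cases hr : r = 1
      · exact rfull_one hM hr (hq.one hr).1 (by push Not at hs2; have := hs2 hr; omega) hS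
      · exact rfull_two hM (by have := hq.pos; omega) (by omega) hS
    obtain ⟨hr, ht2⟩ := hfull hR
    omega

end CfsgLib.Geo.TensorPow.OS
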