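/-
All root elements at pairs of pure tensors give the commutator subgroup of the orthogonal group.
-/
import Cfsg.Agent.Geo.TensorPow.OS.Seed
import Cfsg.Agent.Geo.OrthSiegel

set_option autoImplicit false
set_option linter.unusedSectionVars false

namespace CfsgLib.Geo.TensorPow.OS

open Matrix CfsgLib.Aschbacher CfsgLib.Geo.OS CfsgLib.Forms CfsgLib.Quad QuadraticMap
open scoped MatrixGroups

variable {F : Type*} [Field F] {t r : ℕ}

local notation "E" => (Fin (r + r) → F)
local notation "M₁" => Matrix (Fin (r + r)) (Fin (r + r)) F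
local notation "MT" => Mt t (r + r) F
local notation "VT" => ((Fin t → Fin (r + r)) → F)

/-- The bilinear form of the tensor power. -/
def omT (x y : (Fin t → Fin (r + r)) → F) : F := x ᵥ* jt t r F ⬝ᵥ y

lemma omT_add_left (x x' y : VT) : omT (x + x') y = omT x y + omT x' y := by
  simp [omT, Matrix.add_vecMul]

lemma omT_smul_left (c : F) (x y : VT) : omT (c • x) y = c * omT x y := by simp [omT, Matrix.smul_vecMul]

lemma omT_zero_left (y : VT) : omT (0 : VT) y = 0 := by simp [omT]

lemma omT_swap (hε : (-1 : F) ^ t = 1) (x y : VT) : omT y x = omT x y := by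
  rw [omT, omT, ← Matrix.dotProduct_mulVec, ← Matrix.dotProduct_mulVec, Matrix.dotProduct_mulVec x,
    ← Matrix.mulVec_transpose, jt_transpose', hε, one_smul, dotProduct_comm]

lemma pv_vecMul_jt (a : Fin t → E) : pv a ᵥ* jt t r F = pv fun l => a l ᵥ* jm r F := by
  rw [← Matrix.mulVec_transpose, jt, tens_transpose, tens_mulVec_pv]
  simp only [Matrix.mulVec_transpose]

lemma omT_pv (a b : Fin t → E) : omT (pv a) (pv b) = ∏ l, om (a l) (b l) := by
  rw [omT, pv_vecMul_jt, pv_dot]; rfl

lemma tens_dy_mulVec (X Y : Fin t → E) (z : VT) :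
    (tens (fun l => dy (X l) (Y l)) : MT) *ᵥ z = omT (pv Y) z • pv X := by
  have e : (tens (fun l => dy (X l) (Y l)) : MT) = Matrix.vecMulVec (pv X) (pv Y ᵥ* jt t r F) := by
    rw [pv_vecMul_jt]
    ext x y
    simp [tens, dy, Matrix.vecMulVec_apply, pv, Finset.prod_mul_distrib]
  rw [e, Matrix.vecMulVec_mulVec, op_smul_eq_smul]
  rfl

lemma rho_mulVec (hε : (-1 : F) ^ t = 1) (X Y : Fin t → E) (z : VT) :
    (rho X Y : MT) *ᵥ z = omT z (pv Y) • pv X - omT z (pv X) • pv Y := by
  rw [rho, hε, one_smul, Matrix.sub_mulVec, tens_dy_mulVec, tens_dy_mulVec, omT_swap hε z, omT_swap hε z]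

lemma pv_add (a : Fin t → E) (i : Fin t) (x y : E) :
    pv (Function.update a i (x + y)) = pv (Function.update a i x) + pv (Function.update a i y) := by
  classical
  funext p
  simp only [pv, Pi.add_apply, ← Finset.mul_prod_erase _ _ (Finset.mem_univ i), Function.update_self]
  have e : ∀ w : E, ∏ l ∈ Finset.univ.erase i, Function.update a i w l (p l) =
      ∏ l ∈ Finset.univ.erase i, a l (p l) := fun w =>
    Finset.prod_congr rfl fun l hl => by rw [Function.update_of_ne (Finset.ne_of_mem_erase hl)]
  rw [e, e, e, add_mul]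

lemma pv_smul (a : Fin t → E) (i : Fin t) (c : F) (x : E) :
    pv (Function.update a i (c • x)) = c • pv (Function.update a i x) := by
  classical
  funext p
  simp only [pv, Pi.smul_apply, smul_eq_mul, ← Finset.mul_prod_erase _ _ (Finset.mem_univ i), Function.update_self]
  have e : ∀ w : E, ∏ l ∈ Finset.univ.erase i, Function.update a i w l (p l) =
      ∏ l ∈ Finset.univ.erase i, a l (p l) := fun w =>
    Finset.prod_congr rfl fun l hl => by rw [Function.update_of_ne (Finset.ne_of_mem_erase hl)]
  rw [e, e, mul_assoc]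

lemma pv_single (z : Fin t → Fin (r + r)) :
    pv (fun l => (Pi.single (z l) 1 : E)) = Pi.single z 1 := by
  funext x
  by_cases h : x = z
  · subst h; simp [pv]
  · rw [Pi.single_eq_of_ne h]
    obtain ⟨l, hl⟩ := Function.ne_iff.1 h
    exact Finset.prod_eq_zero (Finset.mem_univ l) (Pi.single_eq_of_ne hl _)

variable {V : Type*} [AddCommGroup V] [Module F V] {Q : QuadraticForm F V}

/-- The Siegel transformations at a constant pure tensor from root elements at pairs of pure tensors. -/
theorem full_of_roots (hr : 0 < r) (ht : 2 ≤ t) (ht4 : r = 1 → 4 ≤ t) (hε : (-1 : F) ^ t = 1)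
    (L : ((Fin t → Fin (r + r)) → F) ≃ₗ[F] V) {c : F} (hc : c ≠ 0)
    (hpol : ∀ x y, polar Q (L x) (L y) = c * omT x y) (hpure : ∀ v : Fin t → E, Q (L (pv v)) = 0)
    {M : Subgroup (oGroup Q)}
    (hroot : ∀ (X Y : Fin t → E) (j : Fin t), (∀ l, l ≠ j → X l = Y l) → ∀ k : F, ∃ g ∈ M,
      ∀ z, g.1 (L z) = L ((1 + k • rho X Y : MT) *ᵥ z))
    {u v : E} (huv : om u v = 1) : Full M (L (pv fun _ => u)) := by
  classical
  haveI : Nontrivial (Fin t) := Fin.nontrivial_iff_two_le.2 ht
  have hu : u ≠ 0 := fun e => one_ne_zero (α := F) (by rw [← huv, e, om_zero_left])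
  set U : Fin t → E := fun _ => u with hU
  set e := L (pv U) with he
  have he0 : Q e = 0 := hpure _
  let S : Submodule F ((Fin t → Fin (r + r)) → F) :=
    { carrier := {x | omT x (pv U) = 0 ∧ ∀ l : F, siegel Q e (l • L x) ∈ M}
      add_mem' := fun {x y} hx hy => ⟨by rw [omT_add_left, hx.1, hy.1, add_zero], fun l => by
        have h : ∀ {x : VT}, omT x (pv U) = 0 → polar Q e (l • L x) = 0 := fun {x} h => by
          rw [polar_smul_right, hpol, omT_swap hε x, h, mul_zero, smul_zero]
        rw [map_add, smul_add, ← siegel_mul he0 (h hx.1) (h hy.1)]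
        exact M.mul_mem (hx.2 l) (hy.2 l)⟩
      zero_mem' := ⟨omT_zero_left _, fun l => by rw [map_zero, smul_zero, siegel_zero he0]; exact M.one_mem⟩
      smul_mem' := fun a x hx => ⟨by rw [omT_smul_left, hx.1, mul_zero], fun l => by
        rw [map_smul, smul_smul]; exact hx.2 _⟩ }
  -- one factor off the centre
  have hbase : ∀ (i : Fin t) (y : E), pv (Function.update U i y) ∈ S := by
    intro i y
    obtain ⟨j, hji⟩ := exists_ne i
    have h0 : omT (pv (Function.update U i y)) (pv U) = 0 := by
      rw [omT_pv]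
      exact Finset.prod_eq_zero (Finset.mem_univ j) (by simp [Function.update_of_ne hji, hU, om_self])
    refine ⟨h0, fun l => ?_⟩
    set b := Function.update U i y with hb
    obtain ⟨g, hg, hgz⟩ := hroot U b i (fun k hk => by simp [hb, Function.update_of_ne hk]) (-(l * c))
    have hperp : polar Q e (l • L (pv b)) = 0 := by
      rw [polar_smul_right, hpol, omT_swap hε (pv b), h0, mul_zero, smul_zero]
    have heq : siegel Q e (l • L (pv b)) = g := by
      refine Subtype.ext (LinearEquiv.ext fun z => ?_)
      obtain ⟨z, rfl⟩ := L.surjective z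
      rw [hgz, siegel_apply he0 hperp, polar_smul_right, hpol, hpol, quad_smul, hpure b, Matrix.add_mulVec,
        Matrix.one_mulVec, Matrix.smul_mulVec, rho_mulVec hε, map_add, map_smul, map_sub, map_smul, map_smul, he,
        smul_eq_mul]
      module
    rw [heq]
    exact hg
  -- moving by root elements fixing the centre
  have hmove : ∀ (w z : Fin t → E) (j : Fin t) (x : E), pv w ∈ S → om (w j) (z j) = 0 → om (w j) x ≠ 0 →
      (∀ l, l ≠ j → om (w l) (z l) ≠ 0) → omT (pv U) (pv z) = 0 →
      omT (pv U) (pv (Function.update z j x)) = 0 → pv z ∈ S := by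
    intro w z j x hw hwz hwx hne hUz hUx
    set X := Function.update z j x with hX
    obtain ⟨g, hg, hgz⟩ := hroot X z j (fun l hl => by simp [hX, Function.update_of_ne hl]) (-1)
    set R := ∏ l ∈ Finset.univ.erase j, om (w l) (z l)
    have hR : R ≠ 0 := Finset.prod_ne_zero_iff.2 fun l hl => hne l (Finset.ne_of_mem_erase hl)
    have h1 : omT (pv w) (pv X) = om (w j) x * R := by
      rw [omT_pv, ← Finset.mul_prod_erase _ _ (Finset.mem_univ j), hX, Function.update_self]
      congr 1
      exact Finset.prod_congr rfl fun l hl => by rw [Function.update_of_ne (Finset.ne_of_mem_erase hl)]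
    have h2 : omT (pv w) (pv z) = 0 := by
      rw [omT_pv]; exact Finset.prod_eq_zero (Finset.mem_univ j) hwz
    have hge : g.1 e = e := by
      rw [he, hgz, Matrix.add_mulVec, Matrix.one_mulVec, Matrix.smul_mulVec, rho_mulVec hε, hUz, hUx]
      simp
    have hgw : g.1 (L (pv w)) = L (pv w + (om (w j) x * R) • pv z) := by
      rw [hgz, Matrix.add_mulVec, Matrix.one_mulVec, Matrix.smul_mulVec, rho_mulVec hε, h1, h2, zero_smul, zero_sub,
        neg_one_smul, neg_neg]
    have hmem : pv w + (om (w j) x * R) • pv z ∈ S := by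
      refine ⟨by rw [omT_add_left, omT_smul_left, hw.1, omT_swap hε (pv U) (pv z), hUz, mul_zero, add_zero],
        fun l => ?_⟩
      have := siegel_conj_mem hg he0 (a := l • L (pv w)) (by
        rw [polar_smul_right, hpol, omT_swap hε (pv w), hw.1, mul_zero, smul_zero]) (hw.2 l)
      rwa [hge, map_smul, hgw] at this
    have h3 := S.smul_mem (om (w j) x * R)⁻¹ (S.sub_mem hmem hw)
    rwa [add_sub_cancel_left, smul_smul, inv_mul_cancel₀ (mul_ne_zero hwx hR), one_smul] at h3
  have hUzero : ∀ (z : Fin t → E) (k : Fin t), om (z k) u = 0 → omT (pv U) (pv z) = 0 := fun z k h => by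
    rw [omT_pv]; exact Finset.prod_eq_zero (Finset.mem_univ k) (om_swap0 h)
  -- a factor free of restrictions
  have hfree : ∀ (s : Finset (Fin t)) (P : (Fin t → E) → Prop),
      (∀ z, (∀ l ∈ s, om (z l) u ≠ 0) → P z → pv z ∈ S) →
      (∀ z l x, l ∈ s → P z → P (Function.update z l x)) → ∀ z, P z → pv z ∈ S := by
    intro s
    induction s using Finset.induction_on with
    | empty => intro P h _ z hz; exact h z (by simp) hz
    | insert a s ha ih =>
      intro P h hP z hz
      refine ih P (fun z hz hPz => ?_) (fun z l x hl => hP z l x (Finset.mem_insert_of_mem hl)) z hz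
      have hgood : ∀ x, om x u ≠ 0 → pv (Function.update z a x) ∈ S := fun x hx => by
        refine h _ (fun l hl => ?_) (hP z a x (Finset.mem_insert_self a s) hPz)
        rcases eq_or_ne l a with rfl | hla
        · rwa [Function.update_self]
        · rw [Function.update_of_ne hla]; exact hz l ((Finset.mem_insert.1 hl).resolve_left hla)
      have hvu : om v u ≠ 0 := by rw [om_swap, huv]; exact neg_ne_zero.2 one_ne_zero
      rw [← Function.update_eq_self a z]
      by_cases hza : om (z a) u = 0
      · have := S.sub_mem (hgood (z a + v) (by rwa [om_add_left, hza, zero_add])) (hgood v hvu)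
        rwa [pv_add, add_sub_cancel_right] at this
      · exact hgood _ hza
  -- two factors orthogonal to the centre
  have htwo : ∀ z : Fin t → E, ∀ j k, j ≠ k → om (z j) u = 0 → om (z k) u = 0 → pv z ∈ S := by
    intro z j k hjk hj hk
    refine hfree ((Finset.univ.erase j).erase k) (fun z => om (z j) u = 0 ∧ om (z k) u = 0) (fun z hz hjk' => ?_)
      (fun z l x hl hP => ?_) z ⟨hj, hk⟩
    · by_cases h0 : z k = 0
      · have e : pv z = 0 := funext fun p => Finset.prod_eq_zero (Finset.mem_univ k) (by rw [h0]; rfl)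
        rw [e]; exact S.zero_mem
      obtain ⟨p, hp⟩ := exists_partner h0
      refine hmove (Function.update U k p) z j v (hbase k p)
        (by simp [Function.update_of_ne hjk, hU, om_swap0 hjk'.1])
        (by simp [Function.update_of_ne hjk, hU, huv]) (fun l hl => ?_) (hUzero z j hjk'.1)
        (hUzero _ k (by rw [Function.update_of_ne hjk.symm]; exact hjk'.2))
      rcases eq_or_ne l k with rfl | hlk
      · rw [Function.update_self, om_swap, hp]; exact neg_ne_zero.2 one_ne_zero
      · rw [Function.update_of_ne hlk, hU, om_swap]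
        exact neg_ne_zero.2 (hz l (by simp [hl, hlk]))
    · simp only [Finset.mem_erase] at hl
      rwa [Function.update_of_ne hl.1.symm, Function.update_of_ne hl.2.1.symm]
  -- one factor orthogonal to the centre
  have hone : ∀ z : Fin t → E, ∀ k, om (z k) u = 0 → pv z ∈ S := by
    intro z k hk
    by_cases hex : ∃ l, l ≠ k ∧ om (z l) u = 0
    · obtain ⟨l, hl, hl'⟩ := hex
      exact htwo z l k hl hl' hk
    push Not at hex
    by_cases h0 : z k = 0
    · have e : pv z = 0 := funext fun p => Finset.prod_eq_zero (Finset.mem_univ k) (by rw [h0]; rfl)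
      rw [e]; exact S.zero_mem
    by_cases hr1 : r = 1
    · obtain ⟨j, hjk⟩ := exists_ne k
      have hzj : z j ≠ 0 := fun e => hex j hjk (by rw [e, om_zero_left])
      obtain ⟨x, hx⟩ := exists_partner hzj
      obtain ⟨p, hp⟩ := exists_partner h0
      set w : Fin t → E := fun l => if l = j then z j else if l = k then p else u with hw
      obtain ⟨a, ha, b, hb, hab⟩ := Finset.one_lt_card.1
        (show 1 < ((Finset.univ.erase j).erase k).card by
          rw [Finset.card_erase_of_mem (Finset.mem_erase.2 ⟨hjk.symm, Finset.mem_univ k⟩),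
            Finset.card_erase_of_mem (Finset.mem_univ j), Finset.card_univ, Fintype.card_fin]
          have := ht4 hr1; omega)
      simp only [Finset.mem_erase] at ha hb
      refine hmove w z j x (htwo w a b hab (by simp [hw, ha.1, ha.2.1, om_self]) (by simp [hw, hb.1, hb.2.1, om_self]))
        (by simp [hw, om_self]) (by simp [hw, hx]) (fun l hl => ?_) (hUzero z k hk)
        (hUzero _ k (by rw [Function.update_of_ne hjk.symm]; exact hk))
      rcases eq_or_ne l k with rfl | hlk
      · simp [hw, hl, om_swap _ p, hp]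
      · simp only [hw, if_neg hl, if_neg hlk]
        rw [om_swap]; exact neg_ne_zero.2 (hex l hlk)
    · obtain ⟨p, hp, hpn⟩ := exists_perp_notMem ![z k] ![u] (by omega)
      have hli : LinearIndependent F ![u, p] := LinearIndependent.pair_iff' hu |>.2 fun a e => hpn (by
        rw [← e]; exact Submodule.smul_mem _ _ (Submodule.subset_span ⟨0, rfl⟩))
      obtain ⟨x, hx⟩ := exists_dual ![u, p] hli ![0, 1]
      refine hmove (Function.update U k p) z k x (hbase k p) (by simpa using hp 0)
        (by rw [Function.update_self, om_swap, show om x p = 1 from hx 1]; exact neg_ne_zero.2 one_ne_zero)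
        (fun l hl => ?_) (hUzero z k hk) (hUzero _ k (by rw [Function.update_self]; exact hx 0))
      rw [Function.update_of_ne hl, hU, om_swap]
      exact neg_ne_zero.2 (hex l hl)
  set W : Submodule F ((Fin t → Fin (r + r)) → F) := S ⊔ (F ∙ pv fun _ : Fin t => v) with hW
  have hpureW : ∀ (s : Finset (Fin t)) (a : Fin t → E), (∀ l, l ∉ s → a l = v) → pv a ∈ W := by
    intro s
    induction s using Finset.induction_on with
    | empty =>
      intro a ha
      rw [show a = fun _ => v from funext fun l => ha l (by simp)]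
      exact Submodule.mem_sup_right (Submodule.mem_span_singleton_self _)
    | insert k s hk ih =>
      intro a ha
      rw [← Function.update_eq_self k a, ← sub_add_cancel (a k) (om u (a k) • v), pv_add, pv_smul]
      refine W.add_mem (Submodule.mem_sup_left (hone _ k ?_)) (W.smul_mem _ (ih _ fun l hl => ?_))
      · rw [Function.update_self, om_sub_left, om_smul_left, om_swap u v, huv, om_swap u (a k)]; ring
      · rcases eq_or_ne l k with rfl | hlk
        · rw [Function.update_self]
        · rw [Function.update_of_ne hlk]; exact ha l (by simp [hlk, hl])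
  have hWtop : W = ⊤ := by
    rw [eq_top_iff, ← (Pi.basisFun F (Fin t → Fin (r + r))).span_eq, Submodule.span_le]
    rintro _ ⟨z, rfl⟩
    rw [Pi.basisFun_apply, SetLike.mem_coe, ← pv_single]
    exact hpureW Finset.univ _ fun l hl => absurd (Finset.mem_univ l) hl
  intro a ha
  obtain ⟨x, rfl⟩ := L.surjective a
  obtain ⟨s, hs, w, hw, rfl⟩ := Submodule.mem_sup.1 (hWtop ▸ Submodule.mem_top : x ∈ W)
  obtain ⟨μ, rfl⟩ := Submodule.mem_span_singleton.1 hw
  rw [he, hpol, omT_swap hε _ (pv U), omT_add_left, hs.1, zero_add, omT_smul_left, omT_pv, mul_eq_zero,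
    or_iff_right hc, mul_eq_zero] at ha
  obtain rfl : μ = 0 := ha.resolve_right (Finset.prod_ne_zero_iff.2 fun l _ => by
    show om v u ≠ 0
    rw [om_swap, huv]; exact neg_ne_zero.2 one_ne_zero)
  rw [zero_smul, add_zero]
  simpa using hs.2 1

/-- The commutator subgroup from root elements at pairs of pure tensors. -/
theorem commutator_le_of_roots [FiniteDimensional F V] [Finite F] (hQ : (polarBilin Q).Nondegenerate)
    (hn : 5 ≤ Module.finrank F V) (hr : 0 < r) (ht : 2 ≤ t) (ht4 : r = 1 → 4 ≤ t) (hε : (-1 : F) ^ t = 1)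
    (L : ((Fin t → Fin (r + r)) → F) ≃ₗ[F] V) {c : F} (hc : c ≠ 0)
    (hpol : ∀ x y, polar Q (L x) (L y) = c * omT x y) (hpure : ∀ v : Fin t → E, Q (L (pv v)) = 0)
    {M : Subgroup (oGroup Q)}
    (hroot : ∀ (X Y : Fin t → E) (j : Fin t), (∀ l, l ≠ j → X l = Y l) → ∀ k : F, ∃ g ∈ M,
      ∀ z, g.1 (L z) = L ((1 + k • rho X Y : MT) *ᵥ z)) : commutator (oGroup Q) ≤ M := by
  obtain ⟨v, huv⟩ := exists_partner (u := (Pi.single (⟨0, by omega⟩ : Fin (r + r)) 1 : E)) fun e => by
    simpa using congrFun e (⟨0, by omega⟩ : Fin (r + r))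
  set u : E := Pi.single (⟨0, by omega⟩ : Fin (r + r)) 1
  refine commutator_le_of_two hQ hn (hpure fun _ => u) (hpure fun _ => v) ?_
    (full_of_roots hr ht ht4 hε L hc hpol hpure hroot huv)
    (full_of_roots hr ht ht4 hε L hc hpol hpure hroot (u := v) (v := -u)
      (by rw [om_neg_right, om_swap, huv, neg_neg]))
  rw [hpol, omT_pv]
  simp [huv, hc]

end CfsgLib.Geo.TensorPow.OS
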