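/-
The stabiliser of a tensor power of a symplectic space is maximal in the commutator subgroup of the orthogonal group.
-/
import Cfsg.Agent.Geo.TensorPow.OS.Rec
import Cfsg.Agent.Geo.TensorPow.OS.Span
import Cfsg.Agent.Geo.TensorPow.Sp.Top
import Cfsg.Agent.Geo.Transvection
import Cfsg.Agent.Quad.OmegaSum
import Cfsg.Agent.Quad.OmegaMem

set_option autoImplicit false
set_option linter.unusedSectionVars false

namespace CfsgLib.Geo.TensorPow.OS

open Matrix Cfsg Cfsg.Geo CfsgLib.Geo CfsgLib.Aschbacher CfsgLib.Quad CfsgLib.Forms QuadraticMap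
open scoped MatrixGroups

universe u

variable {F : Type u} [Field F] {t r : ℕ}

local notation "E" => (Fin (r + r) → F)
local notation "M₁" => Matrix (Fin (r + r)) (Fin (r + r)) F
local notation "MT" => Mt t (r + r) F
local notation "VT" => ((Fin t → Fin (r + r)) → F)

lemma omT_mulVec (g : MT) (x y : VT) : omT (g *ᵥ x) (g *ᵥ y) = x ⬝ᵥ ((gᵀ * jt t r F * g) *ᵥ y) := by
  rw [omT, ← Matrix.dotProduct_mulVec, ← Matrix.mulVec_mulVec, ← Matrix.mulVec_mulVec,
    Matrix.dotProduct_mulVec x gᵀ, Matrix.vecMul_transpose]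

lemma jt_iso_of_omT (g : MT) (h : ∀ x y, omT (g *ᵥ x) (g *ᵥ y) = omT x y) : gᵀ * jt t r F * g = jt t r F := by
  refine Matrix.ext fun a b => ?_
  have := h (Pi.single a 1) (Pi.single b 1)
  rw [omT_mulVec, omT, ← Matrix.dotProduct_mulVec] at this
  simpa using this

lemma kk_one_plane (hr : r = 1) {u v : E} (huv : om u v = 1) : kk 1 u v = -(1 : M₁) := by
  have hli := indep_of_om (F := F) (by rw [huv]; exact one_ne_zero : om u v ≠ 0)
  refine Matrix.ext_iff_mulVec.2 fun x => ?_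
  obtain ⟨c, hx⟩ := (Submodule.mem_span_range_iff_exists_fun F).1
    ((Submodule.eq_top_of_finrank_eq (by rw [finrank_span_eq_card hli, Module.finrank_fin_fun, hr]; simp) :
      Submodule.span F (Set.range ![u, v]) = ⊤) ▸ Submodule.mem_top : x ∈ _)
  simp only [Fin.sum_univ_two, Matrix.cons_val_zero, Matrix.cons_val_one] at hx
  subst hx
  simp [kk, Matrix.sub_mulVec, Matrix.add_mulVec, dy_mulVec, om_add_right, om_smul_right, om_self, huv,
    om_swap u v, Matrix.neg_mulVec]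
  abel

/-- A root element at a pair of pure tensors outside the wreath group. -/
lemma exists_rho_notMem [Fintype F] (hr : 0 < r) (ht : 2 ≤ t) (ht4 : r = 1 → 4 ≤ t) (hε : (-1 : F) ^ t = 1)
    {c : F} (hc : c ≠ 0) : ∃ X Y : Fin t → E, omT (pv Y) (pv X) = 0 ∧
      ∀ g ∈ tensorWreathStandard (r + r) t F, (g : MT) ≠ 1 + (-c) • rho X Y := by
  classical
  have : Nontrivial (Fin t) := Fin.nontrivial_iff_two_le.2 ht
  obtain ⟨u, hu⟩ : ∃ u : E, u ≠ 0 := ⟨Pi.single ⟨0, by omega⟩ 1, fun e => by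
    simpa using congrFun e ⟨0, by omega⟩⟩
  set j : Fin t := ⟨0, by omega⟩
  obtain ⟨l, hlj⟩ := exists_ne j
  by_cases hr1 : r = 1
  · obtain ⟨v, huv⟩ := exists_partner hu
    refine ⟨fun _ => u, Function.update (fun _ => u) j v, ?_, fun g hg hgv => ?_⟩
    · rw [omT_pv]; exact Finset.prod_eq_zero (Finset.mem_univ l) (by simp [Function.update_of_ne hlj, om_self])
    refine not_wreath (L := Finset.univ.erase j) (Ws := fun _ => dd u)
      (by rw [Finset.card_erase_of_mem (Finset.mem_univ j), Finset.card_univ, Fintype.card_fin]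
          have := ht4 hr1; omega)
      (fun _ _ => kind_dd hu) hc hg ?_
    rw [hgv, rho_eq_single (j := j) fun k hk => by simp [Function.update_of_ne hk], hε, Function.update_self,
      kk_one_plane hr1 huv, ← neg_one_smul F (1 : M₁), tens_update_smul, smul_smul, neg_mul_neg, mul_one, TL]
    congr 3
    funext k
    rcases eq_or_ne k j with rfl | hk
    · simp
    · simp [Function.update_of_ne hk, hk]
  · obtain ⟨z, hli, ho⟩ := exists_orth_partner (by omega : 2 ≤ r) hu
    refine ⟨fun _ => u, Function.update (fun _ => u) j z, ?_, fun g hg hgv => ?_⟩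
    · rw [omT_pv]; exact Finset.prod_eq_zero (Finset.mem_univ j) (by simp [om_swap0 ho])
    refine not_wreath (L := Finset.univ) (Ws := Function.update (fun _ => dd u) j (kk 1 u z))
      (by rwa [Finset.card_univ, Fintype.card_fin]) (fun k _ => ?_) (neg_ne_zero.2 hc) hg ?_
    · rcases eq_or_ne k j with rfl | hk
      · simpa using kind_kk hli ho
      · simpa [Function.update_of_ne hk] using kind_dd hu
    rw [hgv, rho_eq_single (j := j) fun k hk => by simp [Function.update_of_ne hk], hε, Function.update_self, TL,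
      Finset.piecewise_univ]

/-- All isometries of a factor from the root elements. -/
lemma slot_mem_of_roots (Ω : Subgroup (GL (Fin t → Fin (r + r)) F)) (i : Fin t)
    (h : ∀ (c : F) (x : E), Mem Ω (slot i (1 + c • dd x))) {A : M₁} (hA : IsSp A) : Mem Ω (slot i A) := by
  have hmul : ∀ a b : Matrix.symplecticGroup (Fin r) F, spMat (a * b) = spMat a * spMat b := fun a b => by
    rw [spMat, spMat, spMat, Matrix.submatrix_mul_equiv]; rfl
  let f : Matrix.symplecticGroup (Fin r) F →* GL (Fin t → Fin (r + r)) F :=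
    MonoidHom.mk' (fun g => slotU i (spU (spMat g) (isSp_spMat g))) fun a b => by
      rw [← map_mul]
      exact congrArg _ (Units.ext (hmul a b))
  have hle : CfsgLib.Symp.tvGroup (⊤ : Submodule F (Fin r ⊕ Fin r → F)) ≤ Ω.comap f := by
    refine (Subgroup.closure_le _).2 ?_
    rintro _ ⟨w, -, c, rfl⟩
    obtain ⟨z, hz, hzv⟩ := h (-c) (w ∘ (hv r).symm)
    have e : spMat (CfsgLib.Symp.tv w c) = 1 + (-c) • dd (w ∘ (hv r).symm) := by
      refine Matrix.ext_iff_mulVec.2 fun x => (hv r).surjective.injective_comp_right ?_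
      show _ ∘ hv r = _ ∘ hv r
      rw [spMat_mulVec, CfsgLib.Symp.tv_smul, Matrix.add_mulVec, Matrix.one_mulVec, Matrix.smul_mulVec, dd, dy_mulVec,
        om_eq_form, Function.comp_assoc w, Equiv.symm_comp_self, Function.comp_id, CfsgLib.Symp.form_swap]
      funext p
      simp [mul_assoc]
    show slotU i (spU (spMat (CfsgLib.Symp.tv w c)) _) ∈ Ω
    rwa [show slotU i (spU (spMat (CfsgLib.Symp.tv w c)) (isSp_spMat _)) = z from Units.ext (by
      rw [slotU_val, spU_val, hzv, e])]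
  rw [CfsgLib.Symp.tvGroup_eq_top] at hle
  have hg : A.submatrix (hv r) (hv r) ∈ Matrix.symplecticGroup (Fin r) F := by
    rw [SymplecticGroup.mem_iff', show Matrix.J (Fin r) F = (jm r F).submatrix (hv r) (hv r) by simp [jm_eq],
      Matrix.transpose_submatrix, Matrix.submatrix_mul_equiv, Matrix.submatrix_mul_equiv,
      show Aᵀ * jm r F * A = jm r F from hA]
  refine ⟨_, hle (Subgroup.mem_top ⟨_, hg⟩), ?_⟩
  show (slotU i (spU (spMat ⟨_, hg⟩) _) : MT) = _
  rw [slotU_val, spU_val, spMat]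
  simp

/-- The root elements of a factor from squares and commutators of isometries of that factor. -/
lemma root_of_squares [Fintype F] (hq : Hq F r) (Ω : Subgroup (GL (Fin t → Fin (r + r)) F)) (i : Fin t)
    (hsq : ∀ h : M₁, IsSp h → Mem Ω (slot i (h * h)))
    (hcomm : ∀ g h : M₁, IsSp g → IsSp h → Mem Ω (slot i (g * h * spInv g * spInv h))) (c : F) (x : E) :
    Mem Ω (slot i (1 + c • dd x)) := by
  classical
  have hroot : ∀ a b : F, ∀ u : E, (1 + a • dd u) * (1 + b • dd u) = 1 + (a + b) • dd u := fun a b u => by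
    simp only [add_mul, mul_add, one_mul, mul_one, smul_mul_smul_comm, dd_sq, smul_zero]
    module
  by_cases h2 : (2 : F) = 0
  swap
  · have := hsq _ (isSp_root (c / 2) x)
    rwa [hroot, show c / 2 + c / 2 = c by field_simp; ring] at this
  haveI := CharTwo.of_one_ne_zero_of_two_eq_zero (one_ne_zero (α := F)) h2
  obtain ⟨s, rfl⟩ := FiniteField.isSquare_of_char_two (F := F) (ringChar.eq F 2) c
  have e : (s * s) • dd x = dd (s • x) := by rw [dd, dd, dy_smul_left, dy_smul_right, smul_smul]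
  rw [e]
  generalize s • x = x
  rcases eq_or_ne x 0 with rfl | hx
  · simpa [dd, dy_zero_left, slot_one] using Mem.one
  have hB : ∀ y : E, LinearIndependent F ![y, x] → om y x = 0 → Mem Ω (slot i (1 + (dd x + nn x y))) := by
    intro y hli ho
    obtain ⟨g, hg, hgy, -⟩ := exists_shear hli ho
    have := hcomm g _ hg (isSp_root 1 y)
    rwa [one_smul, mul_add g, mul_one, add_mul, hg.mul_spInv, sp_conj_dd hg, hgy, spInv_add, spInv_one, spInv_dd,
      show (1 + dd (y + x)) * (1 + -dd y) = 1 + (dd x + nn x y) by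
        simp only [dd, nn, dy_add_left, dy_add_right, add_mul, mul_add, one_mul, mul_one, mul_neg, dy_mul_dy,
          om_self, ho, om_swap0 ho, zero_smul, add_zero, neg_zero]
        abel] at this
  obtain ⟨y, hy, hyn⟩ := exists_perp_notMem ![x] ![x] (by have := hq.two h2; omega)
  obtain ⟨y', hy', hyn'⟩ := exists_perp_notMem ![x, y] ![x, y] (by have := hq.two h2; omega)
  have hxy : LinearIndependent F ![x, y] := li_of_notMem hx 0 rfl hyn
  have hxy' : LinearIndependent F ![x, y'] := li_of_notMem hx 0 rfl hyn'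
  have hxs : LinearIndependent F ![x, y + y'] := li_of_notMem (ws := ![x, y]) hx 0 rfl fun h => hyn' (by
    have := sub_mem h (Submodule.subset_span (R := F) (s := Set.range ![x, y]) ⟨1, rfl⟩)
    simpa using this)
  have o1 : om y x = 0 := hy 0
  have o2 : om y' x = 0 := hy' 0
  have o3 : om y' y = 0 := hy' 1
  have := ((hB y (li_swap hxy) o1).mul (hB y' (li_swap hxy') o2)).mul
    (hB (y + y') (li_swap hxs) (by rw [om_add_left, o1, o2, add_zero]))
  rw [slot_mul, slot_mul] at this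
  convert this using 2
  simp only [nn, dd, dy_add_left, dy_add_right, add_mul, mul_add, one_mul, mul_one, dy_mul_dy, om_self, o1, o2, o3,
    om_swap0 o1, om_swap0 o2, om_swap0 o3, zero_smul, add_zero, zero_add, om_add_left, om_add_right]
  linear_combination (norm := module) h2 • (-dy x x - dy x y - dy y x - dy x y' - dy y' x)

/-- The stabiliser of a tensor power of a symplectic space is maximal. -/
theorem orth_tensorWreath_maximal [Fintype F] {n : ℕ} (hn : 13 ≤ n) (Q : (Fin n → F) → F)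
    (hQ : Cfsg.Geo.IsNondegenerateQuadraticForm Q) (k t : ℕ) (ht : 2 ≤ t) (hqt : Odd (Fintype.card F) → Even t)
    (hex2 : ¬ (Fintype.card F = 3 ∧ k = 2)) (hex3 : ¬ Odd (Fintype.card F) → 6 ≤ k)
    (e : (Fin n) ≃ (Fin t → Fin k)) (P : GL (Fin n) F) (f₁ : (Fin k → F) → (Fin k → F) → F)
    (hf₁ : Cfsg.Geo.IsSymplecticForm f₁)
    (hT : Cfsg.Geo.IsTensorPowerFormStructure id (QuadraticMap.polar Q) f₁ e P)
    (hpure : ∀ xs : Fin t → (Fin k → F),
      Q (Matrix.mulVec (P : Matrix (Fin n) (Fin n) F) ((fun a : Fin t → Fin k => ∏ i, xs i (a i)) ∘ e)) = 0) :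
    Cfsg.Geo.IsMaximalIn (Cfsg.Geo.omegaGL Q) (Cfsg.Geo.tensorWreathSubgroup k t e P ⊓ Cfsg.Geo.omegaGL Q) := by
  classical
  obtain ⟨Qb, rfl, hQb⟩ := CfsgLib.Geo.OS.exists_quadraticForm hQ
  obtain ⟨r, rfl, Qg, hQg⟩ := exists_gram hf₁
  have hcard : n = (r + r) ^ t := by simpa using Fintype.card_congr e
  have hr : 0 < r := by
    by_contra h
    obtain rfl : r = 0 := by omega
    rw [add_zero, zero_pow (by omega)] at hcard
    omega
  have ht4 : r = 1 → 4 ≤ t := by
    rintro rfl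
    by_contra h
    have : (1 + 1) ^ t ≤ 2 ^ 3 := Nat.pow_le_pow_right (by omega) (by omega)
    omega
  have hε : (-1 : F) ^ t = 1 := by
    by_cases h2 : (2 : F) = 0
    · rw [show (-1 : F) = 1 by linear_combination -h2, one_pow]
    · refine (hqt (Nat.odd_iff.2 (FiniteField.odd_card_of_char_ne_two fun e => h2 ?_))).neg_one_pow
      haveI := ringChar.of_eq e
      exact CharTwo.two_eq_zero
  have hq : Hq F r := by
    refine ⟨hr, fun h1 => ?_, fun h2 => ?_⟩
    · have hodd : Odd (Fintype.card F) := by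
        by_contra h
        have := hex3 h
        omega
      refine ⟨two_ne_of_odd hodd, ?_⟩
      have h1' := Fintype.one_lt_card (α := F)
      have h3 : Fintype.card F ≠ 3 := fun h => hex2 ⟨h, by omega⟩
      obtain ⟨m, hm⟩ := hodd
      rw [Nat.card_eq_fintype_card]
      omega
    · have := hex3 fun h => two_ne_of_odd h h2
      omega
  have hn5 : 5 ≤ Module.finrank F (Fin n → F) := by rw [Module.finrank_fin_fun]; omega
  obtain ⟨c, hc, hform⟩ := hT
  set TQ : GL (Fin t → Fin (r + r)) F := tensUnit fun _ => Qg with hTQ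
  have hTQm : TQ ∈ tensorWreathStandard (r + r) t F := by
    have := tensUnit_mem (F := F) (fun _ : Fin t => Qg) 1
    rwa [show permUnit (r + r) (1 : Equiv.Perm (Fin t)) = (1 : GL (Fin t → Fin (r + r)) F) from Units.ext (by
      show permMat (r + r) (1 : Equiv.Perm (Fin t)) = 1
      ext x y; simp [permMat, Matrix.one_apply, eq_comm]), mul_one] at this
  let ψ₀ := CfsgLib.Geo.Tensor.glTransport e P
  let ψ : GL (Fin t → Fin (r + r)) F ≃* GL (Fin n) F := (MulAut.conj TQ).trans ψ₀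
  let L₀ : ((Fin t → Fin (r + r)) → F) ≃ₗ[F] (Fin n → F) :=
    (LinearEquiv.funCongrLeft F F e).trans (CfsgLib.Geo.glEquiv P)
  have hL₀ : ∀ x, L₀ x = (P : Matrix (Fin n) (Fin n) F) *ᵥ (x ∘ e) :=
    fun x => CfsgLib.Geo.glEquiv_apply P (x ∘ e)
  let L : ((Fin t → Fin (r + r)) → F) ≃ₗ[F] (Fin n → F) := (CfsgLib.Geo.glEquiv TQ).trans L₀
  have hL : ∀ x, L x = L₀ ((TQ : Mt t (r + r) F) *ᵥ x) := fun x => congrArg L₀ (CfsgLib.Geo.glEquiv_apply TQ x)
  have htr : ∀ (g : GL (Fin t → Fin (r + r)) F) x, ((ψ g : GL (Fin n) F) : Matrix _ _ F) *ᵥ L x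
      = L ((g : Mt t (r + r) F) *ᵥ x) := by
    intro g x
    show (P * Cfsg.Geo.glReindex e.symm (TQ * g * TQ⁻¹) * P⁻¹).val *ᵥ L x = _
    rw [hL, hL, hL₀, hL₀, CfsgLib.Geo.mul_mulVec, CfsgLib.Geo.mul_mulVec, CfsgLib.Geo.inv_mulVec_mulVec]
    congr 1
    show (Matrix.reindexAlgEquiv F F e.symm ((TQ * g * TQ⁻¹ : GL _ F) : Mt t (r + r) F)) *ᵥ (_ ∘ e) = _
    rw [Matrix.reindexAlgEquiv_apply, Matrix.reindex_apply, Matrix.submatrix_mulVec_equiv, Equiv.symm_symm]
    congr 1
    rw [Function.comp_assoc, Equiv.self_comp_symm, Function.comp_id, CfsgLib.Geo.mul_mulVec,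
      CfsgLib.Geo.mul_mulVec, CfsgLib.Geo.inv_mulVec_mulVec]
  have hgr : (TQ : Mt t (r + r) F)ᵀ * (tens fun _ => gramMatrix f₁) * (TQ : Mt t (r + r) F) = jt t r F := by
    show (tens fun _ => (Qg : Matrix (Fin (r + r)) (Fin (r + r)) F))ᵀ * _ *
      tens (fun _ => (Qg : Matrix (Fin (r + r)) (Fin (r + r)) F)) = _
    rw [tens_transpose, tens_mul, tens_mul, jt]
    exact congrArg tens (funext fun _ => hQg)
  have hpol : ∀ x y, polar Qb (L x) (L y) = c * omT x y := by
    intro x y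
    have e1 : ∀ u v : (Fin t → Fin (r + r)) → F,
        ∑ a, ∑ b, u a * (∏ i, gramMatrix f₁ (a i) (b i)) * id (v b) = u ⬝ᵥ ((tens fun _ => gramMatrix f₁) *ᵥ v) := by
      intro u v
      simp only [dotProduct, Matrix.mulVec, Finset.mul_sum, tens, Matrix.of_apply, id, mul_assoc]
    rw [hL, hL, hL₀, hL₀, hform, e1, omT, ← Matrix.dotProduct_mulVec, ← hgr, ← Matrix.mulVec_mulVec,
      ← Matrix.mulVec_mulVec, Matrix.dotProduct_mulVec x (TQ : Mt t (r + r) F)ᵀ, Matrix.vecMul_transpose]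
  have hQpv : ∀ v : Fin t → (Fin (r + r) → F), Qb (L (pv v)) = 0 := fun v => by
    rw [hL, show (TQ : Mt t (r + r) F) = tens fun _ => (Qg : Matrix (Fin (r + r)) (Fin (r + r)) F) from rfl,
      tens_mulVec_pv, hL₀]
    exact hpure _
  have hwr : tensorWreathSubgroup (r + r) t e P = (tensorWreathStandard (r + r) t F).map ψ.toMonoidHom := by
    have hψ₀ : tensorWreathSubgroup (r + r) t e P = (tensorWreathStandard (r + r) t F).map ψ₀.toMonoidHom := by
      rw [tensorWreathSubgroup, Subgroup.map_map]; rfl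
    rw [hψ₀]
    ext z
    constructor
    · rintro ⟨g, hg, rfl⟩
      refine ⟨TQ⁻¹ * g * TQ, mul_mem (mul_mem (inv_mem hTQm) hg) hTQm, ?_⟩
      show ψ₀ (TQ * (TQ⁻¹ * g * TQ) * TQ⁻¹) = ψ₀ g
      congr 1; group
    · rintro ⟨g, hg, rfl⟩
      exact ⟨TQ * g * TQ⁻¹, mul_mem (mul_mem hTQm hg) (inv_mem hTQm), rfl⟩
  -- the isometries as matrices
  let φ : oGroup Qb →* GL (Fin n) F :=
    (Cfsg.isometryGroup F ⇑Qb).subtype.comp (isoGroupEquiv Qb).symm.toMonoidHom
  have hφ : ∀ g x, (φ g : Matrix (Fin n) (Fin n) F) *ᵥ x = g.1 x := fun g x => by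
    obtain ⟨y, rfl⟩ := (isoGroupEquiv Qb).surjective g
    show (((isoGroupEquiv Qb).symm (isoGroupEquiv Qb y)).1 : Matrix (Fin n) (Fin n) F) *ᵥ x = _
    rw [MulEquiv.symm_apply_apply, isoGroupEquiv_apply]
  have hK : (commutator (oGroup Qb)).map φ = Cfsg.Geo.omegaGL ⇑Qb := by
    show (commutator (oGroup Qb)).map
      ((Cfsg.isometryGroup F ⇑Qb).subtype.comp (isoGroupEquiv Qb).symm.toMonoidHom) = _
    rw [← Subgroup.map_map, commutator_def, Subgroup.map_commutator,
      Subgroup.map_top_of_surjective _ (isoGroupEquiv Qb).symm.surjective]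
    rfl
  have hact : ∀ {g : GL (Fin t → Fin (r + r)) F} {g₀ : oGroup Qb}, φ g₀ = ψ g → ∀ z,
      g₀.1 (L z) = L ((g : Mt t (r + r) F) *ᵥ z) := fun {g g₀} h z => by rw [← hφ, h, htr]
  have hlift : ∀ g : GL (Fin t → Fin (r + r)) F, (g : Mt t (r + r) F)ᵀ * jt t r F * (g : Mt t (r + r) F) = jt t r F →
      (∀ v, Qb (L ((g : Mt t (r + r) F) *ᵥ pv v)) = 0) → ∃ g₀ : oGroup Qb, φ g₀ = ψ g := by
    intro g hg hgv
    let S : Submodule F ((Fin t → Fin (r + r)) → F) :=
      { carrier := {x | Qb (L ((g : Mt t (r + r) F) *ᵥ x)) = Qb (L x)}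
        add_mem' := fun {x y} hx hy => by
          simp only [Set.mem_ofPred_eq] at *
          rw [Matrix.mulVec_add, L.map_add, L.map_add, QuadraticMap.map_add ⇑Qb, QuadraticMap.map_add ⇑Qb, hx, hy, hpol,
            hpol, omT_mulVec, hg, omT, Matrix.dotProduct_mulVec]
        zero_mem' := by simp
        smul_mem' := fun a x hx => by
          simp only [Set.mem_ofPred_eq] at *
          rw [Matrix.mulVec_smul, L.map_smul, L.map_smul, quad_smul, quad_smul, hx] }
    have hS : ∀ x, x ∈ S := fun x => by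
      suffices S = ⊤ by rw [this]; exact Submodule.mem_top
      rw [eq_top_iff, ← (Pi.basisFun F (Fin t → Fin (r + r))).span_eq, Submodule.span_le]
      rintro _ ⟨z, rfl⟩
      rw [Pi.basisFun_apply, ← pv_single]
      show Qb (L _) = Qb (L _)
      rw [hgv, hQpv]
    have hmem : ψ g ∈ Cfsg.isometryGroup F ⇑Qb := fun u _ => by
      show Qb (((ψ g : GL (Fin n) F) : Matrix (Fin n) (Fin n) F) *ᵥ u) = Qb u
      obtain ⟨x, rfl⟩ := L.surjective u
      rw [htr]
      exact hS x
    exact ⟨isoGroupEquiv Qb ⟨ψ g, hmem⟩, by simp [φ]⟩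
  set Ω' := (Cfsg.Geo.omegaGL ⇑Qb).comap ψ.toMonoidHom with hΩ'
  have hin : ∀ {g₀ : oGroup Qb}, g₀ ∈ commutator (oGroup Qb) → ∀ g, φ g₀ = ψ g → g ∈ Ω' := fun h g e => by
    show ψ g ∈ Cfsg.Geo.omegaGL ⇑Qb
    rw [← hK, ← e]
    exact Subgroup.mem_map_of_mem φ h
  have hgen : (∃ s : F, s ≠ 0 ∧ s ≠ 1) ∨ Module.finrank F (Fin n → F) ≠ 4 := Or.inr (by omega)
  have hsq : ∀ g, (∃ g₀, φ g₀ = ψ g) → g * g ∈ Ω' := fun g ⟨g₀, e⟩ =>
    hin (CfsgLib.Quad.sq_mem_commutator hQb hgen g₀) _ (by rw [map_mul, map_mul, e])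
  have hcm : ∀ g h, (∃ g₀, φ g₀ = ψ g) → (∃ h₀, φ h₀ = ψ h) → g * h * g⁻¹ * h⁻¹ ∈ Ω' :=
    fun g h ⟨g₀, e⟩ ⟨h₀, e'⟩ => hin (g₀ := g₀ * h₀ * g₀⁻¹ * h₀⁻¹)
      (by rw [commutator_def, ← commutatorElement_def]
          exact Subgroup.commutator_mem_commutator (Subgroup.mem_top _) (Subgroup.mem_top _)) _
      (by simp only [map_mul, map_inv, e, e'])
  have hslot : ∀ i {h : Matrix (Fin (r + r)) (Fin (r + r)) F} (hh : IsSp h),
      ∃ g₀, φ g₀ = ψ (slotU i (spU h hh)) := fun i h hh => by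
    refine hlift _ ?_ fun v => ?_
    · rw [slotU_val, spU_val, mul_jm_mul_update, show hᵀ * jm r F * h = jm r F from hh,
        Function.update_eq_self_iff.2 rfl]
      rfl
    · rw [slotU_val, slot, tens_mulVec_pv]; exact hQpv _
  have hperm : ∀ σ, ∃ g₀, φ g₀ = ψ (permUnit (r + r) σ : GL (Fin t → Fin (r + r)) F) := fun σ => by
    refine hlift _ ?_ fun v => ?_
    · show (permMat (r + r) σ : Mt t (r + r) F)ᵀ * jt t r F * permMat (r + r) σ = _
      rw [permMat_transpose, jt, permMat_mul_tens, mul_assoc]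
      conv_lhs => arg 2; arg 2; rw [← Equiv.symm_symm σ]
      rw [permMat_mul_inv, mul_one]
    · show Qb (L ((permMat (r + r) σ : Mt t (r + r) F) *ᵥ _)) = 0
      rw [permMat_mulVec_pv]; exact hQpv _
  have hroots : ∀ i (a : F) x, Mem Ω' (slot i (1 + a • dd x)) := fun i a x =>
    root_of_squares hq Ω' i (fun h hh => ⟨_, hsq _ (hslot i hh), by rw [← map_mul]; rfl⟩)
      (fun g h hg hh => ⟨_, hcm _ _ (hslot i hg) (hslot i hh), by
        rw [← map_inv, ← map_inv, ← map_mul, ← map_mul, ← map_mul]; rfl⟩) a x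
  refine isMaximalIn_of_key (fun hle => ?_) fun M hM hMI hMX => ?_
  · -- a root element is not in the wreath group
    obtain ⟨X, Y, hXY, hne⟩ := exists_rho_notMem hr ht ht4 hε hc
    have hea : polar Qb (L (pv X)) (L (pv Y)) = 0 := by rw [hpol, omT_swap hε (pv Y), hXY, mul_zero]
    have hs := siegel_mem_commutator hQb hn5 (hQpv X) hea
    obtain ⟨g, hg⟩ := ψ.surjective (φ (siegel Qb (L (pv X)) (L (pv Y))))
    have hgΩ : ψ g ∈ tensorWreathSubgroup (r + r) t e P := by
      rw [hg]; exact hle (hK ▸ Subgroup.mem_map_of_mem φ hs)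
    rw [hwr, Subgroup.mem_map] at hgΩ
    obtain ⟨g', hg', he⟩ := hgΩ
    obtain rfl : g' = g := ψ.injective he
    refine hne g' hg' (Matrix.ext_iff_mulVec.2 fun z => L.injective ?_)
    rw [← hact hg.symm, siegel_apply (hQpv X) hea, hpol, hpol, hQpv Y, Matrix.add_mulVec, Matrix.one_mulVec,
      Matrix.smul_mulVec, rho_mulVec hε, map_add, map_smul, map_sub, map_smul, map_smul]
    module
  set M' := M.comap ψ.toMonoidHom with hM'
  have hM'Ω : ∀ g, g ∈ tensorWreathStandard (r + r) t F → g ∈ Ω' → g ∈ M' := fun g h h' =>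
    hM ⟨hwr ▸ Subgroup.mem_map_of_mem ψ.toMonoidHom h, h'⟩
  have hmain : OMain M' := by
    refine ⟨⟨fun g hg => ?_, fun i h hh => ?_⟩, fun σ => ?_⟩
    · obtain ⟨g₀, -, e⟩ := Subgroup.mem_map.1 (hK.symm ▸ hMI hg : ψ g ∈ _)
      rw [iso_iff]
      refine jt_iso_of_omT _ fun x y => mul_left_cancel₀ hc ?_
      rw [← hpol, ← hpol, ← hact e, ← hact e, polar_oGroup]
    · obtain ⟨g, hg, hgv⟩ := slot_mem_of_roots Ω' i (hroots i) hh
      refine ⟨g, hM'Ω g ?_ hg, hgv⟩
      rw [show g = slotU i (spU h hh) from Units.ext hgv]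
      exact slotU_mem_wreath _ _
    · have hp : (permUnit (r + r) σ : GL (Fin t → Fin (r + r)) F) ∈ tensorWreathStandard (r + r) t F :=
        Subgroup.subset_closure (Or.inr ⟨σ, fun _ _ => rfl⟩)
      exact ⟨_, hM'Ω _ (mul_mem hp hp) (hsq _ (hperm σ)), by rw [Units.val_mul]; exact permMat_mul σ σ⟩
  rcases le_wreath_or_full hq t (by omega) M' hmain with h | ⟨-, hfull, -⟩
  · refine absurd (fun z hz => ?_) hMX
    obtain ⟨g, rfl⟩ := ψ.surjective z
    rw [hwr]
    exact Subgroup.mem_map_of_mem ψ.toMonoidHom (h hz)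
  · rw [← hK, Subgroup.map_le_iff_le_comap]
    refine commutator_le_of_roots hQb hn5 hr ht ht4 hε L hc hpol hQpv fun X Y j hXY a => ?_
    obtain ⟨g, hg, hgv⟩ := hfull X Y j hXY a
    obtain ⟨g₀, -, e⟩ := Subgroup.mem_map.1 (hK.symm ▸ hMI hg : ψ g ∈ _)
    refine ⟨g₀, ?_, fun z => by rw [hact e, hgv]⟩
    show φ g₀ ∈ M
    rw [e]
    exact hg

end CfsgLib.Geo.TensorPow.OS
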